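import Cfsg.Agent.Lib.Ree.Borel
import Cfsg.Agent.Lib.SL2.DicksonSmall

/-!
The centraliser of an involution of a small Ree group, and the Sylow 2-subgroups.
-/

set_option autoImplicit false
set_option linter.unusedSectionVars false

namespace Cfsg.Agent.Ree

open scoped MatrixGroups

universe u v

variable {K : Type u} [Field K] [Fintype K] {Γ : Type v} [Group Γ] {m : ℕ} (D : Dat K Γ m)

/-- The Weyl element of `SL₂`. -/
def qI : SL(2, K) := ⟨!![0, 1; -1, 0], by simp [Matrix.det_fin_two_of]⟩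

/-- The second quaternion generator. -/
def qJ (a b : K) (h : a ^ 2 + b ^ 2 = -1) : SL(2, K) :=
  ⟨!![a, b; b, -a], by rw [Matrix.det_fin_two_of]; linear_combination -h⟩

theorem coe_uT (t : K) : (uT t : SL(2, K)).1 = !![1, t; 0, 1] := rfl

theorem coe_lT (t : K) : (lT t : SL(2, K)).1 = !![1, 0; t, 1] := rfl

theorem coe_qI : (qI : SL(2, K)).1 = !![0, 1; -1, 0] := rfl

theorem coe_qJ (a b : K) (h : a ^ 2 + b ^ 2 = -1) : (qJ a b h).1 = !![a, b; b, -a] := rfl

theorem uT_lT_decomp (g : SL(2, K)) (hc : g.1 1 0 ≠ 0) :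
    g = uT ((g.1 0 0 - 1) / g.1 1 0) * lT (g.1 1 0) * uT ((g.1 1 1 - 1) / g.1 1 0) := by
  have hdet := Cfsg.Agent.SL2.det_eq g
  refine Cfsg.Agent.SL2.ext4 ?_ ?_ ?_ ?_ <;>
    simp [coe_uT, coe_lT, Matrix.SpecialLinearGroup.coe_mul, Matrix.mul_apply, Fin.sum_univ_two] <;> field_simp <;>
    first | linear_combination -hdet | linear_combination hdet | ring

namespace Dat

/-- The involution of the torus. -/
abbrev jI : Γ := D.H (-1)

include D

theorem jI_sq : D.jI * D.jI = 1 := by rw [jI, ← map_mul, neg_mul_neg, one_mul, map_one]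

theorem jI_ne : D.jI ≠ 1 := fun e => D.neg_one_ne (D.H_inj (e.trans (map_one _).symm))

theorem eq_neg_one_of_involution {z : Kˣ} (h1 : D.H z ≠ 1) (h2 : D.H z * D.H z = 1) : z = -1 := by
  rw [← map_mul, ← map_one D.H] at h2
  have h := D.H_inj h2
  have h3 := congrArg Units.val h
  rw [Units.val_mul, Units.val_one, ← pow_two, sq_eq_one_iff] at h3
  rcases h3 with h3 | h3
  · exact absurd (by rw [show z = 1 from Units.ext h3, map_one]) h1
  · exact Units.ext h3

theorem jI_conj_U (t u v : K) : D.jI * D.U t u v * D.jI = D.U (-t) u (-v) := by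
  have h := D.H_U (-1) t u v
  rw [← map_inv, inv_neg, inv_one] at h
  rw [jI, h]
  simp [D.w1_neg_one, D.w2_neg_one]

theorem jI_comm_U {t u v : K} : Commute D.jI (D.U t u v) ↔ t = 0 ∧ v = 0 := by
  show D.H (-1) * _ = _ ↔ _
  rw [D.H_conj_eq]
  constructor
  · rintro (e | ⟨-, h1, h2⟩ | ⟨h1, -, h2⟩)
    · exact absurd (Units.ext (by simpa using e) : (-1 : Kˣ) = 1) D.neg_one_ne
    · exact ⟨h1, h2⟩
    · exact ⟨h1, h2⟩
  · rintro ⟨rfl, rfl⟩
    exact Or.inr (Or.inl ⟨by simp, rfl, rfl⟩)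

theorem jI_comm_H (z : Kˣ) : Commute D.jI (D.H z) := (Commute.all (-1 : Kˣ) z).map D.H

theorem jI_comm_w : Commute D.jI D.w := by
  show D.H (-1) * D.w = D.w * D.H (-1)
  rw [D.w_H', inv_neg, inv_one]

/-- The centraliser of the torus involution. -/
def CJ : Subgroup Γ := Subgroup.centralizer {D.jI}

theorem mem_CJ {g : Γ} : g ∈ D.CJ ↔ Commute D.jI g := by
  rw [CJ, Subgroup.mem_centralizer_singleton_iff]
  exact eq_comm

theorem small_comm {t u v : K} {z : Kˣ} :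
    Commute D.jI (D.U t u v * D.H z) ↔ t = 0 ∧ v = 0 := by
  rw [← D.jI_comm_U (u := u)]
  exact ⟨fun h => by simpa using h.mul_right (D.jI_comm_H z).inv_right,
    fun h => h.mul_right (D.jI_comm_H z)⟩

theorem big_comm {t u v t' u' v' : K} {z : Kˣ} :
    Commute D.jI (D.U t u v * D.H z * D.w * D.U t' u' v') ↔ t = 0 ∧ v = 0 ∧ t' = 0 ∧ v' = 0 := by
  constructor
  · intro h
    have e : D.U t u v * D.H z * D.w * D.U t' u' v' = D.jI * (D.U t u v * D.H z * D.w * D.U t' u' v') * D.jI := by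
      rw [h.eq, mul_assoc _ D.jI D.jI, D.jI_sq, mul_one]
    have e2 : D.jI * (D.U t u v * D.H z * D.w * D.U t' u' v') * D.jI =
        (D.jI * D.U t u v * D.jI) * D.H z * D.w * (D.jI * D.U t' u' v' * D.jI) := by
      have hj : D.jI * (D.H z * D.w) * D.jI = D.H z * D.w := by
        rw [((D.jI_comm_H z).mul_right D.jI_comm_w).eq, mul_assoc _ D.jI D.jI, D.jI_sq, mul_one]
      have hi : D.jI⁻¹ = D.jI := inv_eq_of_mul_eq_one_right D.jI_sq
      calc D.jI * (D.U t u v * D.H z * D.w * D.U t' u' v') * D.jI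
          = D.jI * D.U t u v * D.jI * (D.jI⁻¹ * (D.H z * D.w) * D.jI⁻¹) * (D.jI * D.U t' u' v' * D.jI) := by group
        _ = _ := by rw [hi, hj]; group
    rw [e2, D.jI_conj_U, D.jI_conj_U] at e
    obtain ⟨h1, -, h2, -, h3, -, h4⟩ := D.big_inj e
    have two := D.two_ne
    refine ⟨?_, ?_, ?_, ?_⟩ <;> refine (mul_eq_zero.1 (?_ : (2 : K) * _ = 0)).resolve_left two
    · linear_combination h1
    · linear_combination h2
    · linear_combination h3
    · linear_combination h4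
  · rintro ⟨rfl, rfl, rfl, rfl⟩
    exact (((D.jI_comm_U.2 ⟨rfl, rfl⟩).mul_right (D.jI_comm_H z)).mul_right D.jI_comm_w).mul_right
      (D.jI_comm_U.2 ⟨rfl, rfl⟩)

theorem card_CJ : Nat.card D.CJ = Fintype.card K * (Fintype.card K - 1) * (Fintype.card K + 1) := by
  classical
  let f : (K × Kˣ) ⊕ (K × Kˣ × K) → D.CJ := Sum.elim
    (fun p => ⟨D.U 0 p.1 0 * D.H p.2, D.mem_CJ.2 (D.small_comm.2 ⟨rfl, rfl⟩)⟩)
    (fun p => ⟨D.U 0 p.1 0 * D.H p.2.1 * D.w * D.U 0 p.2.2 0,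
      D.mem_CJ.2 (D.big_comm.2 ⟨rfl, rfl, rfl, rfl⟩)⟩)
  have hf : Function.Bijective f := by
    constructor
    · rintro (⟨u, z⟩ | ⟨u, z, b⟩) (⟨u', z'⟩ | ⟨u', z', b'⟩) h <;>
        simp only [f, Sum.elim_inl, Sum.elim_inr, Subtype.mk.injEq] at h
      · obtain ⟨-, rfl, -, rfl⟩ := D.UH_inj h
        rfl
      · exact absurd (h ▸ D.mem_BG.2 ⟨_, _, _, z, rfl⟩) (D.not_mem_BG _ _ _ _ _ _ _)
      · exact absurd (h.symm ▸ D.mem_BG.2 ⟨_, _, _, z', rfl⟩) (D.not_mem_BG _ _ _ _ _ _ _)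
      · obtain ⟨-, rfl, -, rfl, -, rfl, -⟩ := D.big_inj h
        rfl
    · rintro ⟨g, hg⟩
      rcases D.cases g with ⟨t, u, v, z, rfl⟩ | ⟨t, u, v, z, t', u', v', rfl⟩
      · obtain ⟨rfl, rfl⟩ := D.small_comm.1 (D.mem_CJ.1 hg)
        exact ⟨Sum.inl ⟨u, z⟩, rfl⟩
      · obtain ⟨rfl, rfl, rfl, rfl⟩ := D.big_comm.1 (D.mem_CJ.1 hg)
        exact ⟨Sum.inr ⟨u, z, u'⟩, rfl⟩
  rw [← Nat.card_eq_of_bijective f hf]
  simp only [Nat.card_eq_fintype_card, Fintype.card_sum, Fintype.card_prod, Fintype.card_units]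
  ring

theorem ψ_comm (g : SL(2, K)) : Commute D.jI (D.ψ g) := by
  have hu : ∀ a, Commute D.jI (D.ψ (uT a)) := fun a => by rw [D.ψ_upper]; exact D.jI_comm_U.2 ⟨rfl, rfl⟩
  have hl : ∀ a, Commute D.jI (D.ψ (lT a)) := fun a => by
    rw [D.ψ_lower]
    exact (D.jI_comm_w.mul_right (D.jI_comm_U.2 ⟨rfl, rfl⟩)).mul_right D.jI_comm_w
  have big : ∀ g : SL(2, K), g.1 1 0 ≠ 0 → Commute D.jI (D.ψ g) := fun g hg => by
    rw [uT_lT_decomp g hg, map_mul, map_mul]
    exact ((hu _).mul_right (hl _)).mul_right (hu _)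
  by_cases hg : g.1 1 0 = 0
  · have h : (g * lT 1).1 1 0 ≠ 0 := by
      have hdet := Cfsg.Agent.SL2.det_eq g
      simp [coe_lT, Matrix.SpecialLinearGroup.coe_mul, Matrix.mul_apply, Fin.sum_univ_two, hg]
      intro h
      rw [hg, h] at hdet
      simp at hdet
    have := (big _ h).mul_right (hl 1).inv_right
    rwa [← map_inv, ← map_mul, mul_inv_cancel_right] at this
  · exact big g hg

theorem ψ_eq_one_or_jI {g : SL(2, K)} (h : D.ψ g = 1 ∨ D.ψ g = D.jI) : g = 1 ∨ g = -1 := by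
  have hB : ∀ g : SL(2, K), (D.ψ g = 1 ∨ D.ψ g = D.jI) → g.1 1 0 = 0 := by
    intro g hg
    by_contra hc
    have hmem : D.ψ g ∈ D.BG := by
      rcases hg with e | e <;> rw [e]
      exacts [one_mem _, D.H_mem_BG _]
    rw [uT_lT_decomp g hc, map_mul, map_mul, D.ψ_upper, D.ψ_upper, D.ψ_lower,
      Subgroup.mul_mem_cancel_right _ (D.U_mem_BG _ _ _),
      Subgroup.mul_mem_cancel_left _ (D.U_mem_BG _ _ _)] at hmem
    exact hc (neg_eq_zero.1 (D.w_U_mem hmem).2.1)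
  have hcen : ∀ x : SL(2, K), D.ψ (x * g * x⁻¹) = D.ψ g := by
    intro x
    rw [map_mul, map_mul, map_inv]
    rcases h with e | e <;> rw [e]
    · simp
    · rw [← (D.ψ_comm x).eq, mul_inv_cancel_right]
  have h10 := hB g h
  have h01 : g.1 0 1 = 0 := by
    have := hB (qI * g * qI⁻¹) (by rw [hcen]; exact h)
    simpa [coe_qI, Matrix.vecMul, dotProduct, Matrix.SpecialLinearGroup.coe_mul, Matrix.mul_apply, Fin.sum_univ_two, Cfsg.Agent.SL2.coe_inv', Cfsg.Agent.SL2.tr] using this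
  have hdet := Cfsg.Agent.SL2.det_eq g
  rw [h01, h10] at hdet
  have hconj : g * uT 1 = uT (g.1 0 0 ^ 2) * g := by
    refine Cfsg.Agent.SL2.ext4 ?_ ?_ ?_ ?_ <;>
      simp [coe_uT, Matrix.SpecialLinearGroup.coe_mul, Matrix.mul_apply, Fin.sum_univ_two, h01, h10]
    linear_combination (-(g.1 0 0)) * hdet
  have e := congrArg D.ψ hconj
  rw [map_mul, map_mul] at e
  have hc2 : D.ψ g * D.ψ (uT 1) = D.ψ (uT 1) * D.ψ g := by
    have := congrArg (· * D.ψ (uT 1)) (hcen (uT 1))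
    simp only [map_mul, map_inv, inv_mul_cancel_right] at this
    exact this.symm
  rw [hc2, mul_left_inj, D.ψ_upper, D.ψ_upper] at e
  have hsq := (D.U_inj e).2.1
  rcases sq_eq_one_iff.1 hsq.symm with ha | ha
  · left
    refine Cfsg.Agent.SL2.ext4 ?_ ?_ ?_ ?_ <;> simp [ha, h01, h10]
    rw [ha] at hdet; linear_combination hdet
  · right
    refine Cfsg.Agent.SL2.ext4 ?_ ?_ ?_ ?_ <;> simp [ha, h01, h10]
    rw [ha] at hdet; linear_combination -hdet

theorem ψ_ne_jI (g : SL(2, K)) : D.ψ g ≠ D.jI := by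
  intro h
  rcases D.ψ_eq_one_or_jI (Or.inr h) with rfl | rfl
  · rw [map_one] at h; exact D.jI_ne h.symm
  · rw [D.ψ_neg] at h; exact D.jI_ne h.symm

theorem ψ_eq_iff {g h : SL(2, K)} : D.ψ g = D.ψ h ↔ h = g ∨ h = -g := by
  constructor
  · intro e
    rcases D.ψ_eq_one_or_jI (g := g⁻¹ * h) (Or.inl (by rw [map_mul, map_inv, e, inv_mul_cancel])) with e1 | e1
    · exact Or.inl (inv_mul_eq_one.1 e1).symm
    · exact Or.inr (by rw [inv_mul_eq_iff_eq_mul] at e1; rw [e1, mul_neg, mul_one])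
  · rintro (rfl | rfl)
    · rfl
    · rw [show -g = -1 * g by simp, map_mul, D.ψ_neg, one_mul]

theorem exists_CJ_equiv : ∃ e : Multiplicative (ZMod 2) × Matrix.ProjectiveSpecialLinearGroup (Fin 2) K ≃* D.CJ,
    ∀ a x, ((e (a, QuotientGroup.mk x)) : Γ) = D.ψ x ∨
      ((e (a, QuotientGroup.mk x)) : Γ) = D.jI * D.ψ x := by
  classical
  haveI := D.finite
  have hker : Subgroup.center (SL(2, K)) ≤ D.ψ.ker := by
    intro g hg
    rw [← Cfsg.Agent.SL2.scal_iff_mem_center, Cfsg.Agent.SL2.scal_iff] at hg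
    rcases hg with rfl | rfl
    exacts [map_one _, D.ψ_neg]
  let g' : Matrix.ProjectiveSpecialLinearGroup (Fin 2) K →* Γ := QuotientGroup.lift _ D.ψ hker
  let f' : Multiplicative (ZMod 2) →* Γ :=
    MonoidHom.mk' (fun a => if a = 1 then 1 else D.jI) fun a b => by
      obtain rfl | rfl : a = 1 ∨ a = Multiplicative.ofAdd 1 := by revert a; decide
      · simp
      obtain rfl | rfl : b = 1 ∨ b = Multiplicative.ofAdd 1 := by revert b; decide
      · simp
      · rw [if_pos (by decide), if_neg (by decide), D.jI_sq]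
  have hg' : ∀ x : SL(2, K), g' (QuotientGroup.mk x) = D.ψ x := fun x => rfl
  have hf' : ∀ a, f' a = 1 ∨ f' a = D.jI := fun a => by
    by_cases h : a = 1
    · exact Or.inl (if_pos h)
    · exact Or.inr (if_neg h)
  have hcomm : ∀ a b, Commute (f' a) (g' b) := fun a b => by
    obtain ⟨x, rfl⟩ := QuotientGroup.mk_surjective b
    rw [hg']
    rcases hf' a with e | e <;> rw [e]
    exacts [Commute.one_left _, D.ψ_comm x]
  let F := MonoidHom.noncommCoprod f' g' hcomm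
  have hF : ∀ p, F p ∈ D.CJ := by
    rintro ⟨a, b⟩
    obtain ⟨x, rfl⟩ := QuotientGroup.mk_surjective b
    rw [D.mem_CJ, MonoidHom.noncommCoprod_apply]
    refine Commute.mul_right ?_ (D.ψ_comm x)
    rcases hf' a with e | e <;> rw [e]
    exacts [Commute.one_right _, Commute.refl _]
  let F' := F.codRestrict D.CJ hF
  have hinj : Function.Injective F' := by
    rw [← MonoidHom.ker_eq_bot_iff, eq_bot_iff]
    rintro ⟨a, b⟩ h
    obtain ⟨x, rfl⟩ := QuotientGroup.mk_surjective b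
    have h' : f' a * D.ψ x = 1 := congrArg Subtype.val (MonoidHom.mem_ker.1 h)
    rcases hf' a with e | e <;> rw [e] at h'
    · rw [one_mul] at h'
      have hx : x ∈ Subgroup.center (SL(2, K)) := by
        rw [← Cfsg.Agent.SL2.scal_iff_mem_center, Cfsg.Agent.SL2.scal_iff]
        exact D.ψ_eq_one_or_jI (Or.inl h')
      have ha : a = 1 := by
        by_contra hne
        have : f' a = D.jI := if_neg hne
        exact D.jI_ne (this.symm.trans e)
      rw [Subgroup.mem_bot, ha, (QuotientGroup.eq_one_iff x).2 hx]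
      rfl
    · have : D.ψ x = D.jI := by
        rw [← mul_right_inj D.jI, h', D.jI_sq]
      exact absurd this (D.ψ_ne_jI x)
  haveI : Finite (Matrix.ProjectiveSpecialLinearGroup (Fin 2) K) :=
    Finite.of_surjective _ Cfsg.Agent.SL2.π_surjective
  have hodd : Odd (Fintype.card K) := by rw [D.card_eq]; exact Odd.pow (by decide)
  refine ⟨MulEquiv.ofBijective F' ((Nat.bijective_iff_injective_and_card _).2 ⟨hinj, ?_⟩), fun a x => ?_⟩
  swap
  · show f' a * D.ψ x = D.ψ x ∨ f' a * D.ψ x = _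
    rcases hf' a with e | e <;> rw [e]
    exacts [Or.inl (one_mul _), Or.inr rfl]
  rw [Nat.card_prod, D.card_CJ, show Nat.card (Multiplicative (ZMod 2)) = 2 by
    rw [Nat.card_congr Multiplicative.toAdd, Nat.card_zmod], Cfsg.Agent.SL2.card_psl_odd hodd, mul_assoc]

theorem CJ_equiv : Nonempty (D.CJ ≃*
    Multiplicative (ZMod 2) × Matrix.ProjectiveSpecialLinearGroup (Fin 2) K) :=
  let ⟨e, _⟩ := D.exists_CJ_equiv
  ⟨e.symm⟩

theorem CJ_cases {g : Γ} (hg : Commute D.jI g) : ∃ x, g = D.ψ x ∨ g = D.jI * D.ψ x := by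
  obtain ⟨e, he⟩ := D.exists_CJ_equiv
  obtain ⟨⟨a, b⟩, hab⟩ := e.surjective ⟨g, D.mem_CJ.2 hg⟩
  obtain ⟨x, rfl⟩ := QuotientGroup.mk_surjective b
  refine ⟨x, ?_⟩
  have := he a x
  rwa [hab] at this

theorem exists_sq_sum : ∃ a b : K, a ^ 2 + b ^ 2 = -1 := by
  classical
  obtain ⟨a, b, h⟩ := FiniteField.exists_root_sum_quadratic (R := K)
    (f := Polynomial.X ^ 2) (g := Polynomial.X ^ 2 + Polynomial.C (1 : K))
    (Polynomial.degree_X_pow 2) (Polynomial.degree_X_pow_add_C (by norm_num) 1)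
    (by rw [D.card_eq, Nat.pow_mod]; simp)
  refine ⟨a, b, ?_⟩
  simp at h
  linear_combination h

theorem ψ_sq_neg {g : SL(2, K)} (h : g * g = -1) : D.ψ g * D.ψ g = 1 := by
  rw [← map_mul, h, D.ψ_neg]

/-- The data of a standard elementary abelian subgroup of order eight. -/
structure Four (D : Dat K Γ m) where
  a : K
  b : K
  hab : a ^ 2 + b ^ 2 = -1

theorem nonempty_four : Nonempty D.Four := by
  obtain ⟨a, b, h⟩ := D.exists_sq_sum
  exact ⟨⟨a, b, h⟩⟩

end Dat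

end Cfsg.Agent.Ree
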