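import Cfsg.Agent.Lib.Ree.Borel
import Cfsg.Agent.Lib.SchurSplit.SmallSylow

/-!
No stem extension of a small Ree group beyond the smallest one has kernel of order three.
-/

set_option autoImplicit false
set_option linter.unusedSectionVars false

namespace Cfsg.Agent.Ree

open scoped commutatorElement

universe u v

variable {K : Type u} [Field K] [Fintype K] {Γ : Type v} [Group Γ] {m : ℕ} (D : Dat K Γ m)

namespace Dat

include D

/-- Powers below the order of the multiplicative group separate. -/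
theorem pow_separates {a b : ℕ} (ha : a < Fintype.card K - 1) (hb : b < Fintype.card K - 1)
    (h : ∀ z : Kˣ, z ^ a = z ^ b) : a = b := by
  classical
  obtain ⟨g, hg⟩ := IsCyclic.exists_generator (α := Kˣ)
  have ho : orderOf g = Fintype.card K - 1 := by
    rw [orderOf_eq_card_of_forall_mem_zpowers hg, Nat.card_eq_fintype_card, Fintype.card_units]
  exact pow_injOn_Iio_orderOf (by rwa [Set.mem_Iio, ho]) (by rwa [Set.mem_Iio, ho]) (h g)

theorem w2_image {x : K} (hx : x ≠ 0) : ∃ z : Kˣ, w2 D.σ z = x ^ 2 := by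
  classical
  let f : Kˣ →* Kˣ := MonoidHom.mk' (fun z => Units.mk0 (w2 D.σ z) (D.w2_ne z.ne_zero))
    fun a b => Units.ext (by simp only [w2, Units.val_mul, Units.val_mk0, map_mul, div_mul_div_comm])
  let s : Kˣ →* Kˣ := powMonoidHom 2
  have hle : f.range ≤ s.range := by
    rintro _ ⟨z, rfl⟩
    have hodd : Odd (3 ^ (m + 1) : ℕ) := Odd.pow (by decide)
    obtain ⟨k, hk⟩ := hodd
    refine ⟨z ^ k, Units.ext ?_⟩
    show ((z ^ k : Kˣ) ^ 2 : Kˣ).val = D.σ z / z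
    rw [D.σ_pow, hk, eq_div_iff z.ne_zero, Units.val_pow_eq_pow_val, Units.val_pow_eq_pow_val]
    ring
  have hker : f.ker = s.ker := by
    ext z
    rw [MonoidHom.mem_ker, MonoidHom.mem_ker, Units.ext_iff, Units.ext_iff]
    show w2 D.σ z = 1 ↔ ((z ^ 2 : Kˣ) : K) = 1
    rw [D.w2_eq_one z.ne_zero, Units.val_pow_eq_pow_val, sq_eq_one_iff]
  have hcard : Nat.card s.range ≤ Nat.card f.range := by
    rw [← Subgroup.index_ker, ← Subgroup.index_ker, hker]
  have e := Subgroup.eq_of_le_of_card_ge hle hcard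
  obtain ⟨z, hz⟩ : Units.mk0 x hx ^ 2 ∈ f.range := e ▸ ⟨Units.mk0 x hx, rfl⟩
  exact ⟨z, by simpa [f, Units.ext_iff] using hz⟩

theorem w1_image {x : K} (hx : x ≠ 0) : ∃ z : Kˣ, w1 D.σ z = x := by
  classical
  let f : Kˣ → Kˣ := fun z => Units.mk0 (w1 D.σ z) (D.w1_ne z.ne_zero)
  have hinj : Function.Injective f := by
    intro a b h
    have h1 : w1 D.σ a = w1 D.σ b := by simpa [f, Units.ext_iff] using h
    have h2 : w1 D.σ ((a : K) / b) = 1 := by
      have ha := a.ne_zero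
      have hb := b.ne_zero
      have hσa : D.σ a ≠ 0 := (map_ne_zero D.σ).2 ha
      have hσb : D.σ b ≠ 0 := (map_ne_zero D.σ).2 hb
      have h1' : (a : K) ^ 2 * D.σ b = b ^ 2 * D.σ a := by
        unfold w1 at h1; rwa [div_eq_div_iff hσa hσb] at h1
      unfold w1
      rw [map_div₀]
      field_simp
      linear_combination h1'
    exact Units.ext ((div_eq_one_iff_eq b.ne_zero).1 ((D.w1_eq_one (div_ne_zero a.ne_zero b.ne_zero)).1 h2))
  obtain ⟨z, hz⟩ := Finite.injective_iff_surjective.1 hinj (Units.mk0 x hx)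
  exact ⟨z, by simpa [f, Units.ext_iff] using hz⟩

/-- A biadditive form invariant under two characters of the torus is trivial unless one is the
inverse of a field endomorphism applied to the other. -/
theorem form_eq_one {M : Type*} [CommGroup M] (β : K → K → M)
    (hl : ∀ a b c, β (a + b) c = β a c * β b c) (hr : ∀ a b c, β a (b + c) = β a b * β a c)
    (χa χb : K → K) (hne : ∀ z : Kˣ, χa z ≠ 0) (hinv : ∀ (z : Kˣ) a b, β (χa z * a) (χb z * b) = β a b)
    (himg : ∀ x : K, x ≠ 0 → ∃ z : Kˣ, χb z = x ^ 2)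
    (hj : ∀ j < 2 * m + 1, ¬ ∀ z : Kˣ, χa z * χb z ^ 3 ^ j = 1) : ∀ a b, β a b = 1 := by
  classical
  haveI := D.charP
  haveI := Fact.mk Nat.prime_three
  have h0l : ∀ c, β 0 c = 1 := fun c => by simpa using hl 0 0 c
  have h0r : ∀ a, β a 0 = 1 := fun a => by simpa using hr a 0 0
  have hnl : ∀ a c, β (-a) c = (β a c)⁻¹ := fun a c =>
    eq_inv_of_mul_eq_one_left (by rw [← hl, neg_add_cancel, h0l])
  have hnr : ∀ a c, β a (-c) = (β a c)⁻¹ := fun a c =>
    eq_inv_of_mul_eq_one_left (by rw [← hr, neg_add_cancel, h0r])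
  let R : Subring (K × K) :=
    { carrier := {p | ∀ a b, β (p.2 * a) b = β a (p.1 * b)}
      one_mem' := fun a b => by simp
      zero_mem' := fun a b => by simp [h0l, h0r]
      mul_mem' := fun {p r} hp hr' a b => by
        simp only [Set.mem_setOf_eq, Prod.fst_mul, Prod.snd_mul] at *
        rw [mul_assoc, hp, hr', ← mul_assoc, mul_comm r.1]
      add_mem' := fun {p r} hp hr' a b => by
        simp only [Set.mem_setOf_eq, Prod.fst_add, Prod.snd_add] at *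
        rw [add_mul, add_mul, hl, hr, hp, hr']
      neg_mem' := fun {p} hp a b => by
        simp only [Set.mem_setOf_eq, Prod.fst_neg, Prod.snd_neg] at *
        rw [neg_mul, neg_mul, hnl, hnr, hp] }
  by_contra hne1
  push_neg at hne1
  obtain ⟨a0, b0, hab⟩ := hne1
  have hfun : ∀ x y y', (x, y) ∈ R → (x, y') ∈ R → y = y' := by
    intro x y y' h h'
    by_contra hyy
    have hd : (0, y - y') ∈ R := by simpa using R.sub_mem h h'
    have := hd ((y - y')⁻¹ * a0) b0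
    simp only [mul_inv_cancel_left₀ (sub_ne_zero.2 hyy), zero_mul, h0r] at this
    exact hab this
  let D0 : Subring K := R.map (RingHom.fst K K)
  have hgen : ∀ z : Kˣ, (χb z, (χa z)⁻¹) ∈ R := fun z a b => by
    show β ((χa z)⁻¹ * a) b = β a (χb z * b)
    conv_lhs => rw [← hinv z]
    rw [mul_inv_cancel_left₀ (hne z)]
  have hsq : ∀ x : K, x ^ 2 ∈ D0 := by
    intro x
    by_cases hx : x = 0
    · rw [hx, zero_pow two_ne_zero]; exact D0.zero_mem
    obtain ⟨z, hz⟩ := himg x hx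
    exact ⟨_, hgen z, hz⟩
  have htot : ∀ x : K, ∃ y, (x, y) ∈ R := by
    intro x
    have hx : x ∈ D0 := by
      have h2 := D.two_ne
      have e : x = ((1 + x) ^ 2 - x ^ 2 - 1) * ((2 : K) ^ 2)⁻¹ * 2 := by field_simp; ring
      have h4 : ((2 : K) ^ 2)⁻¹ = 1 := by rw [inv_eq_one]; linear_combination D.three
      rw [e, h4, mul_one, mul_two]
      exact add_mem (sub_mem (sub_mem (hsq _) (hsq _)) D0.one_mem)
        (sub_mem (sub_mem (hsq _) (hsq _)) D0.one_mem)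
    obtain ⟨p, hp, e⟩ := hx
    exact ⟨p.2, by rw [← e]; exact hp⟩
  choose g hg using htot
  let g' : K →+* K :=
    { toFun := g
      map_one' := hfun 1 _ _ (hg 1) R.one_mem
      map_mul' := fun a b => hfun _ _ _ (hg _) (R.mul_mem (hg a) (hg b))
      map_zero' := hfun 0 _ _ (hg 0) R.zero_mem
      map_add' := fun a b => hfun _ _ _ (hg _) (R.add_mem (hg a) (hg b)) }
  letI : Algebra (ZMod 3) K := ZMod.algebra K 3
  let e : K →ₐ[ZMod 3] K := AlgHom.mk g' fun r =>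
    DFunLike.congr_fun (RingHom.ext_zmod (g'.comp (algebraMap (ZMod 3) K)) (algebraMap (ZMod 3) K)) r
  obtain ⟨j, hj'⟩ := (FiniteField.bijective_frobeniusAlgHom_pow (ZMod 3) K).2 e
  have hrank : Module.finrank (ZMod 3) K = 2 * m + 1 := by
    have h := Module.card_eq_pow_finrank (K := ZMod 3) (V := K)
    rw [ZMod.card, D.card_eq] at h
    exact (Nat.pow_right_injective (le_refl 2 |>.trans (by norm_num)) h).symm
  refine hj j.1 (hrank ▸ j.2) fun z => ?_
  have h1 : g (χb z) = (χa z)⁻¹ := hfun _ _ _ (hg _) (hgen z)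
  have h2 : e (χb z) = χb z ^ 3 ^ j.1 := by
    rw [← hj', AlgHom.coe_pow, FiniteField.coe_frobeniusAlgHom, pow_iterate, ZMod.card]
  rw [← h2, show e (χb z) = g (χb z) from rfl, h1, mul_inv_cancel₀ (hne z)]

variable {E : Type*} [Group E] [Finite E]

theorem comap_UG (hm : 1 ≤ m) (π : E →* Γ) (hπ : Function.Surjective π)
    (hck : π.ker ≤ Subgroup.center E) (hcard : Nat.card π.ker = 3) :
    ⁅D.UG.comap π, D.UG.comap π⁆ ⊓ π.ker = ⊥ := by
  classical
  have hq : Fintype.card K = 3 * (3 ^ m) ^ 2 := by rw [D.card_eq, pow_succ, ← pow_mul]; ring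
  have h3m : 3 ≤ 3 ^ m := by
    calc 3 = 3 ^ 1 := by norm_num
      _ ≤ 3 ^ m := Nat.pow_le_pow_right (by norm_num) hm
  have hjbound : ∀ j < 2 * m + 1, 3 ^ j ≤ (3 ^ m) ^ 2 := fun j hj => by
    rw [← pow_mul]; exact Nat.pow_le_pow_right (by norm_num) (by omega)
  choose L hL using hπ
  have hcen : ∀ v : E, π v = 1 → ∀ x : E, Commute v x := fun v hv x =>
    (Subgroup.mem_center_iff.1 (hck (MonoidHom.mem_ker.2 hv)) x).symm
  have hk3 : ∀ v : E, π v = 1 → v ^ 3 = 1 := fun v hv => by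
    have := pow_card_eq_one' (x := (⟨v, MonoidHom.mem_ker.2 hv⟩ : π.ker))
    rw [hcard] at this
    simpa [Subtype.ext_iff] using this
  have hker : ∀ {x y : E}, π x = π y → ∃ v, π v = 1 ∧ x = y * v := fun {x y} h =>
    ⟨y⁻¹ * x, by rw [map_mul, map_inv, h, inv_mul_cancel], (mul_inv_cancel_left _ _).symm⟩
  have hwell : ∀ {x x' y y' : E}, π x = π x' → π y = π y' → ⁅x, y⁆ = ⁅x', y'⁆ := by
    intro x x' y y' hx hy
    obtain ⟨v, hv, rfl⟩ := hker hx
    obtain ⟨w, hw, rfl⟩ := hker hy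
    simp only [commutatorElement_def, mul_inv_rev]
    calc x' * v * (y' * w) * (v⁻¹ * x'⁻¹) * (w⁻¹ * y'⁻¹)
        = x' * v * y' * (w * (v⁻¹ * x'⁻¹)) * w⁻¹ * y'⁻¹ := by group
      _ = x' * v * y' * ((v⁻¹ * x'⁻¹) * w) * w⁻¹ * y'⁻¹ := by rw [(hcen w hw _).eq]
      _ = x' * (v * y') * v⁻¹ * x'⁻¹ * y'⁻¹ := by group
      _ = x' * (y' * v) * v⁻¹ * x'⁻¹ * y'⁻¹ := by rw [(hcen v hv _).eq]
      _ = x' * y' * x'⁻¹ * y'⁻¹ := by group
  have hmulr : ∀ a b c : E, ⁅a * b, c⁆ = a * ⁅b, c⁆ * a⁻¹ * ⁅a, c⁆ := fun a b c => by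
    simp only [commutatorElement_def]; group
  have hmull : ∀ a b c : E, ⁅a, b * c⁆ = ⁅a, b⁆ * (b * ⁅a, c⁆ * b⁻¹) := fun a b c => by
    simp only [commutatorElement_def]; group
  let T : Kˣ → E := fun z => L (D.H z)
  letI : CommGroup π.ker :=
    { (inferInstance : Group π.ker) with mul_comm := fun x y => Subtype.ext (hcen x.1 x.2 y.1).eq }
  have kpow : ∀ x : π.ker, x * x = 1 → x = 1 := fun x h2 => by
    have h3 := hk3 x.1 x.2
    have h2' : (x : E) * x = 1 := congrArg Subtype.val h2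
    refine Subtype.ext ?_
    rwa [pow_succ, pow_two, h2', one_mul] at h3
  -- the three layers
  let l1 : K → E := fun t => L (D.U t 0 0)
  let l2 : K → E := fun u => L (D.U 0 u 0)
  let l3 : K → E := fun v => L (D.U 0 0 v)
  have e2 : ∀ u u', π (l2 (u + u')) = π (l2 u * l2 u') := fun u u' => by
    simp only [l2, map_mul, hL, D.U_layer, add_zero]
  have e3 : ∀ v v', π (l3 (v + v')) = π (l3 v * l3 v') := fun v v' => by
    simp only [l3, map_mul, hL, D.U_layer, add_zero]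
  have c2 : ∀ (z : Kˣ) u, π (T z * l2 u * (T z)⁻¹) = π (l2 (w2 D.σ z * u)) := fun z u => by
    simp only [T, l2, map_mul, map_inv, hL, D.H_U, mul_zero]
  have c3 : ∀ (z : Kˣ) v, π (T z * l3 v * (T z)⁻¹) = π (l3 ((z : K) * v)) := fun z v => by
    simp only [T, l3, map_mul, map_inv, hL, D.H_U, mul_zero]
  have c1 : ∀ (z : Kˣ) t, π (T z * l1 t * (T z)⁻¹) = π (l1 (w1 D.σ z * t)) := fun z t => by
    simp only [T, l1, map_mul, map_inv, hL, D.H_U, mul_zero]
  -- biadditive commutator forms with values in the kernel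
  have form : ∀ (la lb : K → E) (χa χb : K → K),
      (∀ a a', π (la (a + a')) = π (la a * la a')) → (∀ b b', π (lb (b + b')) = π (lb b * lb b')) →
      (∀ a b, π ⁅la a, lb b⁆ = 1) →
      (∀ (z : Kˣ) a, π (T z * la a * (T z)⁻¹) = π (la (χa z * a))) →
      (∀ (z : Kˣ) b, π (T z * lb b * (T z)⁻¹) = π (lb (χb z * b))) →
      ∃ β : K → K → π.ker, (∀ a b, (β a b : E) = ⁅la a, lb b⁆) ∧
        (∀ a b c, β (a + b) c = β a c * β b c) ∧ (∀ a b c, β a (b + c) = β a b * β a c) ∧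
        ∀ (z : Kˣ) a b, β (χa z * a) (χb z * b) = β a b := by
    intro la lb χa χb ha hb hk hca hcb
    refine ⟨fun a b => ⟨_, MonoidHom.mem_ker.2 (hk a b)⟩, fun a b => rfl, fun a b c => Subtype.ext ?_,
      fun a b c => Subtype.ext ?_, fun z a b => Subtype.ext ?_⟩
    · show ⁅la (a + b), lb c⁆ = ⁅la a, lb c⁆ * ⁅la b, lb c⁆
      rw [hwell (ha a b) rfl, hmulr, (hcen _ (hk b c) (la a)).symm.eq, mul_inv_cancel_right,
        (hcen _ (hk b c) _).eq]
    · show ⁅la a, lb (b + c)⁆ = ⁅la a, lb b⁆ * ⁅la a, lb c⁆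
      rw [hwell rfl (hb b c), hmull, (hcen _ (hk a c) (lb b)).symm.eq, mul_inv_cancel_right]
    · show ⁅la (χa z * a), lb (χb z * b)⁆ = ⁅la a, lb b⁆
      rw [← hwell (hca z a) (hcb z b),
        show ⁅T z * la a * (T z)⁻¹, T z * lb b * (T z)⁻¹⁆ = T z * ⁅la a, lb b⁆ * (T z)⁻¹ by
          simp only [commutatorElement_def]; group,
        (hcen _ (hk a b) (T z)).symm.eq, mul_inv_cancel_right]
  have bound : ∀ j < 2 * m + 1, 1 + 3 ^ j < Fintype.card K - 1 ∧ 2 * (1 + 3 ^ j) < Fintype.card K - 1 := by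
    intro j hj
    have := hjbound j hj
    have : 3 * 3 ≤ (3 ^ m) ^ 2 := by nlinarith
    omega
  have hqpos : 0 < Fintype.card K - 1 := by have := Fintype.one_lt_card (α := K); omega
  -- the central layers commute
  have h33 : ∀ v v', Commute (l3 v) (l3 v') := by
    obtain ⟨β, hβ, h1, h2, h3⟩ := form l3 l3 id id e3 e3 (fun a b => by
      simp only [l3, map_commutatorElement, hL, commutatorElement_eq_one_iff_mul_comm]
      exact (D.U_central a 0 0 b).eq) c3 c3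
    have := D.form_eq_one β h1 h2 id id (fun z => z.ne_zero) h3
      (fun x hx => ⟨Units.mk0 x hx ^ 2, by simp⟩) (fun j hj h => by
        refine absurd (D.pow_separates (bound j hj).1 hqpos fun z => ?_) (by positivity)
        rw [pow_zero]; ext
        rw [Units.val_pow_eq_pow_val, Units.val_one, pow_add, pow_one]
        exact h z)
    intro a b
    exact commutatorElement_eq_one_iff_mul_comm.1 ((hβ a b).symm.trans (congrArg Subtype.val (this a b)))
  have h22 : ∀ u u', Commute (l2 u) (l2 u') := by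
    obtain ⟨β, hβ, h1, h2, h3⟩ := form l2 l2 (w2 D.σ) (w2 D.σ) e2 e2 (fun a b => by
      simp only [l2, map_commutatorElement, hL, commutatorElement_eq_one_iff_mul_comm, D.U_layer, add_comm]) c2 c2
    have := D.form_eq_one β h1 h2 _ _ (fun z => D.w2_ne z.ne_zero) h3 (fun x hx => D.w2_image hx)
      (fun j hj h => by
        refine absurd (D.pow_separates (bound j hj).2 hqpos fun z => ?_) (by positivity)
        obtain ⟨z', hz'⟩ := D.w2_image z.ne_zero
        rw [pow_zero]; ext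
        rw [Units.val_pow_eq_pow_val, Units.val_one, pow_mul, ← hz', pow_add, pow_one]
        exact h z')
    intro a b
    exact commutatorElement_eq_one_iff_mul_comm.1 ((hβ a b).symm.trans (congrArg Subtype.val (this a b)))
  have h23 : ∀ u v, Commute (l2 u) (l3 v) := by
    obtain ⟨β, hβ, h1, h2, h3⟩ := form l2 l3 (w2 D.σ) id e2 e3 (fun a b => by
      simp only [l2, l3, map_commutatorElement, hL, commutatorElement_eq_one_iff_mul_comm, D.U_layer, add_comm]) c2 c3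
    intro a b
    have := h3 (-1) a b
    simp only [Units.val_neg, Units.val_one, D.w2_neg_one, one_mul, id_eq, neg_mul] at this
    have h4 : β a b * β a b = 1 := by
      have h0 : β a 0 = 1 := by simpa using h2 a 0 0
      calc β a b * β a b = β a (-b) * β a b := by rw [this]
        _ = 1 := by rw [← h2, neg_add_cancel, h0]
    exact commutatorElement_eq_one_iff_mul_comm.1 ((hβ a b).symm.trans (congrArg Subtype.val (kpow _ h4)))
  let Z : Subgroup Γ :=
    { carrier := {g | ∃ u v, g = D.U 0 u v}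
      one_mem' := ⟨0, 0, D.U_zero.symm⟩
      mul_mem' := by rintro _ _ ⟨u, v, rfl⟩ ⟨u', v', rfl⟩; exact ⟨_, _, D.U_layer _ _ _ _⟩
      inv_mem' := by
        rintro _ ⟨u, v, rfl⟩
        refine ⟨-u, -v, ?_⟩
        rw [D.U_inv]; simp }
  let W : Subgroup E := Z.comap π
  have hWform : ∀ x ∈ W, ∃ u v k, π k = 1 ∧ x = l2 u * l3 v * k := by
    rintro x ⟨u, v, hx⟩
    obtain ⟨k, hk, hxk⟩ := hker (y := l2 u * l3 v) (x := x) (by
      simp only [l2, l3, map_mul, hL, hx, D.U_layer, add_zero, zero_add])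
    exact ⟨u, v, k, hk, hxk⟩
  have hW : ∀ x ∈ W, ∀ y ∈ W, x * y = y * x := by
    intro x hx y hy
    obtain ⟨u, v, k, hk, rfl⟩ := hWform x hx
    obtain ⟨u', v', k', hk', rfl⟩ := hWform y hy
    exact (((((h22 u u').mul_right (h23 u v')).mul_left ((h23 u' v).symm.mul_right (h33 v v'))).mul_right
      (hcen k' hk' _).symm).mul_left (hcen k hk _)).eq
  letI : CommGroup W := { (inferInstance : Group W) with mul_comm := fun x y => Subtype.ext (hW x.1 x.2 y.1 y.2) }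
  have hl2W : ∀ u, l2 u ∈ W := fun u => ⟨u, 0, hL _⟩
  have hl3W : ∀ v, l3 v ∈ W := fun v => ⟨0, v, hL _⟩
  set P : Subgroup E := D.UG.comap π with hP
  have e1 : ∀ t t', ∃ w ∈ W, l1 (t + t') = l1 t * l1 t' * w := fun t t' => by
    refine ⟨(l1 t * l1 t')⁻¹ * l1 (t + t'), ?_, (mul_inv_cancel_left _ _).symm⟩
    obtain ⟨a, b, c, e⟩ : ∃ a b c, D.U t 0 0 * D.U t' 0 0 = D.U a b c ∧ a = t + t' :=
      ⟨_, _, _, D.U_mul _ _ _ _ _ _, rfl⟩
    show π _ ∈ Z
    simp only [l1, map_mul, map_inv, hL, e.1, D.U_inv, D.U_mul, e.2]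
    exact ⟨_, _, by rw [neg_add_cancel]⟩
  -- the deepest layer is central
  have h13 : ∀ t v, Commute (l1 t) (l3 v) := by
    have hk : ∀ t v, π ⁅l1 t, l3 v⁆ = 1 := fun t v => by
      simp only [l1, l3, map_commutatorElement, hL, commutatorElement_eq_one_iff_mul_comm]
      exact (D.U_central v t 0 0).eq.symm
    let β : K → K → π.ker := fun t v => ⟨_, MonoidHom.mem_ker.2 (hk t v)⟩
    have h := D.form_eq_one β (fun a b c => Subtype.ext ?_) (fun a b c => Subtype.ext ?_) (w1 D.σ) id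
      (fun z => D.w1_ne z.ne_zero) (fun z a b => Subtype.ext ?_) (fun x hx => ⟨Units.mk0 x hx ^ 2, by simp⟩)
      (fun j hj h => ?_)
    · intro t v
      exact commutatorElement_eq_one_iff_mul_comm.1 (congrArg Subtype.val (h t v))
    · show ⁅l1 (a + b), l3 c⁆ = ⁅l1 a, l3 c⁆ * ⁅l1 b, l3 c⁆
      obtain ⟨w, hw, e⟩ := e1 a b
      rw [e, hmulr, commutatorElement_eq_one_iff_mul_comm.2 (hW w hw _ (hl3W c)), mul_one, mul_inv_cancel,
        one_mul, hmulr, (hcen _ (hk b c) (l1 a)).symm.eq, mul_inv_cancel_right, (hcen _ (hk b c) _).eq]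
    · show ⁅l1 a, l3 (b + c)⁆ = ⁅l1 a, l3 b⁆ * ⁅l1 a, l3 c⁆
      rw [hwell rfl (e3 b c), hmull, (hcen _ (hk a c) (l3 b)).symm.eq, mul_inv_cancel_right]
    · show ⁅l1 (w1 D.σ z * a), l3 ((z : K) * b)⁆ = ⁅l1 a, l3 b⁆
      rw [← hwell (c1 z a) (c3 z b),
        show ⁅T z * l1 a * (T z)⁻¹, T z * l3 b * (T z)⁻¹⁆ = T z * ⁅l1 a, l3 b⁆ * (T z)⁻¹ by
          simp only [commutatorElement_def]; group,
        (hcen _ (hk a b) (T z)).symm.eq, mul_inv_cancel_right]
    · have h2 : 2 + 3 ^ j = 3 ^ (m + 1) := by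
        have := hjbound j hj
        have h32 : 3 * 3 ≤ (3 ^ m) ^ 2 := by nlinarith
        have h33' : 3 * 3 ^ m ≤ (3 ^ m) ^ 2 := by nlinarith
        refine D.pow_separates (by omega) (by rw [pow_succ]; omega) fun z => Units.ext ?_
        rw [Units.val_pow_eq_pow_val, Units.val_pow_eq_pow_val, ← D.σ_pow, pow_add]
        have hz := h z
        simp only [w1, id_eq] at hz
        have := (map_ne_zero D.σ).2 z.ne_zero
        field_simp at hz
        linear_combination hz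
      rcases j with _ | j
      · have : 3 * 3 ^ m = 3 := by rw [← pow_succ', ← h2]; norm_num
        omega
      · rw [pow_succ, pow_succ] at h2; omega
  -- averaging over the torus
  have hWn : ∀ (z : Kˣ), ∀ w ∈ W, T z * w * (T z)⁻¹ ∈ W := by
    rintro z w ⟨u, v, hw⟩
    exact ⟨w2 D.σ z * u, (z : K) * v, by simp only [T, map_mul, map_inv, hL, hw, D.H_U, mul_zero]⟩
  let Φ : Kˣ → W →* W := fun z =>
    { toFun := fun w => ⟨T z * w * (T z)⁻¹, hWn z w w.2⟩
      map_one' := Subtype.ext (by simp)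
      map_mul' := fun x y => Subtype.ext (by
        show T z * (x.1 * y.1) * (T z)⁻¹ = T z * x.1 * (T z)⁻¹ * (T z * y.1 * (T z)⁻¹)
        group) }
  let Ψ : W →* W :=
    { toFun := fun w => ∏ z : Kˣ, Φ z w
      map_one' := by simp
      map_mul' := fun x y => by simp [Finset.prod_mul_distrib] }
  have hΦ2 : ∀ (z z' : Kˣ) (w : W), Φ z (Φ z' w) = Φ (z * z') w := by
    intro z z' w
    apply Subtype.ext
    show T z * (T z' * w.1 * (T z')⁻¹) * (T z)⁻¹ = T (z * z') * w.1 * (T (z * z'))⁻¹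
    obtain ⟨k, hk, e⟩ := hker (x := T z * T z') (y := T (z * z')) (by simp only [T, map_mul, hL])
    calc T z * (T z' * w.1 * (T z')⁻¹) * (T z)⁻¹ = T z * T z' * w.1 * (T z * T z')⁻¹ := by group
      _ = T (z * z') * (k * w.1 * k⁻¹) * (T (z * z'))⁻¹ := by rw [e]; group
      _ = _ := by rw [(hcen k hk w.1).eq, mul_inv_cancel_right]
  have hΨΦ : ∀ (z : Kˣ) (w : W), Ψ (Φ z w) = Ψ w := by
    intro z w
    show ∏ y : Kˣ, Φ y (Φ z w) = ∏ y : Kˣ, Φ y w
    refine Fintype.prod_equiv (Equiv.mulRight z) _ _ fun y => ?_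
    rw [hΦ2]; rfl
  have hΨk : ∀ w : W, π (Ψ w : E) = 1 := by
    intro w
    obtain ⟨z, hz⟩ := IsCyclic.exists_generator (α := Kˣ)
    have hfix : Φ z (Ψ w) = Ψ w := by
      show Φ z (∏ y : Kˣ, Φ y w) = ∏ y : Kˣ, Φ y w
      rw [map_prod]
      refine Fintype.prod_equiv (Equiv.mulLeft z) _ _ fun y => ?_
      rw [hΦ2]; rfl
    obtain ⟨u, v, he⟩ := (Ψ w).2
    have h1 := congrArg (fun x : W => π (x : E)) hfix
    change π (T z * (Ψ w : E) * (T z)⁻¹) = π (Ψ w : E) at h1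
    simp only [T, map_mul, map_inv, hL, he] at h1
    rw [mul_inv_eq_iff_eq_mul] at h1
    have hord : orderOf z = Fintype.card K - 1 := by
      rw [orderOf_eq_card_of_forall_mem_zpowers hz, Nat.card_eq_fintype_card, Fintype.card_units]
    have hb := (bound 0 (by omega)).1
    simp only [pow_zero] at hb
    obtain ⟨h2, h3, h4⟩ := D.H_centralizes_of_ne (z := z)
      (fun e => by rw [show z = 1 from Units.ext e, orderOf_one] at hord; omega)
      (fun e => by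
        have : orderOf z ≤ 2 := Nat.le_of_dvd two_pos (orderOf_dvd_of_pow_eq_one (Units.ext (by simp [e])))
        omega) h1
    rw [he, h3, h4, D.U_zero]
  let Ψ' : W →* π.ker :=
    { toFun := fun w => ⟨_, MonoidHom.mem_ker.2 (hΨk w)⟩
      map_one' := Subtype.ext (by simp)
      map_mul' := fun x y => Subtype.ext (by simp) }
  have hΨ' : ∀ (z : Kˣ) (w : W), Ψ' (Φ z w) = Ψ' w := fun z w =>
    Subtype.ext (congrArg (fun x : W => (x : E)) (hΨΦ z w))
  -- commutators with the abelian layer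
  have key3 : ∀ (g : Γ) (a b c : K), g = D.U a b c → a = 0 → b = 0 → ∃ v, g = D.U 0 0 v := by
    rintro g a b c rfl rfl rfl
    exact ⟨c, rfl⟩
  have hk12 : ∀ t u, ∃ b, π ⁅l1 t, l2 u⁆ = D.U 0 0 b := fun t u => by
    refine key3 _ _ _ _ (by rw [map_commutatorElement]; simp only [l1, l2, hL, commutatorElement_def, D.U_inv, D.U_mul]; rfl)
      (by simp) (by simp only [map_zero, map_add, map_neg, map_sub]; ring)
  have h3c : ∀ w : E, (∃ b, π w = D.U 0 0 b) → ∀ t, Commute (l1 t) w := by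
    rintro w ⟨b, hb⟩ t
    obtain ⟨k, hk, rfl⟩ := hker (x := w) (y := l3 b) (by simp only [l3, hb, hL])
    exact (h13 t b).mul_right (hcen k hk _).symm
  have hcW : ∀ t u, ⁅l1 t, l2 u⁆ ∈ W := fun t u => by
    obtain ⟨b, hb⟩ := hk12 t u
    exact ⟨0, b, hb⟩
  have hΨ12 : ∀ t u, Ψ' ⟨_, hcW t u⟩ = 1 := by
    intro t u
    refine kpow _ ?_
    have hadd : ∀ a b, Ψ' ⟨_, hcW t (a + b)⟩ = Ψ' ⟨_, hcW t a⟩ * Ψ' ⟨_, hcW t b⟩ := by
      intro a b
      rw [← map_mul]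
      refine congrArg Ψ' (Subtype.ext ?_)
      show ⁅l1 t, l2 (a + b)⁆ = ⁅l1 t, l2 a⁆ * ⁅l1 t, l2 b⁆
      rw [hwell rfl (e2 a b), hmull, hW _ (hl2W a) _ (hcW t b), mul_inv_cancel_right]
    have hneg : Ψ' ⟨_, hcW (-t) u⟩ = Ψ' ⟨_, hcW t u⟩ := by
      conv_rhs => rw [← hΨ' (-1)]
      refine congrArg Ψ' (Subtype.ext ?_)
      show ⁅l1 (-t), l2 u⁆ = T (-1) * ⁅l1 t, l2 u⁆ * (T (-1))⁻¹
      rw [show T (-1) * ⁅l1 t, l2 u⁆ * (T (-1))⁻¹ = ⁅T (-1) * l1 t * (T (-1))⁻¹, T (-1) * l2 u * (T (-1))⁻¹⁆ by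
        simp only [commutatorElement_def]; group]
      refine (hwell ?_ ?_).symm
      · rw [c1]; simp [D.w1_neg_one]
      · rw [c2]; simp [D.w2_neg_one]
    conv_lhs => arg 1; rw [← hneg]
    rw [← map_mul]
    refine (congrArg Ψ' (Subtype.ext ?_)).trans (map_one _)
    show ⁅l1 (-t), l2 u⁆ * ⁅l1 t, l2 u⁆ = 1
    obtain ⟨w, hw, e⟩ := e1 (-t) t
    have h0 : ⁅l1 (-t + t), l2 u⁆ = 1 := by
      rw [neg_add_cancel, commutatorElement_eq_one_iff_mul_comm]
      refine hW _ ⟨0, 0, hL _⟩ _ (hl2W u)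
    rw [e, hmulr, commutatorElement_eq_one_iff_mul_comm.2 (hW w hw _ (hl2W u)), mul_one, mul_inv_cancel, one_mul,
      hmulr, (h3c _ (hk12 t u) (-t)).eq, mul_inv_cancel_right] at h0
    rw [hW _ (hcW (-t) u) _ (hcW t u)]
    exact h0
  have hPform : ∀ x ∈ P, ∃ t, ∃ w ∈ W, x = l1 t * w := by
    intro x hx
    obtain ⟨t, u, v, e⟩ := D.mem_UG.1 hx
    refine ⟨t, (l1 t)⁻¹ * x, ?_, (mul_inv_cancel_left _ _).symm⟩
    show π _ ∈ Z
    simp only [l1, map_mul, map_inv, hL, e, D.U_inv, D.U_mul]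
    exact ⟨_, _, by rw [neg_add_cancel]⟩
  have hPW : ∀ x ∈ P, ∀ w ∈ W, x * w * x⁻¹ ∈ W := by
    intro x hx w hw
    obtain ⟨t, w', hw', rfl⟩ := hPform x hx
    rw [show l1 t * w' * w * (l1 t * w')⁻¹ = l1 t * (w' * w * w'⁻¹) * (l1 t)⁻¹ by group, hW w' hw' w hw,
      mul_inv_cancel_right]
    obtain ⟨u, v, k, hk, rfl⟩ := hWform w hw
    rw [show l1 t * (l2 u * l3 v * k) * (l1 t)⁻¹ = ⁅l1 t, l2 u⁆ * l2 u * (l1 t * (l3 v * k) * (l1 t)⁻¹) by
      simp only [commutatorElement_def]; group,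
      ((h13 t v).mul_right (hcen k hk _).symm).eq, mul_inv_cancel_right]
    exact mul_mem (mul_mem (hcW t u) (hl2W u)) (mul_mem (hl3W v) ⟨0, 0, by rw [hk, D.U_zero]⟩)
  have hΨP : ∀ x (hx : x ∈ P) w (hw : w ∈ W), Ψ' ⟨_, hPW x hx w hw⟩ = Ψ' ⟨w, hw⟩ := by
    intro x hx w hw
    obtain ⟨t, w', hw', rfl⟩ := hPform x hx
    obtain ⟨u, v, k, hk, rfl⟩ := hWform w hw
    have e : (⟨_, hPW _ hx _ hw⟩ : W) = ⟨_, hcW t u⟩ * ⟨l2 u * l3 v * k, hw⟩ := by
      apply Subtype.ext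
      show l1 t * w' * (l2 u * l3 v * k) * (l1 t * w')⁻¹ = ⁅l1 t, l2 u⁆ * (l2 u * l3 v * k)
      rw [show l1 t * w' * (l2 u * l3 v * k) * (l1 t * w')⁻¹ =
        l1 t * (w' * (l2 u * l3 v * k) * w'⁻¹) * (l1 t)⁻¹ by group, hW w' hw' _ hw, mul_inv_cancel_right,
        show l1 t * (l2 u * l3 v * k) * (l1 t)⁻¹ = ⁅l1 t, l2 u⁆ * l2 u * (l1 t * (l3 v * k) * (l1 t)⁻¹) by
          simp only [commutatorElement_def]; group,
        ((h13 t v).mul_right (hcen k hk _).symm).eq, mul_inv_cancel_right]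
      group
    rw [e, map_mul, hΨ12, one_mul]
  have hZmem : ∀ (g : Γ) (a b c : K), g = D.U a b c → a = 0 → g ∈ Z := by
    rintro g a b c rfl rfl
    exact ⟨b, c, rfl⟩
  have hPP : ∀ x ∈ P, ∀ y ∈ P, ⁅x, y⁆ ∈ W := by
    intro x hx y hy
    obtain ⟨t, u, v, e⟩ := D.mem_UG.1 hx
    obtain ⟨t', u', v', e'⟩ := D.mem_UG.1 hy
    show π _ ∈ Z
    refine hZmem _ _ _ _ (by rw [map_commutatorElement, e, e']; simp only [commutatorElement_def, D.U_inv, D.U_mul]; rfl) ?_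
    ring
  have haddP : ∀ x (hx : x ∈ P) y (hy : y ∈ P) r (hr : r ∈ P),
      Ψ' ⟨_, hPP _ (mul_mem hx hy) r hr⟩ = Ψ' ⟨_, hPP x hx r hr⟩ * Ψ' ⟨_, hPP y hy r hr⟩ := by
    intro x hx y hy r hr
    rw [← hΨP x hx _ (hPP y hy r hr), ← map_mul]
    refine congrArg Ψ' (Subtype.ext ?_)
    show ⁅x * y, r⁆ = ⁅x, r⁆ * (x * ⁅y, r⁆ * x⁻¹)
    rw [hmulr, hW _ (hPW x hx _ (hPP y hy r hr)) _ (hPP x hx r hr)]
  have hWP : ∀ w ∈ W, w ∈ P := by
    rintro w ⟨u, v, e⟩
    exact ⟨0, u, v, e⟩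
  have hΨW : ∀ w (hw : w ∈ W) r (hr : r ∈ P), Ψ' ⟨_, hPP w (hWP w hw) r hr⟩ = 1 := by
    intro w hw r hr
    have e : (⟨_, hPP w (hWP w hw) r hr⟩ : W) = ⟨w, hw⟩ * (⟨_, hPW r hr w hw⟩ : W)⁻¹ := by
      apply Subtype.ext
      show ⁅w, r⁆ = w * (r * w * r⁻¹)⁻¹
      simp only [commutatorElement_def]; group
    rw [e, map_mul, map_inv, hΨP r hr w hw, mul_inv_cancel]
  have hsw : ∀ x (hx : x ∈ P) y (hy : y ∈ P), Ψ' ⟨_, hPP x hx y hy⟩ = (Ψ' ⟨_, hPP y hy x hx⟩)⁻¹ := by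
    intro x hx y hy
    rw [← map_inv]
    exact congrArg Ψ' (Subtype.ext (commutatorElement_inv y x).symm)
  have hl1P : ∀ t, l1 t ∈ P := fun t => ⟨t, 0, 0, hL _⟩
  let β : K → K → π.ker := fun a c => Ψ' ⟨_, hPP _ (hl1P a) _ (hl1P c)⟩
  have hβl : ∀ a b c, β (a + b) c = β a c * β b c := by
    intro a b c
    obtain ⟨w, hw, e⟩ := e1 a b
    show Ψ' _ = Ψ' _ * Ψ' _
    rw [← haddP _ (hl1P a) _ (hl1P b) _ (hl1P c),
      show (⟨_, hPP _ (hl1P (a + b)) _ (hl1P c)⟩ : W) =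
        ⟨_, hPP _ (mul_mem (mul_mem (hl1P a) (hl1P b)) (hWP w hw)) _ (hl1P c)⟩ from Subtype.ext (by simp only [← e]),
      haddP _ (mul_mem (hl1P a) (hl1P b)) _ (hWP w hw) _ (hl1P c), hΨW w hw _ (hl1P c), mul_one]
  have hβs : ∀ a b, β a b = (β b a)⁻¹ := fun a b => hsw _ (hl1P a) _ (hl1P b)
  have hβr : ∀ a b c, β a (b + c) = β a b * β a c := fun a b c => by
    rw [hβs a, hβl, mul_inv, ← hβs, ← hβs]
  have hβi : ∀ (z : Kˣ) a b, β (w1 D.σ z * a) (w1 D.σ z * b) = β a b := by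
    intro z a b
    show Ψ' _ = Ψ' ⟨_, hPP _ (hl1P a) _ (hl1P b)⟩
    conv_rhs => rw [← hΨ' z]
    refine congrArg Ψ' (Subtype.ext ?_)
    show ⁅l1 (w1 D.σ z * a), l1 (w1 D.σ z * b)⁆ = T z * ⁅l1 a, l1 b⁆ * (T z)⁻¹
    rw [show T z * ⁅l1 a, l1 b⁆ * (T z)⁻¹ = ⁅T z * l1 a * (T z)⁻¹, T z * l1 b * (T z)⁻¹⁆ by
      simp only [commutatorElement_def]; group]
    exact hwell (c1 z a).symm (c1 z b).symm
  have hβ : ∀ a b, β a b = 1 := D.form_eq_one β hβl hβr _ _ (fun z => D.w1_ne z.ne_zero) hβi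
    (fun x hx => D.w1_image (pow_ne_zero 2 hx)) (fun j hj h => by
      refine absurd (D.pow_separates (bound j hj).1 hqpos fun z => ?_) (by positivity)
      obtain ⟨z', hz'⟩ := D.w1_image z.ne_zero
      rw [pow_zero]; ext
      rw [Units.val_pow_eq_pow_val, Units.val_one, ← hz', pow_add, pow_one]
      exact h z')
  rw [eq_bot_iff]
  rintro x ⟨hx, hxk⟩
  have hxW : x ∈ (Ψ'.ker).map W.subtype := by
    refine (Subgroup.commutator_le.2 ?_) hx
    intro g hg k hk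
    refine ⟨⟨_, hPP g hg k hk⟩, ?_, rfl⟩
    obtain ⟨t, w, hw, rfl⟩ := hPform g hg
    obtain ⟨t', w', hw', rfl⟩ := hPform k hk
    show Ψ' _ = 1
    rw [haddP _ (hl1P t) _ (hWP w hw) _ hk, hΨW w hw _ hk, mul_one, hsw _ (hl1P t) _ hk,
      haddP _ (hl1P t') _ (hWP w' hw') _ (hl1P t), hΨW w' hw' _ (hl1P t), mul_one, show Ψ' ⟨_, hPP _ (hl1P t') _ (hl1P t)⟩ = β t' t from rfl, hβ, inv_one]
  obtain ⟨⟨y, hy⟩, hΨy, rfl⟩ := hxW
  have hk : π y = 1 := hxk
  have hpow : Ψ ⟨y, hy⟩ = (⟨y, hy⟩ : W) ^ Fintype.card Kˣ := by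
    show ∏ w : Kˣ, Φ w ⟨y, hy⟩ = _
    rw [← Finset.card_univ, ← Finset.prod_const]
    refine Finset.prod_congr rfl fun w _ => Subtype.ext ?_
    show T w * y * (T w)⁻¹ = y
    rw [(hcen y hk (T w)).symm.eq, mul_inv_cancel_right]
  have h1 : y ^ Fintype.card Kˣ = 1 := by
    have h2 : (Ψ ⟨y, hy⟩ : E) = 1 := congrArg Subtype.val (MonoidHom.mem_ker.1 hΨy)
    rw [hpow] at h2
    simpa using h2
  rw [Subgroup.mem_bot]
  have hcop : Nat.Coprime 3 (Fintype.card Kˣ) := by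
    rw [Fintype.card_units, Nat.prime_three.coprime_iff_not_dvd, D.card_eq]
    have : 3 ∣ 3 ^ (2 * m + 1) := dvd_pow_self 3 (by omega)
    have : 1 ≤ 3 ^ (2 * m + 1) := Nat.one_le_pow _ _ (by norm_num)
    omega
  have := (pow_gcd_eq_one (a := y)).mpr ⟨hk3 y hk, h1⟩
  rw [hcop] at this
  simpa using this

end Dat

end Cfsg.Agent.Ree
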