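import Cfsg.Agent.Lib.Ree.Rows

/-!
Centralisers and normalisers of torus elements, and elements centralising unipotent elements, in a
small Ree group.
-/

set_option autoImplicit false
set_option linter.unusedSectionVars false

namespace Cfsg.Agent.Ree

universe u v

variable {K : Type u} [Field K] [Fintype K] {Γ : Type v} [Group Γ] {m : ℕ} (D : Dat K Γ m)

namespace Dat

include D

theorem conj_H {g : Γ} {z z' : Kˣ} (h1 : (z : K) ≠ 1) (h2 : (z : K) ≠ -1)
    (he : g * D.H z = D.H z' * g) :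
    (∃ y, g = D.H y ∧ z' = z) ∨ ∃ y, g = D.H y * D.w ∧ z' = z⁻¹ := by
  rcases D.cases g with ⟨t, u, v, y, rfl⟩ | ⟨t, u, v, y, a, b, c, rfl⟩
  · rw [mul_assoc, ← map_mul, ← mul_assoc (D.H z'), D.H_U', mul_assoc _ (D.H z'), ← map_mul] at he
    obtain ⟨e1, e2, e3, e4⟩ := D.UH_inj he
    rw [mul_comm y z, mul_left_inj] at e4
    subst e4
    obtain ⟨rfl, rfl, rfl⟩ := D.H_centralizes_of_ne h1 h2
      (by rw [D.H_U', ← e1, ← e2, ← e3] : D.H z * D.U t u v = D.U t u v * D.H z)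
    exact Or.inl ⟨y, by rw [D.U_zero, one_mul], rfl⟩
  · set a' := w1 D.σ ((z⁻¹ : Kˣ) : K) * a
    set b' := w2 D.σ ((z⁻¹ : Kˣ) : K) * b
    set c' := ((z⁻¹ : Kˣ) : K) * c
    have eR : D.U a b c * D.H z = D.H z * D.U a' b' c' := by
      have := D.H_U' z⁻¹ a b c
      rw [map_inv] at this
      rw [← mul_inv_cancel_left (D.H z) (D.U a b c), this, mul_assoc, inv_mul_cancel_right]
    rw [mul_assoc, eR, ← mul_assoc, mul_assoc _ D.w (D.H z), D.w_H', ← mul_assoc, mul_assoc _ (D.H y) (D.H z⁻¹),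
      ← map_mul, show D.H z' * (D.U t u v * D.H y * D.w * D.U a b c) =
        D.H z' * D.U t u v * D.H y * D.w * D.U a b c by group, D.H_U', mul_assoc _ (D.H z') (D.H y),
      ← map_mul] at he
    obtain ⟨e1, e2, e3, e4, e5, e6, e7⟩ := D.big_inj he
    rw [mul_comm z' y, mul_right_inj] at e4
    have hz1 : ((z⁻¹ : Kˣ) : K) ≠ 1 := by rw [Units.val_inv_eq_inv_val, ne_eq, inv_eq_one]; exact h1
    have hz2 : ((z⁻¹ : Kˣ) : K) ≠ -1 := by
      rw [Units.val_inv_eq_inv_val, ne_eq, inv_eq_iff_eq_inv, inv_neg, inv_one]; exact h2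
    obtain ⟨rfl, rfl, rfl⟩ := D.H_centralizes_of_ne hz1 hz2
      (by rw [D.H_U']; simp only [a', b', c'] at e5 e6 e7; rw [e5, e6, e7] :
        D.H z⁻¹ * D.U a b c = D.U a b c * D.H z⁻¹)
    subst e4
    obtain ⟨rfl, rfl, rfl⟩ := D.H_centralizes_of_ne hz1 hz2
      (by rw [D.H_U', ← e1, ← e2, ← e3] : D.H z⁻¹ * D.U t u v = D.U t u v * D.H z⁻¹)
    exact Or.inr ⟨y, by rw [D.U_zero, one_mul, mul_one], rfl⟩

theorem centralizer_H {z : Kˣ} (h1 : (z : K) ≠ 1) (h2 : (z : K) ≠ -1) :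
    Subgroup.centralizer {D.H z} = D.H.range := by
  ext g
  rw [Subgroup.mem_centralizer_singleton_iff]
  constructor
  · intro h
    rcases D.conj_H h1 h2 h with ⟨y, hy, -⟩ | ⟨y, -, hz⟩
    · exact ⟨y, hy.symm⟩
    · exfalso
      have : (z : K) ^ 2 = 1 := by
        have h' := congrArg Units.val (inv_eq_iff_mul_eq_one.1 hz.symm : z * z = 1)
        rw [pow_two]; simpa using h'
      exact (sq_eq_one_iff.1 this).elim h1 h2
  · rintro ⟨y, rfl⟩
    rw [← map_mul, ← map_mul, mul_comm]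

/-- The odd part of the torus. -/
def oddTorus : Subgroup Γ := (powMonoidHom 2 : Kˣ →* Kˣ).range.map D.H

theorem card_oddTorus : 2 * Nat.card D.oddTorus = Fintype.card K - 1 := by
  classical
  obtain ⟨k, hk, hq⟩ := D.exists_odd_half
  have hc := IsCyclic.card_powMonoidHom_range (G := Kˣ) 2
  rw [Nat.card_eq_fintype_card (α := Kˣ), Fintype.card_units, hq, Nat.add_sub_cancel,
    Nat.gcd_mul_right_left, Nat.mul_div_cancel_left k two_pos] at hc
  rw [oddTorus, ← Nat.card_congr (Subgroup.equivMapOfInjective _ _ D.H_inj).toEquiv, hc, hq, Nat.add_sub_cancel]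

theorem isCyclic_oddTorus : IsCyclic D.oddTorus :=
  (MulEquiv.isCyclic (Subgroup.equivMapOfInjective _ _ D.H_inj)).1 inferInstance

theorem mem_oddTorus_ne {g : Γ} (hg : g ∈ D.oddTorus) (h1 : g ≠ 1) :
    ∃ z : Kˣ, g = D.H z ∧ (z : K) ≠ 1 ∧ (z : K) ≠ -1 := by
  classical
  obtain ⟨z, ⟨y, rfl⟩, rfl⟩ := hg
  refine ⟨_, rfl, fun e => h1 ?_, fun e => ?_⟩
  · rw [show powMonoidHom 2 y = 1 from Units.ext e, map_one]
  · obtain ⟨k, hk, hq⟩ := D.exists_odd_half
    have h : (powMonoidHom 2 y : Kˣ) ^ k = 1 := by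
      rw [powMonoidHom_apply, ← pow_mul, show 2 * k = Fintype.card Kˣ by
        rw [Fintype.card_units, hq, Nat.add_sub_cancel], pow_card_eq_one]
    rw [show powMonoidHom 2 y = -1 from Units.ext e, hk.neg_one_pow] at h
    exact D.neg_one_ne h

theorem card_normalizer_oddTorus {A₀ : Subgroup Γ} (hle : A₀ ≤ D.oddTorus) (hne : A₀ ≠ ⊥) :
    Nat.card (Subgroup.normalizer (A₀ : Set Γ)) = 2 * (Fintype.card K - 1) ∧
      Subgroup.normalizer (A₀ : Set Γ) = Subgroup.normalizer (D.oddTorus : Set Γ) := by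
  classical
  haveI := D.finite
  have key : ∀ A : Subgroup Γ, A ≤ D.oddTorus → A ≠ ⊥ →
      ∀ g, g ∈ Subgroup.normalizer (A : Set Γ) ↔ (∃ y, g = D.H y) ∨ ∃ y, g = D.H y * D.w := by
    intro A hA hA1 g
    constructor
    · intro hg
      obtain ⟨⟨a, ha⟩, hne'⟩ := (nontrivial_iff_exists_ne (1 : A)).1 ((Subgroup.nontrivial_iff_ne_bot A).2 hA1)
      obtain ⟨z, rfl, h1, h2⟩ := D.mem_oddTorus_ne (hA ha) fun e => hne' (Subtype.ext e)
      obtain ⟨z', -, hz'⟩ := hA ((Subgroup.mem_normalizer_iff.1 hg _).1 ha)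
      rcases D.conj_H h1 h2 (show g * D.H z = D.H z' * g by rw [hz']; group) with ⟨y, hy, -⟩ | ⟨y, hy, -⟩
      exacts [Or.inl ⟨y, hy⟩, Or.inr ⟨y, hy⟩]
    · intro hg
      haveI : Finite (A : Set Γ) := (Set.toFinite _).to_subtype
      refine Subgroup.mem_normalizer_fintype fun x hx => ?_
      obtain ⟨z, -, rfl⟩ := hA hx
      rcases hg with ⟨y, rfl⟩ | ⟨y, rfl⟩
      · rw [← map_mul, ← map_inv, ← map_mul, mul_comm y z, mul_inv_cancel_right]
        exact hx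
      · rw [show D.H y * D.w * D.H z * (D.H y * D.w)⁻¹ = D.H y * (D.w * D.H z * D.w⁻¹) * (D.H y)⁻¹ by group,
          D.w_conj, ← map_inv, ← map_mul, ← map_mul, mul_comm y z⁻¹, mul_inv_cancel_right, map_inv]
        exact inv_mem hx
  have hT : D.oddTorus ≠ ⊥ := fun h => hne (le_bot_iff.1 (h ▸ hle))
  refine ⟨?_, Subgroup.ext fun g => (key A₀ hle hne g).trans (key _ le_rfl hT g).symm⟩
  let f : Kˣ ⊕ Kˣ → Subgroup.normalizer (A₀ : Set Γ) := Sum.elim
    (fun y => ⟨D.H y, (key A₀ hle hne _).2 (Or.inl ⟨y, rfl⟩)⟩)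
    (fun y => ⟨D.H y * D.w, (key A₀ hle hne _).2 (Or.inr ⟨y, rfl⟩)⟩)
  have hf : Function.Bijective f := by
    constructor
    · rintro (y | y) (y' | y') h <;> simp only [f, Sum.elim_inl, Sum.elim_inr, Subtype.mk.injEq] at h
      · rw [D.H_inj h]
      · exact absurd ((Subgroup.mul_mem_cancel_left _ (D.H_mem_BG y')).1 (h ▸ D.H_mem_BG y)) D.w_not_mem
      · exact absurd ((Subgroup.mul_mem_cancel_left _ (D.H_mem_BG y)).1 (h.symm ▸ D.H_mem_BG y')) D.w_not_mem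
      · rw [D.H_inj (mul_right_cancel h)]
    · rintro ⟨g, hg⟩
      rcases (key A₀ hle hne g).1 hg with ⟨y, rfl⟩ | ⟨y, rfl⟩
      exacts [⟨Sum.inl y, rfl⟩, ⟨Sum.inr y, rfl⟩]
  rw [← Nat.card_eq_of_bijective f hf]
  simp only [Nat.card_eq_fintype_card, Fintype.card_sum, Fintype.card_units]
  ring

theorem normalizer_UG {g : Γ} : g ∈ Subgroup.normalizer (D.UG : Set Γ) ↔ g ∈ D.BG := by
  constructor
  · intro hg
    by_contra hgB
    have h1 : D.U 0 0 1 ∈ D.UG := D.U_mem _ _ _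
    have := D.UG_ti hgB h1 (by
      have := (Subgroup.mem_normalizer_iff.1 (inv_mem hg) _).1 h1
      rwa [inv_inv] at this)
    exact one_ne_zero (D.U_eq_one.1 this).2.2
  · intro hg
    obtain ⟨t, u, v, z, rfl⟩ := D.mem_BG.1 hg
    refine mul_mem (Subgroup.le_normalizer (D.U_mem t u v)) ?_
    rw [Subgroup.mem_normalizer_iff]
    intro n
    constructor
    · intro hn
      obtain ⟨t', u', v', rfl⟩ := D.mem_UG.1 hn
      exact D.mem_UG.2 ⟨_, _, _, D.H_U z t' u' v'⟩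
    · intro hn
      obtain ⟨t', u', v', e⟩ := D.mem_UG.1 hn
      refine D.mem_UG.2 ⟨_, _, _, (?_ : n = _).trans (D.H_U z⁻¹ t' u' v')⟩
      rw [← e, map_inv]; group

/-- The centraliser of an element of order three lies in a conjugate of the Borel subgroup. -/
theorem centralizer_three {x : Γ} (hx : orderOf x = 3) :
    ∃ g : Γ, g⁻¹ * x * g ∈ D.UG ∧ ∀ c, Commute c x → g⁻¹ * c * g ∈ D.BG := by
  haveI := D.finite
  haveI := Fact.mk Nat.prime_three
  have hp : IsPGroup 3 (Subgroup.zpowers x) := IsPGroup.of_card (n := 1) (by rw [Nat.card_zpowers, hx, pow_one])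
  obtain ⟨S, hS⟩ := hp.exists_le_sylow
  obtain ⟨g, rfl⟩ := MulAction.exists_smul_eq Γ D.sylow S
  have h := hS (Subgroup.mem_zpowers x)
  rw [Sylow.coe_subgroup_smul, Subgroup.mem_pointwise_smul_iff_inv_smul_mem] at h
  simp only [MulAut.smul_def, MulAut.conj_inv_apply] at h
  have hU : g⁻¹ * x * g ∈ D.UG := h
  refine ⟨g, hU, fun c hc => ?_⟩
  by_contra hB
  have h1 := D.UG_ti hB hU (by
    rw [show (g⁻¹ * c * g)⁻¹ * (g⁻¹ * x * g) * (g⁻¹ * c * g) = g⁻¹ * (c⁻¹ * x * c) * g by group]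
    rw [show c⁻¹ * x * c = x by rw [mul_assoc, ← hc.eq, inv_mul_cancel_left]]
    exact hU)
  have : x = 1 := by
    calc x = g * (g⁻¹ * x * g) * g⁻¹ := by group
      _ = 1 := by rw [h1]; group
  rw [this, orderOf_one] at hx
  omega

theorem three_not_commute {x y : Γ} (hx : orderOf x = 3) (hy : y ≠ 1) (hc : Commute y x)
    (h3 : ¬ 3 ∣ orderOf y) : orderOf y ∣ Fintype.card K - 1 := by
  haveI := D.finite
  obtain ⟨g, -, hg⟩ := D.centralizer_three hx
  have hB := hg y hc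
  have hcard : Nat.card D.BG ∣ Fintype.card K ^ 3 * (Fintype.card K - 1) := by
    refine dvd_of_eq ?_
    let f : (K × K × K) × Kˣ → D.BG := fun p => ⟨D.U p.1.1 p.1.2.1 p.1.2.2 * D.H p.2,
      D.mem_BG.2 ⟨_, _, _, _, rfl⟩⟩
    have hf : Function.Bijective f := by
      constructor
      · rintro ⟨⟨t, u, v⟩, z⟩ ⟨⟨t', u', v'⟩, z'⟩ h
        obtain ⟨rfl, rfl, rfl, rfl⟩ := D.UH_inj (congrArg Subtype.val h)
        rfl
      · rintro ⟨g, hg⟩
        obtain ⟨t, u, v, z, rfl⟩ := D.mem_BG.1 hg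
        exact ⟨⟨⟨t, u, v⟩, z⟩, rfl⟩
    classical
    rw [← Nat.card_eq_of_bijective f hf]
    simp only [Nat.card_eq_fintype_card, Fintype.card_prod, Fintype.card_units]
    ring
  have h1 := (Subgroup.orderOf_dvd_natCard _ hB).trans hcard
  rw [show orderOf (g⁻¹ * y * g) = orderOf y by
    rw [← MulAut.conj_inv_apply, MulEquiv.orderOf_eq]] at h1
  refine (Nat.Coprime.dvd_mul_left ?_).1 h1
  rw [D.card_eq, ← pow_mul]
  exact ((Nat.prime_three.coprime_iff_not_dvd.2 h3).pow_left _).symm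

end Dat

end Cfsg.Agent.Ree
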