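import Cfsg.Agent.Lib.Ree.BorelClasses
import Cfsg.Agent.Lib.Ree.Invol
import Cfsg.Agent.Lib.Ree.TorusH
import Cfsg.Agent.Lib.Ree.NoExtThree

/-!
The automorphisms of a small Ree group are inner times field automorphisms.
-/

set_option autoImplicit false
set_option linter.unusedSectionVars false

namespace Cfsg.Agent.Ree

open scoped MatrixGroups Pointwise

universe u v

variable {K : Type u} [Field K] [Fintype K] {Γ : Type v} [Group Γ] {m : ℕ} (D : Dat K Γ m)

namespace Dat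

include D

theorem q_big (hm : 1 ≤ m) : 27 ≤ Fintype.card K := by
  rw [D.card_eq]
  calc 27 = 3 ^ 3 := by norm_num
    _ ≤ 3 ^ (2 * m + 1) := Nat.pow_le_pow_right (by norm_num) (by omega)

theorem sq_mul_σ_surjective (v : K) : ∃ t, t ^ 2 * D.σ t = v := by
  refine (Finite.injective_iff_surjective (f := fun t : K => t ^ 2 * D.σ t)).1 (fun a b h => ?_) v
  simp only at h
  by_cases hb : b = 0
  · subst hb
    simp only [map_zero, mul_zero] at h
    rcases mul_eq_zero.1 h with h1 | h1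
    · exact pow_eq_zero_iff two_ne_zero |>.1 h1
    · exact (map_eq_zero D.σ).1 h1
  · have hσb : D.σ b ≠ 0 := (map_ne_zero D.σ).2 hb
    set r := a / b with hr
    have h1 : r ^ 2 * D.σ r = 1 := by rw [hr, map_div₀]; field_simp; linear_combination h
    have h2 : D.σ r ^ 2 * r ^ 3 = 1 := by
      have := congrArg D.σ h1
      rwa [map_mul, map_pow, D.σσ, map_one] at this
    have h3 : r = 1 := by linear_combination (r ^ 2 * D.σ r + 1) * h1 - r * h2
    rw [hr, div_eq_one_iff_eq hb] at h3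
    exact h3

theorem aut_U_zero_zero (α : MulAut Γ) (hU : ∀ x ∈ D.UG, α x ∈ D.UG) (v : K) :
    ∃ v', α (D.U 0 0 v) = D.U 0 0 v' := by
  obtain ⟨t, ht⟩ := D.sq_mul_σ_surjective (-v)
  obtain ⟨a, b, c, e⟩ := D.mem_UG.1 (hU _ (D.U_mem t 0 0))
  refine ⟨-(a ^ 2 * D.σ a), ?_⟩
  rw [show D.U 0 0 v = D.U t 0 0 ^ 3 by rw [D.U_cube, ht, neg_neg], map_pow, e, D.U_cube]

theorem exists_ringEquiv_of_normal (α : MulAut Γ) (hU : ∀ x ∈ D.UG, α x ∈ D.UG)
    (τ0 : Kˣ → Kˣ) (hH : ∀ z, α (D.H z) = D.H (τ0 z)) :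
    ∃ τ : K ≃+* K, ∀ z : Kˣ, (τ0 z : K) = τ (z : K) := by
  choose f hf using D.aut_U_zero_zero α hU
  have hinj : Function.Injective f := fun a b h =>
    (D.U_inj (α.injective (by rw [hf, hf, h]) : D.U 0 0 a = D.U 0 0 b)).2.2
  have hadd : ∀ a b, f (a + b) = f a + f b := fun a b => by
    have h1 := congrArg α (D.U_layer 0 a 0 b)
    rw [map_mul, hf, hf, D.U_layer, add_zero, hf] at h1
    exact (D.U_inj h1).2.2.symm
  have hmul : ∀ (z : Kˣ) (v : K), f ((z : K) * v) = (τ0 z : K) * f v := fun z v => by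
    have h1 := congrArg α (D.H_U z 0 0 v)
    rw [map_mul, map_mul, map_inv, hH, hf, D.H_U] at h1
    simp only [mul_zero, hf] at h1
    exact (D.U_inj h1).2.2.symm
  have hf0 : f 0 = 0 := by
    have h := hadd 0 0
    rw [add_zero] at h
    linear_combination -h
  have hc : f 1 ≠ 0 := fun h => one_ne_zero (hinj (h.trans hf0.symm))
  have hz : ∀ z : Kˣ, (τ0 z : K) = f z / f 1 := fun z => by
    rw [eq_div_iff hc, ← hmul, mul_one]
  let τ : K →+* K :=
    { toFun := fun x => f x / f 1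
      map_one' := div_self hc
      map_zero' := by rw [hf0, zero_div]
      map_add' := fun a b => by rw [hadd, add_div]
      map_mul' := fun a b => by
        by_cases ha : a = 0
        · simp [ha, hf0]
        · rw [← Units.val_mk0 ha, hmul, hz]; ring }
  exact ⟨RingEquiv.ofBijective τ ⟨τ.injective, Finite.injective_iff_surjective.1 τ.injective⟩, hz⟩

theorem aut_fix_H (hm : 1 ≤ m) (α : MulAut Γ) (hU : ∀ x ∈ D.UG, α x ∈ D.UG)
    (hH : ∀ z, α (D.H z) = D.H z) {b c : K} (h1 : α (D.U 1 0 0) = D.U 1 b c) : α = 1 := by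
  classical
  have hq := D.q_big hm
  have hconj : ∀ (z : Kˣ) {t u v t' u' v' : K}, α (D.U t u v) = D.U t' u' v' →
      α (D.U (w1 D.σ (z : K) * t) (w2 D.σ (z : K) * u) ((z : K) * v)) =
        D.U (w1 D.σ (z : K) * t') (w2 D.σ (z : K) * u') ((z : K) * v') := fun z t u v t' u' v' h => by
    rw [← D.H_U, map_mul, map_mul, map_inv, hH, h, D.H_U]
  have hw : ∀ t : K, t ≠ 0 → ∃ z : Kˣ, w1 D.σ (z : K) = t := fun t ht => D.w1_image ht
  -- the centre
  have hv : ∀ v, α (D.U 0 0 v) = D.U 0 0 v := by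
    have hm1 : α (D.U 0 0 (-1)) = D.U 0 0 (-1) := by
      have h3 := congrArg (· ^ 3) h1
      simp only [← map_pow, D.U_cube, map_one, one_pow, one_mul] at h3
      exact h3
    intro v
    by_cases h : v = 0
    · rw [h, D.U_zero, map_one]
    · have := hconj (Units.mk0 (-v) (neg_ne_zero.2 h)) hm1
      simpa using this
  -- the second layer
  have hu : ∀ u, ∃ u', α (D.U 0 u 0) = D.U 0 u' 0 := fun u => by
    obtain ⟨p, r, s, e⟩ := D.mem_UG.1 (hU _ (D.U_mem 0 u 0))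
    have hc : Commute D.jI (α (D.U 0 u 0)) := by
      have := ((D.jI_comm_U (t := 0) (u := u) (v := 0)).2 ⟨rfl, rfl⟩).map α.toMonoidHom
      simpa [jI, hH] using this
    rw [e] at hc
    obtain ⟨rfl, rfl⟩ := D.jI_comm_U.1 hc
    exact ⟨r, e⟩
  choose f hf using hu
  have shear : ∀ t a b' u' : K, D.U t a b' * D.U 0 u' 0 = D.U 0 u' (t * u') * D.U t a b' := fun t a b' u' => by
    rw [D.U_mul, D.U_mul]; simp [add_comm]
  have hfu : ∀ u, α (D.U 0 u 0) = D.U 0 u 0 := fun u => by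
    have h := congrArg α (shear 1 0 0 u)
    rw [map_mul, map_mul, h1, hf, shear, mul_left_inj,
      show D.U 0 u (1 * u) = D.U 0 u 0 * D.U 0 0 (1 * u) by rw [D.U_layer, add_zero, zero_add],
      map_mul, hf, hv, D.U_layer] at h
    rw [hf]
    congr 1
    have := (D.U_inj h).2.2
    linear_combination this
  have hlayer : ∀ u v, α (D.U 0 u v) = D.U 0 u v := fun u v => by
    rw [show D.U 0 u v = D.U 0 u 0 * D.U 0 0 v by rw [D.U_layer, add_zero, zero_add], map_mul, hfu, hv]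
  -- the first layer
  have hT : ∀ t, ∃ g k, α (D.U t 0 0) = D.U t g k := fun t => by
    obtain ⟨p, g, k, e⟩ := D.mem_UG.1 (hU _ (D.U_mem t 0 0))
    by_cases ht : t = 0
    · exact ⟨0, 0, by rw [ht, D.U_zero, map_one]⟩
    obtain ⟨z, rfl⟩ := hw t ht
    have := hconj z h1
    simp only [mul_zero, mul_one] at this
    exact ⟨_, _, this⟩
  choose g k hgk using hT
  have hg0 : g 0 = 0 ∧ k 0 = 0 := by
    have := hgk 0
    rw [D.U_zero, map_one, eq_comm, D.U_eq_one] at this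
    exact this.2
  have hscale : ∀ z : Kˣ, g (w1 D.σ (z : K)) = w2 D.σ (z : K) * b ∧ k (w1 D.σ (z : K)) = (z : K) * c := fun z => by
    have := hconj z h1
    simp only [mul_zero, mul_one, hgk] at this
    exact (D.U_inj this).2
  have hprod : ∀ t s, g (t + s) = g t + g s ∧ k (t + s) = k t + k s - s * g t := fun t s => by
    set X := D.σ s * (t * s - t ^ 2)
    have e : D.U t 0 0 * D.U s 0 0 = D.U (t + s) 0 0 * D.U 0 (-(t * D.σ s)) X := by
      rw [D.U_mul, D.U_mul]; congr 1 <;> simp [X]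
    have h := congrArg α e
    rw [map_mul, map_mul, hgk, hgk, hgk, hlayer, D.U_mul, D.U_mul] at h
    obtain ⟨-, h2, h3⟩ := D.U_inj h
    simp only [map_zero, mul_zero, zero_mul, sub_zero, add_zero] at h2 h3
    exact ⟨by linear_combination -h2, by linear_combination -h3⟩
  have hb : b = 0 := by
    have h1' := (hscale 1).1
    have h2' := (hscale (-1)).1
    simp only [Units.val_one, Units.val_neg, w1, w2, map_one, map_neg, neg_sq, one_pow, div_one, one_mul,
      neg_div_neg_eq, div_neg] at h1' h2'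
    have h3' := (hprod 1 (-1)).1
    rw [add_neg_cancel, hg0.1, h1', h2'] at h3'
    have : (2 : K) * b = 0 := by linear_combination -h3'
    exact (mul_eq_zero.1 this).resolve_left D.two_ne
  have hgz : ∀ t, g t = 0 := fun t => by
    by_cases ht : t = 0
    · rw [ht, hg0.1]
    · obtain ⟨z, rfl⟩ := hw t ht
      rw [(hscale z).1, hb, mul_zero]
  have hk : ∀ t s, k (t + s) = k t + k s := fun t s => by rw [(hprod t s).2, hgz, mul_zero, sub_zero]
  have hc : c = 0 := by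
    by_contra hc
    have hσ : ∀ z : K, D.σ z = z := by
      intro z
      by_cases hz : z = 0
      · rw [hz, map_zero]
      by_cases hz1 : z = -1
      · rw [hz1, map_neg, map_one]
      have hz1' : z + 1 ≠ 0 := fun h => hz1 (eq_neg_of_add_eq_zero_left h)
      have hk1 : k (1 : K) = c := by simpa [w1] using (hscale 1).2
      have hkz : k (w1 D.σ z) = z * c := by simpa using (hscale (Units.mk0 z hz)).2
      have hsum : k (w1 D.σ z + 1) = (z + 1) * c := by rw [hk, hkz, hk1]; ring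
      have hne : w1 D.σ z + 1 ≠ 0 := fun h => by
        rw [h, hg0.2] at hsum
        exact hz1' ((mul_eq_zero.1 hsum.symm).resolve_right hc)
      obtain ⟨r, hr⟩ := hw _ hne
      rw [← hr, (hscale r).2] at hsum
      rw [mul_right_cancel₀ hc hsum, w1, w1, map_add, map_one] at hr
      have hs : D.σ z ≠ 0 := (map_ne_zero D.σ).2 hz
      have hs1 : D.σ z + 1 ≠ 0 := by rw [← map_one D.σ, ← map_add]; exact (map_ne_zero D.σ).2 hz1'
      field_simp at hr
      have h2 : (D.σ z - z) ^ 2 = 0 := by linear_combination -hr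
      exact sub_eq_zero.1 ((pow_eq_zero_iff two_ne_zero).1 h2)
    classical
    have hle : (Finset.univ : Finset K) ⊆ {0, 1, -1} := fun z _ => by
      rcases D.σ_eq_self (hσ z) with h | h | h <;> simp [h]
    have := (Finset.card_le_card hle).trans Finset.card_le_three
    rw [Finset.card_univ] at this
    omega
  have hU' : ∀ t u v, α (D.U t u v) = D.U t u v := fun t u v => by
    have hkz : k t = 0 := by
      by_cases ht : t = 0
      · rw [ht, hg0.2]
      · obtain ⟨z, rfl⟩ := hw t ht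
        rw [(hscale z).2, hc, mul_zero]
    rw [show D.U t u v = D.U t 0 0 * D.U 0 u v by rw [D.U_mul]; simp, map_mul, hgk, hgz, hkz, hlayer]
  -- the Weyl involution
  obtain ⟨ζ, hζ⟩ := IsCyclic.exists_generator (α := Kˣ)
  have ho : orderOf ζ = Fintype.card K - 1 := by
    rw [orderOf_eq_card_of_forall_mem_zpowers hζ, Nat.card_eq_fintype_card, Fintype.card_units]
  have hζ2 : ζ ^ 2 ≠ 1 := fun h => by
    have := Nat.le_of_dvd two_pos (ho ▸ orderOf_dvd_of_pow_eq_one h)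
    omega
  have hz1 : (ζ : K) ≠ 1 := fun e => hζ2 (by rw [show ζ = 1 from Units.ext e, one_pow])
  have hz2 : (ζ : K) ≠ -1 := fun e => hζ2 (Units.ext (by push_cast; rw [e]; ring))
  have he := congrArg α (D.w_H' ζ)
  rw [map_mul, map_mul, hH, hH] at he
  obtain ⟨y, hy⟩ : ∃ y, α D.w = D.H y * D.w := by
    rcases D.conj_H hz1 hz2 he with ⟨y, -, e⟩ | ⟨y, e, -⟩
    · refine absurd ?_ hζ2
      rw [pow_two]; exact inv_eq_iff_mul_eq_one.1 e
    · exact ⟨y, e⟩
  set s := w2 D.σ ((y⁻¹ : Kˣ) : K) with hs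
  have hs0 : s ≠ 0 := D.w2_ne (Units.ne_zero _)
  have hn : ∀ r : K, D.ψ (uT 1 * lT (-r) * uT 1) = D.U 0 1 0 * (D.w * D.U 0 r 0 * D.w) * D.U 0 1 0 := fun r => by
    rw [map_mul, map_mul, D.ψ_upper, D.ψ_lower, neg_neg]
  have himg : α (D.ψ (uT 1 * lT (-1) * uT 1)) = D.ψ (uT 1 * lT (-s) * uT 1) := by
    rw [hn, hn]
    simp only [map_mul, hU', hy]
    congr 2
    calc D.H y * D.w * D.U 0 1 0 * (D.H y * D.w)
        = D.H y * D.w * D.U 0 1 0 * (D.H y * D.w) := rfl
      _ = D.w * (D.H y⁻¹ * D.U 0 1 0 * (D.H y⁻¹)⁻¹) * D.w := by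
          rw [show D.H y * D.w = D.w * D.H y⁻¹ by rw [D.w_H' y⁻¹, inv_inv]]
          nth_rewrite 2 [show D.w * D.H y⁻¹ = D.H y * D.w by rw [D.w_H' y⁻¹, inv_inv]]
          rw [map_inv, inv_inv]; group
      _ = _ := by rw [D.H_U, mul_zero, mul_zero, mul_one]
  have hsq : D.ψ ((uT 1 * lT (-1) * uT 1) * (uT 1 * lT (-1) * uT 1)) = 1 := by
    rw [show (uT 1 * lT (-1) * uT 1) * (uT 1 * lT (-1) * uT 1) = (-1 : SL(2, K)) by
      apply Subtype.ext
      simp [coe_uT, coe_lT, Matrix.mul_fin_two, Matrix.one_fin_two, Matrix.neg_of, Matrix.neg_cons, Matrix.neg_empty],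
      D.ψ_neg]
  have hsq' := congrArg α hsq
  rw [map_one, map_mul, map_mul, himg, ← map_mul] at hsq'
  have hs1 : s = 1 := by
    have h10 : (((uT 1 * lT (-s) * uT 1) * (uT 1 * lT (-s) * uT 1) : SL(2, K)) : Matrix (Fin 2) (Fin 2) K) 1 0 = 0 := by
      rcases D.ψ_eq_one_or_jI (Or.inl hsq') with e | e <;> rw [e] <;> simp
    simp [coe_uT, coe_lT, Matrix.mul_fin_two] at h10
    have : (2 : K) * s * (1 - s) = 0 := by linear_combination -h10
    rcases mul_eq_zero.1 this with h | h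
    · rcases mul_eq_zero.1 h with h | h
      exacts [absurd h D.two_ne, absurd h hs0]
    · exact (sub_eq_zero.1 h).symm
  have hy1 : (y : K) = 1 ∨ (y : K) = -1 := by
    rcases (D.w2_eq_one (Units.ne_zero _)).1 hs1 with h | h <;>
      rw [Units.val_inv_eq_inv_val] at h
    · exact Or.inl (inv_eq_one.1 h)
    · exact Or.inr (by rw [inv_eq_iff_eq_inv, inv_neg, inv_one] at h; exact h)
  have hw' : α D.w = D.w := by
    rcases hy1 with h | h
    · rw [hy, show y = 1 from Units.ext h, map_one, one_mul]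
    exfalso
    have hyj : α D.w = D.jI * D.w := by rw [hy, show y = -1 from Units.ext h]
    rcases D.cases (D.w * D.U 1 0 0 * D.w) with ⟨t, u, v, z, e⟩ | ⟨t, u, v, z, p, r, x, e⟩
    · exact one_ne_zero (D.w_U_mem (D.mem_BG.2 ⟨t, u, v, z, e⟩)).1
    have eα := congrArg α e
    simp only [map_mul, hU', hH, hyj] at eα
    have hj := D.jI_sq
    have hjw := D.jI_comm_w.eq
    have hjH := (D.jI_comm_H z).eq
    have key : D.jI * (D.w * D.U 1 0 0 * D.w) * D.jI = D.jI * D.w * D.U 1 0 0 * (D.jI * D.w) := by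
      calc D.jI * (D.w * D.U 1 0 0 * D.w) * D.jI
          = D.jI * D.w * D.U 1 0 0 * (D.w * D.jI) := by group
        _ = _ := by rw [← hjw]
    rw [← key, e] at eα
    have conjU : ∀ a b' c', D.jI * D.U a b' c' = D.U (-a) b' (-c') * D.jI := fun a b' c' => by
      rw [← D.jI_conj_U, mul_assoc, hj, mul_one]
    have e2 : D.jI * (D.U t u v * D.H z * D.w * D.U p r x) * D.jI =
        D.U (-t) u (-v) * D.H z * D.w * D.U (-p) r (-x) := by
      calc D.jI * (D.U t u v * D.H z * D.w * D.U p r x) * D.jI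
          = (D.jI * D.U t u v) * D.H z * D.w * D.U p r x * D.jI := by group
        _ = D.U (-t) u (-v) * (D.jI * D.H z) * D.w * D.U p r x * D.jI := by rw [conjU]; group
        _ = D.U (-t) u (-v) * D.H z * (D.jI * D.w) * D.U p r x * D.jI := by rw [hjH]; group
        _ = D.U (-t) u (-v) * D.H z * D.w * (D.jI * D.U p r x) * D.jI := by rw [hjw]; group
        _ = D.U (-t) u (-v) * D.H z * D.w * D.U (-p) r (-x) * (D.jI * D.jI) := by rw [conjU]; group
        _ = _ := by rw [hj, mul_one]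
    rw [e2, show D.U t u v * D.H z * (D.jI * D.w) = D.U t u v * D.H (z * -1) * D.w by
      rw [map_mul]; simp only [jI]; group] at eα
    obtain ⟨-, -, -, h4, -⟩ := D.big_inj eα
    exact D.neg_one_ne (mul_eq_left.1 h4.symm)
  refine MulEquiv.ext fun x => ?_
  rcases D.cases x with ⟨t, u, v, z, rfl⟩ | ⟨t, u, v, z, p, r, s', rfl⟩ <;>
    simp [hU', hH, hw']

theorem exists_inner_field (hm : 1 ≤ m) (α : MulAut Γ)
    (hfield : ∀ τ : K ≃+* K, ∃ β : MulAut Γ,
      (∀ t u v, β (D.U t u v) = D.U (τ t) (τ u) (τ v)) ∧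
      (∀ z, β (D.H z) = D.H (Units.map τ.toRingHom.toMonoidHom z)) ∧ β D.w = D.w) :
    ∃ (τ : K ≃+* K) (β : MulAut Γ) (g h : Γ),
      (∀ t u v, β (D.U t u v) = D.U (τ t) (τ u) (τ v)) ∧
      (∀ z, β (D.H z) = D.H (Units.map τ.toRingHom.toMonoidHom z)) ∧ β D.w = D.w ∧
      α = MulAut.conj g * (β * MulAut.conj h) := by
  classical
  haveI := D.finite
  haveI := Fact.mk Nat.prime_three
  have hq := D.q_big hm
  obtain ⟨g, hg⟩ := MulAction.exists_smul_eq Γ D.sylow (α • D.sylow)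
  have hg' : ∀ x, x ∈ D.UG ↔ ((MulAut.conj g)⁻¹ * α) x ∈ D.UG := by
    intro x
    have hsub : MulAut.conj g • D.UG = α • D.UG := by
      have := congrArg Sylow.toSubgroup hg
      exact this
    rw [← Subgroup.smul_mem_pointwise_smul_iff (a := α), ← hsub,
      Subgroup.mem_pointwise_smul_iff_inv_smul_mem]
    rfl
  set α₀ : MulAut Γ := (MulAut.conj g)⁻¹ * α with hα₀
  have hB0 : ∀ x ∈ D.BG, α₀ x ∈ D.BG := by
    intro x hx
    rw [← D.normalizer_UG]
    haveI : Finite (D.UG : Set Γ) := (Set.toFinite _).to_subtype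
    refine Subgroup.mem_normalizer_fintype fun n hn => ?_
    obtain ⟨n', rfl⟩ := α₀.surjective n
    rw [← map_inv, ← map_mul, ← map_mul]
    exact (hg' _).1 ((Subgroup.mem_normalizer_iff.1 (D.normalizer_UG.2 hx) n').1 ((hg' _).2 hn))
  obtain ⟨ζ, hζ⟩ := IsCyclic.exists_generator (α := Kˣ)
  have ho : orderOf ζ = Fintype.card K - 1 := by
    rw [orderOf_eq_card_of_forall_mem_zpowers hζ, Nat.card_eq_fintype_card, Fintype.card_units]
  obtain ⟨t, u, v, z', e⟩ := D.mem_BG.1 (hB0 _ (D.H_mem_BG ζ))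
  have hoα : orderOf (α₀ (D.H ζ)) = Fintype.card K - 1 := by
    rw [MulEquiv.orderOf_eq, orderOf_injective D.H D.H_inj, ho]
  have h1 : (z' : K) ≠ 1 := fun h => by
    rw [show z' = 1 from Units.ext h, map_one, mul_one] at e
    obtain ⟨a, b, c, e'⟩ := D.mem_UG.1 ((hg' _).2 (e ▸ D.U_mem t u v))
    obtain ⟨rfl, rfl, rfl⟩ := D.U_H e'.symm
    rw [D.U_zero, ← map_one D.H] at e'
    rw [D.H_inj e', orderOf_one] at ho
    omega
  have h2 : (z' : K) ≠ -1 := fun h => by
    rw [show z' = -1 from Units.ext h, show D.H (-1) = D.jI from rfl] at e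
    have := Nat.le_of_dvd (by norm_num) (orderOf_dvd_of_pow_eq_one (D.UjI_pow_six t u v))
    rw [← e, hoα] at this
    omega
  obtain ⟨a, ha, hae⟩ := D.exists_conj_UH h1 h2 t u v
  set α₁ : MulAut Γ := (MulAut.conj a)⁻¹ * α₀ with hα₁
  have hU1 : ∀ x ∈ D.UG, α₁ x ∈ D.UG := fun x hx =>
    (Subgroup.mem_normalizer_iff.1 (D.normalizer_UG.2 ha) _).2 (by
      simpa [hα₁, MulAut.mul_apply, MulAut.conj_inv_apply, mul_assoc] using (hg' x).1 hx)
  have hζ1 : α₁ (D.H ζ) = D.H z' := by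
    rw [hα₁, MulAut.mul_apply, MulAut.conj_inv_apply, e, ← hae]; group
  have hτ0 : ∀ z : Kˣ, ∃ z'' : Kˣ, α₁ (D.H z) = D.H z'' := fun z => by
    obtain ⟨i, rfl⟩ := Subgroup.mem_zpowers_iff.1 (hζ z)
    exact ⟨z' ^ i, by rw [map_zpow, map_zpow, hζ1, ← map_zpow]⟩
  choose τ0 hτ0 using hτ0
  obtain ⟨τ, hτ⟩ := D.exists_ringEquiv_of_normal α₁ hU1 τ0 hτ0
  obtain ⟨β, hβU, hβH, hβw⟩ := hfield τ
  set α₂ : MulAut Γ := β⁻¹ * α₁ with hα₂
  have hH2 : ∀ z, α₂ (D.H z) = D.H z := fun z => by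
    show β.symm (α₁ (D.H z)) = _
    rw [MulEquiv.symm_apply_eq, hτ0, hβH]
    exact congrArg D.H (Units.ext (hτ z))
  have hU2 : ∀ x ∈ D.UG, α₂ x ∈ D.UG := fun x hx => by
    obtain ⟨p, r, s, hp⟩ := D.mem_UG.1 (hU1 x hx)
    refine D.mem_UG.2 ⟨τ.symm p, τ.symm r, τ.symm s, ?_⟩
    show β.symm (α₁ x) = _
    rw [MulEquiv.symm_apply_eq, hp, hβU]
    simp
  obtain ⟨p, r, s, hp⟩ := D.mem_UG.1 (hU2 _ (D.U_mem 1 0 0))
  have hp0 : p ≠ 0 := fun h => by
    subst h
    have h3 := congrArg (· ^ 3) hp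
    simp only [← map_pow, D.U_cube, map_zero, mul_zero, neg_zero, D.U_zero] at h3
    rw [MulEquiv.map_eq_one_iff, D.U_eq_one] at h3
    simp at h3
  obtain ⟨z, hz⟩ := D.w1_image (inv_ne_zero hp0)
  set α₃ : MulAut Γ := MulAut.conj (D.H z) * α₂ with hα₃
  have h3 : α₃ = 1 := by
    refine D.aut_fix_H hm α₃ (fun x hx => ?_) (fun y => ?_) (b := w2 D.σ (z : K) * r) (c := (z : K) * s) ?_
    · obtain ⟨p', r', s', h⟩ := D.mem_UG.1 (hU2 x hx)
      show D.H z * α₂ x * (D.H z)⁻¹ ∈ D.UG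
      rw [h, D.H_U]; exact D.U_mem _ _ _
    · show D.H z * α₂ (D.H y) * (D.H z)⁻¹ = _
      rw [hH2, ← map_mul, ← map_inv, ← map_mul, mul_comm z y, mul_inv_cancel_right]
    · show D.H z * α₂ (D.U 1 0 0) * (D.H z)⁻¹ = _
      rw [hp, D.H_U, hz, inv_mul_cancel₀ hp0]
  refine ⟨τ, β, g * a, (D.H z)⁻¹, hβU, hβH, hβw, ?_⟩
  rw [map_mul, map_inv]
  have : α = MulAut.conj g * MulAut.conj a * β * (MulAut.conj (D.H z))⁻¹ * α₃ := by
    rw [hα₃, hα₂, hα₁, hα₀]; group
  rw [h3, mul_one] at this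
  rw [this]; group

theorem field_aut_eq_of_inner (hm : 1 ≤ m) {τ τ' : K ≃+* K} {β β' : MulAut Γ} {g : Γ}
    (hU : ∀ t u v, β (D.U t u v) = D.U (τ t) (τ u) (τ v))
    (hH : ∀ z, β (D.H z) = D.H (Units.map τ.toRingHom.toMonoidHom z))
    (hU' : ∀ t u v, β' (D.U t u v) = D.U (τ' t) (τ' u) (τ' v))
    (hH' : ∀ z, β' (D.H z) = D.H (Units.map τ'.toRingHom.toMonoidHom z))
    (he : β = β' * MulAut.conj g) : τ = τ' := by
  classical
  have hq := D.q_big hm
  have hgB : g ∈ D.BG := by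
    by_contra hg
    obtain ⟨t, ht⟩ : ∃ t : K, t ≠ 0 := ⟨1, one_ne_zero⟩
    have h := hU 0 0 t
    rw [he] at h
    have h' : g * D.U 0 0 t * g⁻¹ = D.U (τ'.symm (τ 0)) (τ'.symm (τ 0)) (τ'.symm (τ t)) := β'.injective (by
      rw [hU']; simpa using h)
    have := D.UG_ti (g := g) hg (x := g * D.U 0 0 t * g⁻¹) (h' ▸ D.U_mem _ _ _)
      (by rw [show g⁻¹ * (g * D.U 0 0 t * g⁻¹) * g = D.U 0 0 t by group]; exact D.U_mem _ _ _)
    rw [conj_eq_one_iff, D.U_eq_one] at this
    exact ht this.2.2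
  obtain ⟨ζ, hζ⟩ := IsCyclic.exists_generator (α := Kˣ)
  have ho : orderOf ζ = Fintype.card K - 1 := by
    rw [orderOf_eq_card_of_forall_mem_zpowers hζ, Nat.card_eq_fintype_card, Fintype.card_units]
  have hz1 : (ζ : K) ≠ 1 := fun e => by
    rw [show ζ = 1 from Units.ext e, orderOf_one] at ho; omega
  have hz2 : (ζ : K) ≠ -1 := fun e => by
    have hd : orderOf ζ ∣ 2 := orderOf_dvd_of_pow_eq_one (Units.ext (by push_cast; rw [e]; ring))
    rw [ho] at hd
    have := Nat.le_of_dvd two_pos hd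
    omega
  set z' : Kˣ := Units.map τ'.symm.toRingHom.toMonoidHom (Units.map τ.toRingHom.toMonoidHom ζ) with hz'
  have hconj : g * D.H ζ * g⁻¹ = D.H z' := β'.injective (by
    have h := hH ζ
    rw [he] at h
    rw [hH']
    refine h.trans (congrArg D.H (Units.ext ?_))
    simp [hz'])
  have hzζ : z' = ζ := by
    rcases D.conj_H hz1 hz2 (mul_inv_eq_iff_eq_mul.1 hconj) with ⟨y, -, e⟩ | ⟨y, e, -⟩
    · exact e
    · exfalso
      rw [e] at hgB
      have := mul_mem (inv_mem (D.H_mem_BG y)) hgB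
      rw [inv_mul_cancel_left] at this
      exact D.w_not_mem this
  have hτζ : τ (ζ : K) = τ' (ζ : K) := by
    have := congrArg (fun x : Kˣ => τ' (x : K)) hzζ
    simpa [hz'] using this
  refine RingEquiv.ext fun x => ?_
  by_cases hx : x = 0
  · rw [hx, map_zero, map_zero]
  obtain ⟨i, hi⟩ := Subgroup.mem_zpowers_iff.1 (hζ (Units.mk0 x hx))
  have : x = (ζ : K) ^ i := by rw [← Units.val_zpow_eq_zpow_val, hi]; rfl
  rw [this, map_zpow₀, map_zpow₀, hτζ]

end Dat

end Cfsg.Agent.Ree
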