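import Cfsg.Agent.Lib.Ree.Datum

/-!
The Borel subgroup of a small Ree group: orders, the torus action, elements of order three and the
trivial intersection property of the unipotent groups.
-/

set_option autoImplicit false
set_option linter.unusedSectionVars false

namespace Cfsg.Agent.Ree

universe u v

variable {K : Type u} [Field K] [Fintype K] {Γ : Type v} [Group Γ] {m : ℕ} (D : Dat K Γ m)

namespace Dat

include D

theorem charP : CharP K 3 := by
  haveI := Fact.mk Nat.prime_three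
  exact charP_of_card_eq_prime_pow (f := 2 * m + 1) D.card_eq

theorem two_ne : (2 : K) ≠ 0 := fun h => one_ne_zero (α := K) (by linear_combination D.three - h)

theorem neg_one_ne : (-1 : Kˣ) ≠ 1 := fun h => D.two_ne (by
  have := congrArg Units.val h
  simp only [Units.val_neg, Units.val_one] at this
  linear_combination -this)

theorem σ_eq_self {z : K} (h : D.σ z = z) : z = 0 ∨ z = 1 ∨ z = -1 := by
  have h1 := D.σσ z
  rw [h, h] at h1
  have h2 : z * (z - 1) * (z + 1) = 0 := by linear_combination -h1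
  rcases mul_eq_zero.1 h2 with h3 | h3
  · rcases mul_eq_zero.1 h3 with h4 | h4
    · exact Or.inl h4
    · exact Or.inr (Or.inl (sub_eq_zero.1 h4))
  · exact Or.inr (Or.inr (eq_neg_of_add_eq_zero_left h3))

theorem w1_ne {z : K} (hz : z ≠ 0) : w1 D.σ z ≠ 0 :=
  div_ne_zero (pow_ne_zero _ hz) ((map_ne_zero D.σ).2 hz)

theorem w2_ne {z : K} (hz : z ≠ 0) : w2 D.σ z ≠ 0 :=
  div_ne_zero ((map_ne_zero D.σ).2 hz) hz

theorem w1_eq_one {z : K} (hz : z ≠ 0) : w1 D.σ z = 1 ↔ z = 1 := by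
  constructor
  · intro h
    rw [w1, div_eq_one_iff_eq ((map_ne_zero D.σ).2 hz)] at h
    have h2 := D.σσ z
    rw [← h, map_pow, ← h] at h2
    have h3 : z ^ 3 * (z - 1) = 0 := by linear_combination h2
    exact sub_eq_zero.1 ((mul_eq_zero.1 h3).resolve_left (pow_ne_zero _ hz))
  · rintro rfl
    simp [w1]

theorem w2_eq_one {z : K} (hz : z ≠ 0) : w2 D.σ z = 1 ↔ z = 1 ∨ z = -1 := by
  rw [w2, div_eq_one_iff_eq hz]
  constructor
  · intro h
    exact (D.σ_eq_self h).resolve_left hz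
  · rintro (rfl | rfl) <;> simp

theorem w1_neg_one : w1 D.σ (-1) = -1 := by simp [w1]

theorem w2_neg_one : w2 D.σ (-1) = 1 := by simp [w2]

theorem H_conj_eq {z : Kˣ} {t u v : K} :
    D.H z * D.U t u v = D.U t u v * D.H z ↔
      (z : K) = 1 ∨ ((z : K) = -1 ∧ t = 0 ∧ v = 0) ∨ (t = 0 ∧ u = 0 ∧ v = 0) := by
  have hz := z.ne_zero
  rw [D.H_U', mul_left_inj]
  constructor
  · intro h
    obtain ⟨h1, h2, h3⟩ := D.U_inj h
    by_cases hone : (z : K) = 1
    · exact Or.inl hone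
    have hv : v = 0 := by
      have : ((z : K) - 1) * v = 0 := by linear_combination h3
      exact (mul_eq_zero.1 this).resolve_left (sub_ne_zero.2 hone)
    have ht : t = 0 := by
      have : (w1 D.σ z - 1) * t = 0 := by linear_combination h1
      exact (mul_eq_zero.1 this).resolve_left (sub_ne_zero.2 fun e => hone ((D.w1_eq_one hz).1 e))
    by_cases hneg : (z : K) = -1
    · exact Or.inr (Or.inl ⟨hneg, ht, hv⟩)
    have : (w2 D.σ z - 1) * u = 0 := by linear_combination h2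
    refine Or.inr (Or.inr ⟨ht, (mul_eq_zero.1 this).resolve_left (sub_ne_zero.2 fun e => ?_), hv⟩)
    rcases (D.w2_eq_one hz).1 e with e | e
    exacts [hone e, hneg e]
  · rintro (e | ⟨e, rfl, rfl⟩ | ⟨rfl, rfl, rfl⟩)
    · simp [e, w1, w2]
    · simp [e, D.w2_neg_one]
    · simp

theorem H_centralizes_of_ne {z : Kˣ} (h1 : (z : K) ≠ 1) (h2 : (z : K) ≠ -1) {t u v : K}
    (h : D.H z * D.U t u v = D.U t u v * D.H z) : t = 0 ∧ u = 0 ∧ v = 0 := by
  rcases D.H_conj_eq.1 h with e | ⟨e, -⟩ | e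
  exacts [absurd e h1, absurd e h2, e]

theorem card_UG : Nat.card D.UG = Fintype.card K ^ 3 := by
  rw [show Fintype.card K ^ 3 = Nat.card (K × K × K) by
    rw [Nat.card_prod, Nat.card_prod, Nat.card_eq_fintype_card]; ring]
  symm
  refine Nat.card_eq_of_bijective (fun p => ⟨D.U p.1 p.2.1 p.2.2, D.U_mem _ _ _⟩)
    ⟨fun p q e => ?_, fun g => ?_⟩
  · obtain ⟨h1, h2, h3⟩ := D.U_inj (congrArg Subtype.val e)
    exact Prod.ext h1 (Prod.ext h2 h3)
  · obtain ⟨t, u, v, e⟩ := D.mem_UG.1 g.2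
    exact ⟨(t, u, v), Subtype.ext e.symm⟩

theorem card_Γ : Nat.card Γ =
    Fintype.card K ^ 3 * (Fintype.card K - 1) * (Fintype.card K ^ 3 + 1) := by
  classical
  let f : ((K × K × K) × Kˣ) ⊕ ((K × K × K) × Kˣ × (K × K × K)) → Γ := Sum.elim
    (fun p => D.U p.1.1 p.1.2.1 p.1.2.2 * D.H p.2)
    (fun p => D.U p.1.1 p.1.2.1 p.1.2.2 * D.H p.2.1 * D.w * D.U p.2.2.1 p.2.2.2.1 p.2.2.2.2)
  have hf : Function.Bijective f := by
    constructor
    · rintro (⟨⟨t, u, v⟩, z⟩ | ⟨⟨t, u, v⟩, z, a, b, c⟩) (⟨⟨t', u', v'⟩, z'⟩ | ⟨⟨t', u', v'⟩, z', a', b', c'⟩) h <;>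
        simp only [f, Sum.elim_inl, Sum.elim_inr] at h
      · obtain ⟨rfl, rfl, rfl, rfl⟩ := D.UH_inj h
        rfl
      · exact absurd (h ▸ D.mem_BG.2 ⟨t, u, v, z, rfl⟩) (D.not_mem_BG _ _ _ _ _ _ _)
      · exact absurd (h.symm ▸ D.mem_BG.2 ⟨t', u', v', z', rfl⟩) (D.not_mem_BG _ _ _ _ _ _ _)
      · obtain ⟨rfl, rfl, rfl, rfl, rfl, rfl, rfl⟩ := D.big_inj h
        rfl
    · intro g
      rcases D.cases g with ⟨t, u, v, z, rfl⟩ | ⟨t, u, v, z, a, b, c, rfl⟩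
      · exact ⟨Sum.inl ⟨⟨t, u, v⟩, z⟩, rfl⟩
      · exact ⟨Sum.inr ⟨⟨t, u, v⟩, z, a, b, c⟩, rfl⟩
  rw [← Nat.card_eq_of_bijective f hf]
  simp only [Nat.card_eq_fintype_card, Fintype.card_sum, Fintype.card_prod, Fintype.card_units]
  ring

theorem finite : Finite Γ := Nat.finite_of_card_ne_zero (by
  rw [D.card_Γ]
  have h := D.card_eq
  have : 2 ≤ Fintype.card K := Fintype.one_lt_card
  exact Nat.mul_ne_zero (Nat.mul_ne_zero (pow_ne_zero _ (by omega)) (by omega)) (by positivity))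

theorem UG_index : D.UG.index = (Fintype.card K - 1) * (Fintype.card K ^ 3 + 1) := by
  have h := D.UG.card_mul_index
  rw [D.card_UG, D.card_Γ, mul_assoc] at h
  exact mul_left_cancel₀ (pow_ne_zero _ Fintype.card_ne_zero) h

theorem not_three_dvd_index : ¬ 3 ∣ D.UG.index := by
  rw [D.UG_index, D.card_eq, Nat.prime_three.dvd_mul]
  have h1 : 3 ∣ 3 ^ (2 * m + 1) := dvd_pow_self 3 (by omega)
  have h2 : 3 ∣ (3 ^ (2 * m + 1)) ^ 3 := dvd_pow h1 (by norm_num)
  have h3 : 1 ≤ 3 ^ (2 * m + 1) := Nat.one_le_pow _ _ (by norm_num)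
  rintro (h | h) <;> omega

theorem isPGroup_UG : IsPGroup 3 D.UG := by
  refine IsPGroup.of_card (n := (2 * m + 1) * 3) ?_
  rw [D.card_UG, D.card_eq, ← pow_mul]

/-- The unipotent group as a Sylow subgroup. -/
noncomputable def sylow : Sylow 3 Γ :=
  haveI := D.finite
  IsPGroup.toSylow (p := 3) D.isPGroup_UG D.not_three_dvd_index

theorem UG_ti {g : Γ} (hg : g ∉ D.BG) {x : Γ} (hx : x ∈ D.UG) (hx' : g⁻¹ * x * g ∈ D.UG) : x = 1 := by
  rcases D.cases g with h | ⟨t, u, v, z, a, b, c, rfl⟩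
  · exact absurd (D.mem_BG.2 h) hg
  obtain ⟨p, q, r, e⟩ := D.mem_UG.1 (mul_mem (mul_mem (D.U_mem a b c) hx') (inv_mem (D.U_mem a b c)))
  have key : D.w * D.U p q r * D.w = (D.U t u v * D.H z)⁻¹ * x * (D.U t u v * D.H z) := by
    rw [← e]
    have hw := D.w_inv
    calc D.w * (D.U a b c * ((D.U t u v * D.H z * D.w * D.U a b c)⁻¹ * x *
          (D.U t u v * D.H z * D.w * D.U a b c)) * (D.U a b c)⁻¹) * D.w
        = (D.w * D.w⁻¹) * ((D.U t u v * D.H z)⁻¹ * x * (D.U t u v * D.H z)) * (D.w * D.w) := by group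
      _ = _ := by rw [mul_inv_cancel, D.w_sq, one_mul, mul_one]
  obtain ⟨t', u', v', rfl⟩ := D.mem_UG.1 hx
  have hmem : D.w * D.U p q r * D.w ∈ D.BG := by
    rw [key]
    have := D.mem_BG.2 ⟨t, u, v, z, rfl⟩
    exact mul_mem (mul_mem (inv_mem this) (D.U_mem_BG _ _ _)) this
  obtain ⟨rfl, rfl, rfl⟩ := D.w_U_mem hmem
  rw [D.U_zero, mul_one, D.w_sq] at key
  have k2 := key.symm
  rw [mul_assoc, inv_mul_eq_one, eq_comm] at k2
  exact mul_eq_right.1 k2

theorem orderOf_U_eq_three {t u v : K} :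
    orderOf (D.U t u v) = 3 ↔ t = 0 ∧ ¬(u = 0 ∧ v = 0) := by
  haveI := Fact.mk Nat.prime_three
  rw [orderOf_eq_prime_iff, D.U_cube, Ne, D.U_eq_one, D.U_eq_one]
  constructor
  · rintro ⟨⟨-, -, h⟩, h2⟩
    have ht : t = 0 := by
      rcases mul_eq_zero.1 (neg_eq_zero.1 h) with h | h
      · exact (pow_eq_zero_iff (by norm_num)).1 h
      · exact (map_eq_zero D.σ).1 h
    exact ⟨ht, fun h3 => h2 ⟨ht, h3⟩⟩
  · rintro ⟨rfl, h⟩
    simp [h]

theorem card_order_three :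
    Nat.card {g : D.UG // orderOf g = 3} = Fintype.card K ^ 2 - 1 := by
  classical
  have e : Fintype.card K ^ 2 - 1 = Nat.card {p : K × K // p ≠ 0} := by
    rw [Nat.card_eq_fintype_card, Fintype.card_subtype_compl, Fintype.card_subtype_eq,
      Fintype.card_prod, pow_two]
  rw [e]
  symm
  refine Nat.card_eq_of_bijective (fun p => ⟨⟨D.U 0 p.1.1 p.1.2, D.U_mem _ _ _⟩, ?_⟩)
    ⟨fun p q h => ?_, fun g => ?_⟩
  · rw [Subgroup.orderOf_mk]
    exact D.orderOf_U_eq_three.2 ⟨rfl, fun h => p.2 (Prod.ext h.1 h.2)⟩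
  · obtain ⟨-, h2, h3⟩ := D.U_inj (congrArg (fun z => ((z : D.UG) : Γ))
      (congrArg Subtype.val h))
    exact Subtype.ext (Prod.ext h2 h3)
  · obtain ⟨t, u, v, h⟩ := D.mem_UG.1 g.1.2
    have h3 := g.2
    rw [← Subgroup.orderOf_coe, h] at h3
    obtain ⟨rfl, hne⟩ := D.orderOf_U_eq_three.1 h3
    exact ⟨⟨(u, v), fun e => hne ⟨congrArg Prod.fst e, congrArg Prod.snd e⟩⟩,
      Subtype.ext (Subtype.ext h.symm)⟩

theorem w_conj (z : Kˣ) : D.w * D.H z * D.w⁻¹ = D.H z⁻¹ := by rw [D.w_inv, D.w_H]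

end Dat

end Cfsg.Agent.Ree
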