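import Cfsg.Agent.Lib.Ree.TorusPlusNorm

/-!
The elements of the Borel subgroup of a small Ree group up to conjugation, and the sizes of the classes
of singular elements.
-/

set_option autoImplicit false
set_option linter.unusedSectionVars false

namespace Cfsg.Agent.Ree

open scoped MatrixGroups Classical
open Cfsg.Agent

universe u v

variable {K : Type u} [Field K] [Fintype K] {Γ : Type v} [Group Γ] {m : ℕ} (D : Dat K Γ m)

namespace Dat

/-- The torus elements outside the centre of order two. -/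
def XH (D : Dat K Γ m) : Set Γ := {g | ∃ z : Kˣ, g = D.H z ∧ (z : K) ≠ 1 ∧ (z : K) ≠ -1}

include D

theorem card_BG : Nat.card D.BG = Fintype.card K ^ 3 * (Fintype.card K - 1) := by
  classical
  let f : (K × K × K) × Kˣ → D.BG := fun p => ⟨D.U p.1.1 p.1.2.1 p.1.2.2 * D.H p.2,
    D.mem_BG.2 ⟨_, _, _, _, rfl⟩⟩
  have hf : Function.Bijective f := by
    constructor
    · rintro ⟨⟨t, u, v⟩, z⟩ ⟨⟨t', u', v'⟩, z'⟩ h
      obtain ⟨rfl, rfl, rfl, rfl⟩ := D.UH_inj (congrArg Subtype.val h)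
      rfl
    · rintro ⟨g, hg⟩
      obtain ⟨t, u, v, z, rfl⟩ := D.mem_BG.1 hg
      exact ⟨⟨⟨t, u, v⟩, z⟩, rfl⟩
  rw [← Nat.card_eq_of_bijective f hf]
  simp only [Nat.card_eq_fintype_card, Fintype.card_prod, Fintype.card_units]
  ring

theorem exists_conj_UH {z : Kˣ} (h1 : (z : K) ≠ 1) (h2 : (z : K) ≠ -1) (t u v : K) :
    ∃ a : Γ, a ∈ D.BG ∧ a * D.H z * a⁻¹ = D.U t u v * D.H z := by
  classical
  haveI := D.finite
  have hmem : ∀ a : D.UG, (a : Γ) * (D.H z * (a : Γ)⁻¹ * (D.H z)⁻¹) ∈ D.UG := by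
    intro a
    refine mul_mem a.2 ?_
    obtain ⟨t, u, v, e⟩ := D.mem_UG.1 (inv_mem a.2)
    rw [e, D.H_U]
    exact D.U_mem _ _ _
  let f : D.UG → D.UG := fun a => ⟨_, hmem a⟩
  have hf : Function.Injective f := by
    intro a b h
    have h' : (a : Γ) * (D.H z * (a : Γ)⁻¹ * (D.H z)⁻¹) = b * (D.H z * (b : Γ)⁻¹ * (D.H z)⁻¹) :=
      congrArg Subtype.val h
    obtain ⟨t, u, v, e⟩ := D.mem_UG.1 (mul_mem (inv_mem b.2) a.2)
    have hc : D.H z * ((b : Γ)⁻¹ * a) = (b : Γ)⁻¹ * a * D.H z := by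
      calc D.H z * ((b : Γ)⁻¹ * a) = (b : Γ)⁻¹ * ((b : Γ) * (D.H z * (b : Γ)⁻¹ * (D.H z)⁻¹)) * D.H z * a := by group
        _ = (b : Γ)⁻¹ * ((a : Γ) * (D.H z * (a : Γ)⁻¹ * (D.H z)⁻¹)) * D.H z * a := by rw [h']
        _ = (b : Γ)⁻¹ * a * D.H z := by group
    rw [e] at hc
    obtain ⟨rfl, rfl, rfl⟩ := D.H_centralizes_of_ne h1 h2 hc
    rw [D.U_zero, inv_mul_eq_one] at e
    exact Subtype.ext e.symm
  obtain ⟨a, ha⟩ := (Finite.injective_iff_surjective.1 hf) ⟨D.U t u v, D.U_mem _ _ _⟩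
  refine ⟨a, ?_, ?_⟩
  · obtain ⟨t', u', v', e⟩ := D.mem_UG.1 a.2
    rw [e]; exact D.U_mem_BG _ _ _
  · rw [← show (a : Γ) * (D.H z * (a : Γ)⁻¹ * (D.H z)⁻¹) = D.U t u v from congrArg Subtype.val ha]
    group

theorem BG_cases {g : Γ} (hg : g ∈ D.BG) : g ∈ D.UG ∨
    (∃ t u v, g = D.U t u v * D.jI) ∨ g ∈ conjSet D.XH := by
  obtain ⟨t, u, v, z, rfl⟩ := D.mem_BG.1 hg
  by_cases h1 : (z : K) = 1
  · left; rw [show z = 1 from Units.ext h1, map_one, mul_one]; exact D.U_mem _ _ _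
  by_cases h2 : (z : K) = -1
  · right; left; exact ⟨t, u, v, by rw [show z = -1 from Units.ext h2]⟩
  obtain ⟨a, -, ha⟩ := D.exists_conj_UH h1 h2 t u v
  exact Or.inr (Or.inr ⟨a, _, ⟨z, rfl, h1, h2⟩, ha⟩)

theorem orderOf_dvd_of_XH {g : Γ} (hg : g ∈ conjSet D.XH) :
    orderOf g ∣ Fintype.card K - 1 ∧ 2 < orderOf g := by
  classical
  haveI := D.finite
  obtain ⟨a, _, ⟨z, rfl, h1, h2⟩, rfl⟩ := hg
  rw [← MulAut.conj_apply, MulEquiv.orderOf_eq, orderOf_injective D.H D.H_inj]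
  refine ⟨by rw [← Fintype.card_units]; exact orderOf_dvd_card, ?_⟩
  by_contra hle
  have hz : z ^ 2 = 1 := by
    rcases (show orderOf z = 1 ∨ orderOf z = 2 by have := orderOf_pos z; omega) with e | e
    · rw [orderOf_eq_one_iff.1 e, one_pow]
    · rw [← e, pow_orderOf_eq_one]
  have h3 := congrArg Units.val hz
  push_cast at h3
  exact (sq_eq_one_iff.1 h3).elim h1 h2

theorem UjI_sq (t u v : K) : (D.U t u v * D.jI) * (D.U t u v * D.jI) =
    D.U 0 (2 * u + t * D.σ t) (t * u + 2 * D.σ t * t ^ 2) := by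
  rw [show (D.U t u v * D.jI) * (D.U t u v * D.jI) = D.U t u v * (D.jI * D.U t u v * D.jI) by group,
    D.jI_conj_U, D.U_mul, map_neg]
  congr 1 <;> ring

theorem UG_pow_nine {g : Γ} (hg : g ∈ D.UG) : g ^ 9 = 1 := by
  obtain ⟨t, u, v, rfl⟩ := D.mem_UG.1 hg
  rw [show (9 : ℕ) = 3 * 3 from rfl, pow_mul, D.U_cube, D.U_cube, map_zero]
  simp [D.U_zero]

theorem UjI_pow_six (t u v : K) : (D.U t u v * D.jI) ^ 6 = 1 := by
  rw [show (6 : ℕ) = 2 * 3 from rfl, pow_mul, pow_two, D.UjI_sq, D.U_cube, map_zero]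
  simp [D.U_zero]

theorem UjI_not_mem (t u v : K) : D.U t u v * D.jI ∉ D.UG := by
  intro h
  obtain ⟨t', u', v', e⟩ := D.mem_UG.1 h
  rw [← mul_one (D.U t' u' v'), ← map_one D.H] at e
  exact D.neg_one_ne (D.UH_inj e).2.2.2

theorem orderOf_UjI (t u v : K) :
    orderOf (D.U t u v * D.jI) = if u = t * D.σ t then 2 else 6 := by
  haveI := Fact.mk Nat.prime_two
  have h6 := orderOf_dvd_of_pow_eq_one (D.UjI_pow_six t u v)
  have hne : D.U t u v * D.jI ≠ 1 := fun e => D.UjI_not_mem t u v (e ▸ one_mem _)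
  have h3 : ¬ orderOf (D.U t u v * D.jI) ∣ 3 := fun h => by
    have hp := orderOf_dvd_iff_pow_eq_one.1 h
    refine D.UjI_not_mem t u v ?_
    rw [show D.U t u v * D.jI =
      ((D.U t u v * D.jI) * (D.U t u v * D.jI)) * ((D.U t u v * D.jI) * (D.U t u v * D.jI)) from
        calc D.U t u v * D.jI = (D.U t u v * D.jI) ^ 3 * (D.U t u v * D.jI) := by rw [hp, one_mul]
          _ = _ := by simp only [pow_succ, pow_zero, one_mul, mul_assoc], D.UjI_sq]
    exact mul_mem (D.U_mem _ _ _) (D.U_mem _ _ _)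
  have hsq : (D.U t u v * D.jI) ^ 2 = 1 ↔ u = t * D.σ t := by
    rw [pow_two, D.UjI_sq, D.U_eq_one]
    constructor
    · rintro ⟨-, h, -⟩; linear_combination -h + u * D.three
    · rintro rfl
      refine ⟨rfl, ?_, ?_⟩
      · linear_combination (t * D.σ t) * D.three
      · linear_combination (t * (t * D.σ t)) * D.three
  split_ifs with hu
  · exact orderOf_eq_prime (hsq.2 hu) hne
  · have h2 : ¬ orderOf (D.U t u v * D.jI) ∣ 2 := fun h => hu (hsq.1 (orderOf_dvd_iff_pow_eq_one.1 h))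
    have hle : orderOf (D.U t u v * D.jI) ≤ 6 := Nat.le_of_dvd (by norm_num) h6
    interval_cases h : orderOf (D.U t u v * D.jI)
    all_goals (revert h6 h2 h3; norm_num)

theorem three_dvd_cases {g : Γ} (h3 : 3 ∣ orderOf g) :
    ∃ a : Γ, a⁻¹ * g * a ∈ D.BG ∧ (orderOf g = 3 ∨ orderOf g = 6 ∨ orderOf g = 9) := by
  haveI := D.finite
  haveI := Fact.mk Nat.prime_three
  have hx : orderOf (g ^ (orderOf g / 3)) = 3 := orderOf_pow_orderOf_div (orderOf_pos g).ne' h3
  obtain ⟨a, -, ha⟩ := D.centralizer_three hx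
  have hB := ha g (Commute.self_pow g _)
  refine ⟨a, hB, ?_⟩
  rw [← orderOf_conj a g] at h3 ⊢
  rcases D.BG_cases hB with h | ⟨t, u, v, h⟩ | h
  · rcases (Nat.dvd_prime_pow Nat.prime_three).1
      (show orderOf (a⁻¹ * g * a) ∣ 3 ^ 2 from orderOf_dvd_of_pow_eq_one (D.UG_pow_nine h)) with ⟨i, hi, e⟩
    interval_cases i
    all_goals rw [e] at h3 ⊢
    all_goals norm_num at h3
    all_goals try norm_num
  · rw [h, D.orderOf_UjI] at h3 ⊢
    split_ifs at h3 ⊢
    all_goals norm_num at h3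
    all_goals try norm_num
  · exfalso
    have hd := h3.trans (D.orderOf_dvd_of_XH h).1
    have hq : (3 : ℕ) ∣ Fintype.card K := by rw [D.card_eq]; exact dvd_pow_self 3 (by omega)
    have := Fintype.one_lt_card (α := K)
    omega

theorem mem_UG_of_BG {g : Γ} (hg : g ∈ D.BG) (ho : orderOf g = 3 ∨ orderOf g = 9) : g ∈ D.UG := by
  rcases D.BG_cases hg with h | ⟨t, u, v, h⟩ | h
  · exact h
  · rw [h, D.orderOf_UjI] at ho
    split_ifs at ho <;> omega
  · exfalso
    have hd := (D.orderOf_dvd_of_XH h).1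
    have hq : (3 : ℕ) ∣ Fintype.card K := by rw [D.card_eq]; exact dvd_pow_self 3 (by omega)
    have := Fintype.one_lt_card (α := K)
    rcases ho with e | e <;> rw [e] at hd <;> omega

theorem UG_le_BG : D.UG ≤ D.BG := fun g hg => by
  obtain ⟨t, u, v, rfl⟩ := D.mem_UG.1 hg
  exact D.U_mem_BG _ _ _

/-- Counting a conjugation invariant set of non-trivial unipotent elements. -/
theorem card_unipotent_class (d : ℕ) (hd : d = 3 ∨ d = 9) :
    Nat.card {g : Γ // orderOf g = d} * (Fintype.card K ^ 3 * (Fintype.card K - 1)) =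
      Nat.card Γ * Nat.card {g : Γ // g ∈ D.UG ∧ orderOf g = d} := by
  haveI := D.finite
  have e : conjSet {g : Γ | g ∈ D.UG ∧ orderOf g = d} = {g : Γ | orderOf g = d} := by
    ext g
    constructor
    · rintro ⟨a, x, ⟨-, hx⟩, rfl⟩
      show orderOf (a * x * a⁻¹) = d
      rw [← MulAut.conj_apply, MulEquiv.orderOf_eq, hx]
    · intro hg
      have hg' : orderOf g = d := hg
      obtain ⟨a, ha, -⟩ := D.three_dvd_cases (g := g) (by rcases hd with rfl | rfl <;> rw [hg']; norm_num)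
      refine ⟨a, a⁻¹ * g * a, ⟨D.mem_UG_of_BG ha ?_, by rw [orderOf_conj, hg']⟩, by group⟩
      rcases hd with rfl | rfl <;> rw [orderOf_conj, hg'] <;> simp
  have h := card_conjSet {g : Γ | g ∈ D.UG ∧ orderOf g = d} D.BG ?_ ?_
  · rw [e, D.card_BG] at h
    exact h
  · rintro n hn x ⟨hx, hxd⟩
    refine ⟨(Subgroup.mem_normalizer_iff.1 (D.normalizer_UG.2 hn) x).1 hx, ?_⟩
    rw [← MulAut.conj_apply, MulEquiv.orderOf_eq, hxd]
  · rintro a x ⟨hx, hxd⟩ ⟨hx', -⟩
    by_contra hB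
    have := D.UG_ti (g := a) hB hx' (by rw [show a⁻¹ * (a * x * a⁻¹) * a = x by group]; exact hx)
    rw [conj_eq_one_iff] at this
    rw [this, orderOf_one] at hxd
    omega

theorem orderOf_U (t u v : K) : orderOf (D.U t u v) =
    if t = 0 then (if u = 0 ∧ v = 0 then 1 else 3) else 9 := by
  haveI := Fact.mk Nat.prime_three
  split_ifs with ht huv
  · obtain ⟨rfl, rfl⟩ := huv
    rw [ht, D.U_zero, orderOf_one]
  · refine orderOf_eq_prime ?_ fun e => huv (D.U_eq_one.1 e).2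
    rw [D.U_cube, ht]
    simp [D.U_zero]
  · refine orderOf_eq_prime_pow (p := 3) (n := 1) ?_ (D.UG_pow_nine (D.U_mem t u v))
    rw [pow_one, D.U_cube, D.U_eq_one]
    simp [ht, map_eq_zero]

theorem card_UG_three : Nat.card {g : Γ // g ∈ D.UG ∧ orderOf g = 3} = Fintype.card K ^ 2 - 1 := by
  classical
  let f : {p : K × K // p ≠ 0} → {g : Γ // g ∈ D.UG ∧ orderOf g = 3} := fun p =>
    ⟨D.U 0 p.1.1 p.1.2, D.U_mem _ _ _, by
      rw [D.orderOf_U, if_pos rfl, if_neg]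
      exact fun h => p.2 (Prod.ext h.1 h.2)⟩
  have hf : Function.Bijective f := by
    constructor
    · intro p p' h
      obtain ⟨-, h1, h2⟩ := D.U_inj (congrArg Subtype.val h)
      exact Subtype.ext (Prod.ext h1 h2)
    · rintro ⟨g, hg, ho⟩
      obtain ⟨t, u, v, rfl⟩ := D.mem_UG.1 hg
      rw [D.orderOf_U] at ho
      split_ifs at ho with ht huv <;> try omega
      subst ht
      exact ⟨⟨(u, v), fun h => huv ⟨congrArg Prod.fst h, congrArg Prod.snd h⟩⟩, rfl⟩
  rw [← Nat.card_eq_of_bijective f hf, Nat.card_eq_fintype_card, Fintype.card_subtype_compl]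
  simp [pow_two]

theorem card_UG_nine :
    Nat.card {g : Γ // g ∈ D.UG ∧ orderOf g = 9} = Fintype.card K ^ 2 * (Fintype.card K - 1) := by
  classical
  let f : {t : K // t ≠ 0} × K × K → {g : Γ // g ∈ D.UG ∧ orderOf g = 9} := fun p =>
    ⟨D.U p.1.1 p.2.1 p.2.2, D.U_mem _ _ _, by rw [D.orderOf_U, if_neg p.1.2]⟩
  have hf : Function.Bijective f := by
    constructor
    · rintro ⟨⟨t, ht⟩, u, v⟩ ⟨⟨t', ht'⟩, u', v'⟩ h
      obtain ⟨rfl, rfl, rfl⟩ := D.U_inj (congrArg Subtype.val h)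
      rfl
    · rintro ⟨g, hg, ho⟩
      obtain ⟨t, u, v, rfl⟩ := D.mem_UG.1 hg
      rw [D.orderOf_U] at ho
      split_ifs at ho with ht huv <;> try omega
      exact ⟨⟨⟨t, ht⟩, u, v⟩, rfl⟩
  rw [← Nat.card_eq_of_bijective f hf, Nat.card_eq_fintype_card, Fintype.card_prod, Fintype.card_prod,
    Fintype.card_subtype_compl]
  simp; ring

theorem card_order_six :
    Nat.card {g : Γ // orderOf g = 6} * (Fintype.card K ^ 3 * (Fintype.card K - 1)) =
      Nat.card Γ * (Fintype.card K ^ 2 * (Fintype.card K - 1)) := by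
  classical
  haveI := D.finite
  have hconj : ∀ a x : Γ, orderOf (a * x * a⁻¹) = orderOf x := fun a x => by
    rw [← MulAut.conj_apply, MulEquiv.orderOf_eq]
  have e : conjSet {g : Γ | g ∈ D.BG ∧ orderOf g = 6} = {g : Γ | orderOf g = 6} := by
    ext g
    constructor
    · rintro ⟨a, x, ⟨-, hx⟩, rfl⟩
      show orderOf (a * x * a⁻¹) = 6
      rw [hconj, hx]
    · intro hg
      have hg' : orderOf g = 6 := hg
      obtain ⟨a, ha, -⟩ := D.three_dvd_cases (g := g) (by rw [hg']; norm_num)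
      exact ⟨a, a⁻¹ * g * a, ⟨ha, by rw [orderOf_conj, hg']⟩, by group⟩
  have h := card_conjSet {g : Γ | g ∈ D.BG ∧ orderOf g = 6} D.BG ?_ ?_
  · rw [e, D.card_BG] at h
    refine h.trans ?_
    congr 1
    let f : {p : K × K × K // p.2.1 ≠ p.1 * D.σ p.1} → {g : Γ | g ∈ D.BG ∧ orderOf g = 6} := fun p =>
      ⟨D.U p.1.1 p.1.2.1 p.1.2.2 * D.jI, mul_mem (D.U_mem_BG _ _ _) (D.H_mem_BG _), by
        rw [D.orderOf_UjI, if_neg p.2]⟩
    have hf : Function.Bijective f := by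
      constructor
      · intro p p' h
        obtain ⟨h1, h2, h3⟩ := D.U_inj (mul_right_cancel (congrArg Subtype.val h))
        exact Subtype.ext (Prod.ext h1 (Prod.ext h2 h3))
      · rintro ⟨g, hg, ho⟩
        rcases D.BG_cases hg with h | ⟨t, u, v, h⟩ | h
        · exfalso
          have := orderOf_dvd_of_pow_eq_one (D.UG_pow_nine h)
          rw [ho] at this
          norm_num at this
        · subst h
          rw [D.orderOf_UjI] at ho
          split_ifs at ho with hu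
          · omega
          · exact ⟨⟨(t, u, v), hu⟩, rfl⟩
        · exfalso
          have hd := (D.orderOf_dvd_of_XH h).1
          rw [ho] at hd
          have hq : (3 : ℕ) ∣ Fintype.card K := by rw [D.card_eq]; exact dvd_pow_self 3 (by omega)
          have := Fintype.one_lt_card (α := K)
          omega
    rw [← Nat.card_eq_of_bijective f hf, Nat.card_eq_fintype_card, Fintype.card_subtype_compl,
      Fintype.card_congr (β := K × K) (α := {p : K × K × K // p.2.1 = p.1 * D.σ p.1})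
        { toFun := fun p => (p.1.1, p.1.2.2)
          invFun := fun p => ⟨(p.1, p.1 * D.σ p.1, p.2), rfl⟩
          left_inv := fun p => Subtype.ext (Prod.ext rfl (Prod.ext p.2.symm rfl))
          right_inv := fun p => rfl }]
    simp only [Fintype.card_prod]
    rw [Nat.mul_sub, mul_one, pow_two, mul_assoc]
  · rintro n hn x ⟨hx, hx6⟩
    exact ⟨mul_mem (mul_mem hn hx) (inv_mem hn), by rw [hconj, hx6]⟩
  · rintro a x ⟨hx, hx6⟩ ⟨hx', -⟩
    by_contra hB
    have h2 : ∀ y : Γ, orderOf y = 6 → y ∈ D.BG → y ^ 2 ∈ D.UG ∧ y ^ 2 ≠ 1 := by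
      intro y hy hyB
      have hy2 : orderOf (y ^ 2) = 3 := by
        rw [orderOf_pow_of_dvd (by norm_num) (by rw [hy]; norm_num), hy]
      exact ⟨D.mem_UG_of_BG (pow_mem hyB 2) (Or.inl hy2), fun e => by rw [e, orderOf_one] at hy2; omega⟩
    obtain ⟨hu, hu1⟩ := h2 x hx6 hx
    obtain ⟨hv, -⟩ := h2 _ (by rw [hconj, hx6]) hx'
    refine hu1 ?_
    have := D.UG_ti (g := a) hB hv (by rw [conj_pow, show a⁻¹ * (a * x ^ 2 * a⁻¹) * a = x ^ 2 by group]; exact hu)
    rwa [conj_pow, conj_eq_one_iff] at this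

theorem card_involutions (hperf : commutator Γ = ⊤) :
    Nat.card {g : Γ // orderOf g = 2} * Nat.card D.CJ = Nat.card Γ := by
  haveI := D.finite
  haveI := Fact.mk Nat.prime_two
  have e : conjSet {D.jI} = {g : Γ | orderOf g = 2} := by
    ext g
    constructor
    · rintro ⟨a, x, rfl, rfl⟩
      show orderOf (a * D.jI * a⁻¹) = 2
      rw [← MulAut.conj_apply, MulEquiv.orderOf_eq]
      exact orderOf_eq_prime (by rw [pow_two, D.jI_sq]) D.jI_ne
    · intro hg
      have hg' : orderOf g = 2 := hg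
      obtain ⟨a, ha⟩ := D.conj_jI hperf (x := g) (fun e => by rw [e, orderOf_one] at hg'; omega)
        (by rw [← pow_two, ← hg', pow_orderOf_eq_one])
      exact ⟨a, D.jI, rfl, ha⟩
  have h := card_conjSet {D.jI} D.CJ (fun n hn x hx => by
      rw [Set.mem_singleton_iff] at hx ⊢
      rw [hx, ← (D.mem_CJ.1 hn).eq, mul_inv_cancel_right])
    (fun a x hx hx' => by
      rw [Set.mem_singleton_iff] at hx hx'
      rw [hx, mul_inv_eq_iff_eq_mul] at hx'
      exact D.mem_CJ.2 hx'.symm)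
  rw [e, show Nat.card ({D.jI} : Set Γ) = 1 by simp, mul_one] at h
  exact h

end Dat

end Cfsg.Agent.Ree
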