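import Cfsg.Agent.Lib.Ree.Datum
import Cfsg.Agent.Lib.Chev.TwReeThm
import Cfsg.Agent.Lib.Chev.SL2

/-!
The twisted group of type ²G₂ carries the structure of a small Ree group.
-/

set_option autoImplicit false
set_option maxHeartbeats 1000000

namespace Cfsg.Agent.Ree

open Cfsg.Lie Cfsg.Agent.Chev Cfsg.Agent.Chev.TwRee
open scoped MatrixGroups

variable {K : Type*} [Field K] [CharP K 3]

theorem cwordsRee : G2.pk.cword 7 8 = [(9, 2, 1, 1), (10, -3, 2, 1), (11, -3, 1, 2)] ∧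
    G2.pk.cword 7 9 = [(10, -3, 1, 1)] ∧ G2.pk.cword 7 10 = [] ∧ G2.pk.cword 7 11 = [] ∧
    G2.pk.cword 6 8 = [] ∧ G2.pk.cword 6 9 = [] ∧ G2.pk.cword 6 10 = [(11, -1, 1, 1)] ∧
    G2.pk.cword 6 11 = [] := by decide +kernel

theorem two_eq : (2 : K) = -1 := by linear_combination TwRee.three (K := K)

theorem mthree : ((-3 : ℤ) : K) = 0 := by push_cast; linear_combination -(TwRee.three (K := K))

theorem Q_x6 (c d f g B : K) : Q c d f g * x 6 B = x 6 B * Q c d f (g - B * f) := by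
  obtain ⟨-, -, -, -, w8, w9, w10, w11⟩ := cwordsRee
  have h : ∀ (s : ℕ) (u : K), s < G2.pk.nroots → s ≠ 6 → s ≠ G2.pk.ng 6 → _ := fun s u a b c' =>
    G2.ok.cword_one (r := 6) (s := s) ckComm_G2 (by decide +kernel) a b c' B u
  have e8 := h 8 c (by decide +kernel) (by decide) (by decide +kernel)
  have e9 := h 9 d (by decide +kernel) (by decide) (by decide +kernel)
  have e10 := h 10 f (by decide +kernel) (by decide) (by decide +kernel)
  have e11 := h 11 g (by decide +kernel) (by decide) (by decide +kernel)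
  rw [w8, List.map_nil, List.prod_nil, mul_one] at e8
  rw [w9, List.map_nil, List.prod_nil, mul_one] at e9
  rw [w10] at e10
  rw [w11, List.map_nil, List.prod_nil, mul_one] at e11
  simp only [List.map_cons, List.map_nil, List.prod_cons, List.prod_nil, mul_one, pow_one,
    Int.cast_neg, Int.cast_one, neg_mul, one_mul] at e10
  rw [show g - B * f = -(B * f) + g by ring]
  simp only [Q, ← xa]
  calc x 8 c * x 9 d * x 10 f * x 11 g * x 6 B
      = x 8 c * x 9 d * x 10 f * (x 6 B * x 11 g) := by rw [← e11]; group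
    _ = x 8 c * x 9 d * (x 6 B * x 10 f * x 11 (-(B * f))) * x 11 g := by rw [← e10]; group
    _ = x 8 c * (x 6 B * x 9 d) * x 10 f * x 11 (-(B * f)) * x 11 g := by rw [← e9]; group
    _ = (x 6 B * x 8 c) * x 9 d * x 10 f * x 11 (-(B * f)) * x 11 g := by rw [← e8]; group
    _ = _ := by group

theorem Q_x7 (c d f g A : K) : Q c d f g * x 7 A = x 7 A * Q c (d - A * c) f g := by
  obtain ⟨w8, w9, w10, w11, -⟩ := cwordsRee
  have h : ∀ (s : ℕ) (u : K), s < G2.pk.nroots → s ≠ 7 → s ≠ G2.pk.ng 7 → _ := fun s u a b c' =>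
    G2.ok.cword_one (r := 7) (s := s) ckComm_G2 (by decide +kernel) a b c' A u
  have e8 := h 8 c (by decide +kernel) (by decide) (by decide +kernel)
  have e9 := h 9 d (by decide +kernel) (by decide) (by decide +kernel)
  have e10 := h 10 f (by decide +kernel) (by decide) (by decide +kernel)
  have e11 := h 11 g (by decide +kernel) (by decide) (by decide +kernel)
  rw [w8] at e8
  rw [w9] at e9
  rw [w10, List.map_nil, List.prod_nil, mul_one] at e10
  rw [w11, List.map_nil, List.prod_nil, mul_one] at e11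
  simp only [List.map_cons, List.map_nil, List.prod_cons, List.prod_nil, mul_one, pow_one, mthree,
    zero_mul, G2.ok.xG_zero, Int.cast_ofNat, two_eq, neg_mul, one_mul] at e8 e9
  rw [show d - A * c = -(A * c) + d by ring]
  simp only [Q, ← xa]
  calc x 8 c * x 9 d * x 10 f * x 11 g * x 7 A
      = x 8 c * x 9 d * x 10 f * (x 7 A * x 11 g) := by rw [← e11]; group
    _ = x 8 c * x 9 d * (x 7 A * x 10 f) * x 11 g := by rw [← e10]; group
    _ = x 8 c * (x 7 A * x 9 d) * x 10 f * x 11 g := by rw [← e9]; group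
    _ = (x 7 A * x 8 c * x 9 (-(A * c))) * x 9 d * x 10 f * x 11 g := by rw [← e8]; group
    _ = _ := by group

theorem nf_mul' (a b c d f g a' b' c' d' f' g' : K) :
    (x 6 a * x 7 b * Q c d f g) * (x 6 a' * x 7 b' * Q c' d' f' g') =
      x 6 (a + a') * x 7 (b + b') * Q (c + c' - a' * b)
        (d + d' - a' * b ^ 2 - b' * (c - a' * b)) (f + f' + a' * b ^ 3)
        (g + g' - a' * f + a' ^ 2 * b ^ 3) := by
  calc x 6 a * x 7 b * Q c d f g * (x 6 a' * x 7 b' * Q c' d' f' g')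
      = x 6 a * x 7 b * (Q c d f g * x 6 a') * x 7 b' * Q c' d' f' g' := by group
    _ = x 6 a * (x 7 b * x 6 a') * Q c d f (g - a' * f) * x 7 b' * Q c' d' f' g' := by
        rw [Q_x6]; group
    _ = x 6 a * x 6 a' * x 7 b * ((Q (-(a' * b)) (-(a' * b ^ 2)) (a' * b ^ 3) (a' ^ 2 * b ^ 3) *
          Q c d f (g - a' * f)) * x 7 b') * Q c' d' f' g' := by rw [swap76]; group
    _ = x 6 a * x 6 a' * (x 7 b * x 7 b') * (Q (-(a' * b) + c)
          (-(a' * b ^ 2) + d - b' * (-(a' * b) + c)) (a' * b ^ 3 + f)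
          (a' ^ 2 * b ^ 3 + (g - a' * f)) * Q c' d' f' g') := by rw [Q_mul, Q_x7]; group
    _ = _ := by rw [Q_mul, xa, xa]; congr 2 <;> ring

variable (φ : K →+* K) (hφ : ∀ t, φ (φ t) ^ 3 = t)

include hφ in
theorem srt_mul' (t u v t' u' v' : K) : srt φ t u v * srt φ t' u' v' =
    srt φ (t + t') (u + u' - t * φ t' ^ 3)
      (v + v' - t' * u + φ t' ^ 3 * (t * t' - t ^ 2)) := by
  obtain ⟨a, b, c, h⟩ := (pos_fixed_iff φ hφ).1
    (mul_mem (s := chevG2.posUnipotent K ⊓ (T φ).fixed) ⟨srt_pos φ t u v, srt_fixed φ hφ t u v⟩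
      ⟨srt_pos φ t' u' v', srt_fixed φ hφ t' u' v'⟩)
  have h' := h
  simp only [srt] at h'
  rw [nf_mul'] at h'
  obtain ⟨rfl, -, -, -, h5, h6⟩ := nf_unique h'
  have h3 := TwRee.three (K := K)
  have e1 : φ (t + t') ^ 3 = φ t ^ 3 + φ t' ^ 3 := by
    rw [map_add]; linear_combination (φ t ^ 2 * φ t' + φ t * φ t' ^ 2) * h3
  rw [e1] at h5 h6
  have eb : b = u + u' - t * φ t' ^ 3 := by linear_combination -h5
  rw [h, eb]
  congr 1
  linear_combination -h6 - (φ t ^ 3 * t * t' + φ t' ^ 3 * t * t') * h3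

omit [CharP K 3] in
theorem tor_hom (a b : Kˣ) : TwRee.tor φ (a * b) = TwRee.tor φ a * TwRee.tor φ b := by
  funext j; fin_cases j <;> simp [TwRee.tor]

omit [CharP K 3] in
theorem tor_one : TwRee.tor φ (1 : Kˣ) = 1 := by
  funext j; fin_cases j <;> simp [TwRee.tor]

omit [CharP K 3] in
theorem tor_inv (a : Kˣ) : TwRee.tor φ a⁻¹ = (TwRee.tor φ a)⁻¹ := by
  funext j; fin_cases j <;> simp [TwRee.tor]

/-- The torus as a homomorphism. -/
noncomputable def torH : Kˣ →* GL chevG2.Idx K :=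
  MonoidHom.comp hH ⟨⟨TwRee.tor φ, tor_one φ⟩, tor_hom φ⟩

theorem torH_apply (z : Kˣ) : torH φ z = hH (TwRee.tor φ z) := rfl

include hφ in
theorem torH_srt [Fintype K] (z : Kˣ) (t u v : K) : torH φ z * srt φ t u v * (torH φ z)⁻¹ =
    srt φ ((z : K) ^ 2 / φ z ^ 3 * t) (φ z ^ 3 / z * u) ((z : K) * v) := by
  obtain ⟨c6, c7, c8, c9, c10, c11⟩ := chars (TwRee.tor φ z)
  have v0 : ((TwRee.tor φ z 0 : Kˣ) : K) = φ z := rfl
  have v1 : ((TwRee.tor φ z 1 : Kˣ) : K) = z := rfl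
  simp only [v0, v1] at c6 c7 c8 c9 c10 c11
  have hmem : torH φ z * srt φ t u v * (torH φ z)⁻¹ ∈ chevG2.posUnipotent K ⊓ (T φ).fixed := by
    have hz := ((diag_fixed_iff φ hφ).2 ⟨z, rfl⟩).2
    exact ⟨(Subgroup.mem_normalizer_iff.1 (G2.ok.diagonal_normalizes (hH_mem _)) _).1 (srt_pos φ t u v),
      (T φ).fixed.mul_mem ((T φ).fixed.mul_mem hz (srt_fixed φ hφ t u v)) ((T φ).fixed.inv_mem hz)⟩
  obtain ⟨a, b, c, h⟩ := (pos_fixed_iff φ hφ).1 hmem
  have hc : torH φ z * srt φ t u v * (torH φ z)⁻¹ =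
      x 6 (hchar G2.pk (TwRee.tor φ z) 6 * t) * x 7 (hchar G2.pk (TwRee.tor φ z) 7 * φ t) *
        Q (hchar G2.pk (TwRee.tor φ z) 8 * φ u) (hchar G2.pk (TwRee.tor φ z) 9 * φ v)
          (hchar G2.pk (TwRee.tor φ z) 10 * (φ t ^ 3 * t + u))
          (hchar G2.pk (TwRee.tor φ z) 11 * (φ t ^ 3 * t ^ 2 + v)) := by
    rw [torH_apply, srt, Q, ← MulAut.conj_apply]
    simp only [map_mul, MulAut.conj_apply]
    rw [hH_x _ (by omega), hH_x _ (by omega), hH_x _ (by omega), hH_x _ (by omega), hH_x _ (by omega),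
      hH_x _ (by omega), Q]
  have h' := hc.symm.trans h
  rw [srt, c6, c7, c8, c9, c10, c11] at h'
  obtain ⟨h1, -, -, -, h5, h6⟩ := nf_unique h'
  have hz0 : (z : K) ≠ 0 := z.ne_zero
  have hp : φ (z : K) ≠ 0 := (map_ne_zero φ).2 hz0
  have hpp := hφ (z : K)
  have e1 : φ a ^ 3 = φ ((z : K)) ^ 6 / (z : K) ^ 3 * φ t ^ 3 / 1 := by
    rw [← h1, map_mul, map_mul, map_inv₀, map_pow, map_pow, div_one]
    have hpq : φ (φ (z : K)) ≠ 0 := (map_ne_zero φ).2 hp
    field_simp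
    rw [show φ (φ (z : K)) ^ (3 * 3) = (φ (φ (z : K)) ^ 3) ^ 3 by ring, hpp]
    ring
  have ea : a = (z : K) ^ 2 / φ z ^ 3 * t := by rw [← h1]; field_simp
  have eb : b = φ z ^ 3 / z * u := by
    rw [e1, ea] at h5
    field_simp at h5 ⊢
    linear_combination -h5
  have ec : c = (z : K) * v := by
    rw [e1, ea] at h6
    field_simp at h6 ⊢
    linear_combination -h6
  rw [h, ea, eb, ec]

/-- The product of the two root homomorphisms generating the centraliser of the torus involution. -/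
theorem exists_psi : ∃ Ψ : SL(2, K) →* GL chevG2.Idx K,
    (∀ u, Ψ (uT u) = srt φ 0 u 0) ∧ (∀ u, Ψ (lT u) = n0 * srt φ 0 (-u) 0 * n0⁻¹) ∧ Ψ (-1) = 1 := by
  obtain ⟨f, hfr, hfU, hfL⟩ := G2.ok.exists_sl2 (F := K) (r := 8) (by decide +kernel) (by decide +kernel)
  obtain ⟨g, hgr, hgU, hgL⟩ := G2.ok.exists_sl2 (F := K) (r := 10) (by decide +kernel) (by decide +kernel)
  have hng : G2.pk.ng 8 = 3 ∧ G2.pk.ng 10 = 1 := by decide +kernel
  have horth : ckOrth G2.pk 8 10 = true ∧ ckOrth G2.pk 8 1 = true ∧ ckOrth G2.pk 3 10 = true ∧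
      ckOrth G2.pk 3 1 = true := by decide +kernel
  have hcomm : ∀ a b : SL(2, K), Commute (f a) (g b) := by
    intro a b
    have hle : f.range ≤ Subgroup.centralizer (g.range : Set (GL chevG2.Idx K)) := by
      rw [hfr, hgr, hng.1, hng.2, Subgroup.le_centralizer_iff]
      refine sup_le ?_ ?_ <;> rw [Subgroup.le_centralizer_iff] <;> refine sup_le ?_ ?_ <;>
        (intro p hp q hq
         rw [← SetLike.mem_coe, G2.ok.rootSubgroup_eq] at hp
         rw [SetLike.mem_coe, ← SetLike.mem_coe, G2.ok.rootSubgroup_eq] at hq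
         obtain ⟨s, rfl⟩ := hp
         obtain ⟨r, rfl⟩ := hq
         first
           | exact (G2.ok.commute_xG ckComm_G2 horth.1 s r).eq.symm
           | exact (G2.ok.commute_xG ckComm_G2 horth.2.1 s r).eq.symm
           | exact (G2.ok.commute_xG ckComm_G2 horth.2.2.1 s r).eq.symm
           | exact (G2.ok.commute_xG ckComm_G2 horth.2.2.2 s r).eq.symm)
    exact (Subgroup.mem_centralizer_iff.1 (hle ⟨a, rfl⟩) _ ⟨b, rfl⟩).symm
  let μ := Matrix.SpecialLinearGroup.map (n := Fin 2) φ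
  have hμU : ∀ u, μ (Cfsg.Agent.Chev.sU u) = Cfsg.Agent.Chev.sU (φ u) := fun u => by
    apply Subtype.ext; ext i j; fin_cases i <;> fin_cases j <;> simp [μ, coe_sU]
  have hμL : ∀ u, μ (Cfsg.Agent.Chev.sL u) = Cfsg.Agent.Chev.sL (φ u) := fun u => by
    apply Subtype.ext; ext i j; fin_cases i <;> fin_cases j <;> simp [μ, coe_sL]
  refine ⟨MonoidHom.mk' (fun a => f (μ a) * g a) fun a b => ?_, fun u => ?_, fun u => ?_, ?_⟩
  · rw [map_mul, map_mul, map_mul]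
    calc f (μ a) * f (μ b) * (g a * g b) = f (μ a) * (f (μ b) * g a) * g b := by group
      _ = f (μ a) * (g a * f (μ b)) * g b := by rw [(hcomm (μ b) a).eq]
      _ = _ := by group
  · show f (μ (Cfsg.Agent.Chev.sU u)) * g (Cfsg.Agent.Chev.sU u) = _
    rw [hμU, hfU, hgU, srt_layer]
    simp [Q, x, G2.ok.xG_zero]
  · show f (μ (Cfsg.Agent.Chev.sL u)) * g (Cfsg.Agent.Chev.sL u) = _
    rw [hμL, hfL, hgL, hng.1, hng.2, srt_layer]
    simp only [Q, x, map_zero, G2.ok.xG_zero, mul_one, map_neg]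
    rw [← MulAut.conj_apply, map_mul, MulAut.conj_apply, MulAut.conj_apply]
    rw [show G2.ok.xG (F := K) 8 (-φ u) = x 8 (-φ u) from rfl, n0_xG (by omega),
      show G2.ok.xG (F := K) 10 (-u) = x 10 (-u) from rfl, n0_xG (by omega)]
    simp
  · show f (μ (-1)) * g (-1) = 1
    have hm : μ (-1) = -1 := by
      apply Subtype.ext; ext i j; fin_cases i <;> fin_cases j <;> simp [μ]
    have hW : (-1 : SL(2, K)) = Cfsg.Agent.Chev.sW * Cfsg.Agent.Chev.sW := by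
      apply Subtype.ext
      simp [coe_sW, Matrix.mul_fin_two, Matrix.one_fin_two, Matrix.neg_of, Matrix.neg_cons, Matrix.neg_empty]
    have hWW : ∀ (r : ℕ), r < G2.pk.nroots → ∀ (h : SL(2, K) →* GL chevG2.Idx K),
        (∀ t, h (Cfsg.Agent.Chev.sU t) = G2.ok.xG r t) →
        (∀ t, h (Cfsg.Agent.Chev.sL t) = G2.ok.xG (G2.pk.ng r) t) →
        h (-1) = G2.ok.nt r 1 * G2.ok.nt r 1 := by
      intro r _ h hU hL
      rw [hW, map_mul, sW_eq, map_mul, map_mul, hU, hL]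
      simp [Ok.nt]
    rw [hm, hWW 8 (by decide +kernel) f hfU hfL, hWW 10 (by decide +kernel) g hgU hgL]
    have hsq : ∀ r, r < G2.pk.nroots → G2.ok.nt (F := K) r 1 * G2.ok.nt r 1 = (G2.ok.ht r (-1))⁻¹ := by
      intro r _
      simp [Ok.ht, G2.ok.nt_neg]
    rw [hsq 8 (by decide +kernel), hsq 10 (by decide +kernel), ← mul_inv_rev, inv_eq_one]
    have hne : (-1 : K) ≠ 0 := neg_ne_zero.2 one_ne_zero
    rw [G2.ok.ht_eq (by decide +kernel) hne, G2.ok.ht_eq (by decide +kernel) hne]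
    apply Units.ext
    rw [Units.val_mul, G2.ok.coe_dG, G2.ok.coe_dG, dM_mul, Units.val_one, ← dM_one, dM, dM]
    congr 1
    funext y
    rcases y with i | s
    · rfl
    · show (-1 : K) ^ G2.pk.pair 10 s.val * (-1) ^ G2.pk.pair 8 s.val = 1
      rw [← zpow_add₀ hne]
      have hs : s.val < 12 := s.isLt
      have : ∀ r < 12, (G2.pk.pair 10 r + G2.pk.pair 8 r) % 2 = 0 := by decide +kernel
      obtain ⟨k, hk⟩ := Int.dvd_of_emod_eq_zero (this _ hs)
      rw [hk, zpow_mul, zpow_ofNat, neg_one_sq, one_zpow]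

theorem n0_sq [Fintype K] : (n0 : GL chevG2.Idx K) * n0 = 1 := by
  obtain ⟨c, hc⟩ := exists_hH (n0_inv_mem (K := K))
  rw [hc]
  refine (congrArg (hH (K := K)) ?_).trans (map_one _)
  have hc1 : ∀ r < 12, hchar G2.pk c r = 1 := by
    intro r hr
    have h1 := hH_x c hr (1 : K)
    rw [← hc, show n0 * n0 * x r (1 : K) * (n0 * n0)⁻¹ = n0 * (n0 * x r 1 * n0⁻¹) * n0⁻¹ by group,
      n0_xG hr, n0_xG (by omega), show 11 - (11 - r) = r by omega, neg_neg, mul_one] at h1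
    exact (G2.ok.xG_inj_param (r := r) hr h1).symm
  obtain ⟨-, -, -, c9, -, c11⟩ := chars c
  funext j
  apply Units.ext
  fin_cases j
  · exact c9.symm.trans (hc1 9 (by omega))
  · exact c11.symm.trans (hc1 11 (by omega))

/-- The twisted group of type ²G₂ is a small Ree group. -/
theorem exists_dat_coe {K : Type*} [Field K] [Fintype K] {m : ℕ}
    (hK : Fintype.card K = 3 ^ (2 * m + 1)) :
    ∃ D : Dat K ↥(twistedG2 K (3 ^ m)) m,
      (∀ g : ↥(twistedG2 K (3 ^ m)), (g : GL chevG2.Idx K) ∈ chevG2.diagonalSubgroup K ↔ ∃ z, g = D.H z) ∧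
      (∀ g : ↥(twistedG2 K (3 ^ m)), (g : GL chevG2.Idx K) ∈ chevG2.posUnipotent K ↔ g ∈ D.UG) ∧
      (∀ g : ↥(twistedG2 K (3 ^ m)), (g : GL chevG2.Idx K) ∈ chevG2.borelSubgroup K ↔ g ∈ D.BG) ∧
      ∃ (_ : CharP K 3) (φ : K →+* K), (∀ t, φ t = t ^ 3 ^ m) ∧
        (∀ t u v, (D.U t u v : GL chevG2.Idx K) = srt φ t u v) ∧
        (∀ z, (D.H z : GL chevG2.Idx K) = torH φ z) ∧ (D.w : GL chevG2.Idx K) = n0 := by
  classical
  haveI := charP_three hK
  obtain ⟨φ, G, hφe, hφ, hG, hO⟩ := setup hK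
  have hGf : twistedG2 K (3 ^ m) = (T φ).fixed := by rw [← hG, G.eq_fixed ckComm_G2]
  have hn : n0 ∈ twistedG2 K (3 ^ m) := hGf ▸ n0_fixed φ
  have hs : ∀ t u v, srt φ t u v ∈ twistedG2 K (3 ^ m) := srt_mem φ _ hφe
  have hh : ∀ z, torH φ z ∈ twistedG2 K (3 ^ m) := fun z =>
    hGf ▸ ((diag_fixed_iff φ hφ).2 ⟨z, rfl⟩).2
  obtain ⟨Ψ, hΨU, hΨL, hΨ1⟩ := exists_psi φ
  have hΨ : ∀ a, Ψ a ∈ twistedG2 K (3 ^ m) := by
    intro a
    induction a using sl2_induction with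
    | one => rw [map_one]; exact one_mem _
    | hu t g hg => rw [map_mul]; exact mul_mem ((hΨU t).symm ▸ hs _ _ _) hg
    | hw g hg =>
      rw [map_mul, sW_eq, map_mul, map_mul]
      exact mul_mem (mul_mem (mul_mem ((hΨU 1).symm ▸ hs _ _ _)
        ((hΨL (-1)).symm ▸ mul_mem (mul_mem hn (hs _ _ _)) (inv_mem hn))) ((hΨU 1).symm ▸ hs _ _ _)) hg
  have hw2 : (n0 : GL chevG2.Idx K)⁻¹ = n0 := inv_eq_of_mul_eq_one_right n0_sq
  let σ : K →+* K := (frobenius K 3).comp φ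
  have hσ : ∀ t, σ t = φ t ^ 3 := fun t => rfl
  refine ⟨
    { σ := σ
      card_eq := hK
      three := TwRee.three
      σσ := fun t => by simp only [hσ, map_pow]; rw [hφ]
      σ_pow := fun t => by rw [hσ, hφe, ← pow_mul, ← pow_succ]
      U := fun t u v => ⟨srt φ t u v, hs t u v⟩
      H := (torH φ).codRestrict _ hh
      w := ⟨n0, hn⟩
      ψ := Ψ.codRestrict _ hΨ
      U_mul := fun t u v t' u' v' => Subtype.ext (srt_mul' φ hφ t u v t' u' v')
      U_inj := fun e => srt_inj φ (congrArg Subtype.val e)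
      H_inj := fun a b e => congrFun (hH_inj (congrArg Subtype.val e : hH (TwRee.tor φ a) = hH (TwRee.tor φ b))) 1
      U_H := fun {t u v z} e => ?_
      H_U := fun z t u v => Subtype.ext (torH_srt φ hφ z t u v)
      w_sq := Subtype.ext n0_sq
      w_H := fun z => Subtype.ext ?_
      cases := fun g => ?_
      w_U := fun {t u v t' u' v' z} e => ?_
      ψ_upper := fun u => Subtype.ext (hΨU u)
      ψ_lower := fun u => Subtype.ext ((hΨL u).trans (by rw [hw2]; rfl))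
      ψ_neg := Subtype.ext hΨ1 }, fun g => ⟨fun h => ?_, ?_⟩, fun g => ⟨fun h => ?_, ?_⟩,
      fun g => ⟨fun h => ?_, ?_⟩, inferInstance, φ, hφe, fun t u v => rfl, fun z => rfl, rfl⟩
  · have e' : srt φ t u v = hH (TwRee.tor φ z) := congrArg Subtype.val e
    have h1 : srt φ t u v ∈ chevG2.posUnipotent K ⊓ chevG2.diagonalSubgroup K :=
      ⟨srt_pos φ t u v, e' ▸ hH_mem _⟩
    rw [G2.ok.pos_inf_diagonal, Subgroup.mem_bot] at h1
    exact srt_inj φ (h1.trans (by rw [srt_layer]; simp [Q_zero]) : srt φ t u v = srt φ 0 0 0)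
  · show n0 * hH (TwRee.tor φ z) * n0 = hH (TwRee.tor φ z⁻¹)
    rw [tor_inv, ← n0_hH, hw2]
  · have hgf : (g : GL chevG2.Idx K) ∈ (T φ).fixed := hGf ▸ g.2
    obtain ⟨l, hl, hc, n, hn', d, hd, en, b, hb, u0, hu0, eg⟩ := G.decomp ckComm_G2 hgf
    obtain ⟨v0, hv0, k0, hk0, rfl⟩ := TwistGrp.borel_fixed (T := T φ) ckComm_G2 hb.1 ((T φ).mem_fixed.1 hb.2).2
    obtain ⟨t, u, v, rfl⟩ := (pos_fixed_iff φ hφ).1 hv0
    obtain ⟨t', u', v', rfl⟩ := (pos_fixed_iff φ hφ).1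
      (⟨G2.ok.negS_le_pos _ hu0.1, hu0.2⟩ : u0 ∈ chevG2.posUnipotent K ⊓ (T φ).fixed)
    obtain ⟨z0, rfl⟩ := (diag_fixed_iff φ hφ).1 hk0
    have hnf : G2.ok.nW l * d ∈ (T φ).fixed := en ▸ G.le_fixed hn'
    subst en
    rcases fixed_rep φ hl hc hd hnf with h | ⟨k, hk, h⟩
    · obtain ⟨z1, h⟩ := (diag_fixed_iff φ hφ).1 h
      refine Or.inl ?_
      rw [h] at eg
      obtain ⟨a, b, c, e⟩ := (⟨_, _, _, torH_srt φ hφ (z0 * z1) t' u' v'⟩ :
        ∃ a b c, torH φ (z0 * z1) * srt φ t' u' v' * (torH φ (z0 * z1))⁻¹ = srt φ a b c)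
      refine ⟨t + a, u + b - t * φ a ^ 3, v + c - a * u + φ a ^ 3 * (t * a - t ^ 2), z0 * z1,
        Subtype.ext (eg.trans ?_)⟩
      show _ = srt φ (t + a) (u + b - t * φ a ^ 3) (v + c - a * u + φ a ^ 3 * (t * a - t ^ 2)) * torH φ (z0 * z1)
      rw [← srt_mul' φ hφ, ← e, torH_apply, tor_hom, map_mul]
      group
    · obtain ⟨z1, rfl⟩ := (diag_fixed_iff φ hφ).1 hk
      refine Or.inr ⟨t, u, v, z0 * z1, t', u', v', Subtype.ext (eg.trans ?_)⟩
      rw [h]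
      show _ = srt φ t u v * torH φ (z0 * z1) * n0 * srt φ t' u' v'
      rw [torH_apply, tor_hom, map_mul]
      group
  · have e' : n0 * srt φ t u v * n0 = srt φ t' u' v' * hH (TwRee.tor φ z) := congrArg Subtype.val e
    have h1 : n0 * srt φ t u v * n0⁻¹ ∈ chevG2.borelSubgroup K ⊓ chevG2.negUnipotent K :=
      ⟨by rw [hw2, e']; exact mul_mem (Subgroup.mem_sup_left (srt_pos φ _ _ _)) (Subgroup.mem_sup_right (hH_mem _)),
        n0_neg (srt_pos φ t u v)⟩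
    rw [G2.ok.borel_inf_neg, Subgroup.mem_bot, conj_eq_one_iff] at h1
    exact srt_inj φ (h1.trans (by rw [srt_layer]; simp [Q_zero]) : srt φ t u v = srt φ 0 0 0)
  · obtain ⟨z, hz⟩ := (diag_fixed_iff φ hφ).1 (⟨h, hGf ▸ g.2⟩ : (g : GL chevG2.Idx K) ∈ _ ⊓ (T φ).fixed)
    exact ⟨z, Subtype.ext hz⟩
  · rintro ⟨z, rfl⟩
    exact hH_mem _
  · obtain ⟨t, u, v, e⟩ := (pos_fixed_iff φ hφ).1 (⟨h, hGf ▸ g.2⟩ : (g : GL chevG2.Idx K) ∈ _ ⊓ (T φ).fixed)
    exact ⟨t, u, v, Subtype.ext e⟩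
  · rintro ⟨t, u, v, rfl⟩
    exact srt_pos φ t u v
  · obtain ⟨v0, hv0, k0, hk0, e⟩ :=
      TwistGrp.borel_fixed (T := T φ) ckComm_G2 h ((T φ).mem_fixed.1 (hGf ▸ g.2)).2
    obtain ⟨t, u, v, rfl⟩ := (pos_fixed_iff φ hφ).1 hv0
    obtain ⟨z, rfl⟩ := (diag_fixed_iff φ hφ).1 hk0
    exact ⟨t, u, v, z, Subtype.ext e⟩
  · rintro ⟨t, u, v, z, rfl⟩
    exact Subgroup.mul_mem_sup (srt_pos φ t u v) (hH_mem _)

/-- The twisted group of type ²G₂ is a small Ree group. -/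
theorem exists_dat {K : Type*} [Field K] [Fintype K] {m : ℕ}
    (hK : Fintype.card K = 3 ^ (2 * m + 1)) :
    ∃ D : Dat K ↥(twistedG2 K (3 ^ m)) m,
      (∀ g : ↥(twistedG2 K (3 ^ m)), (g : GL chevG2.Idx K) ∈ chevG2.diagonalSubgroup K ↔ ∃ z, g = D.H z) ∧
      (∀ g : ↥(twistedG2 K (3 ^ m)), (g : GL chevG2.Idx K) ∈ chevG2.posUnipotent K ↔ g ∈ D.UG) ∧
      ∀ g : ↥(twistedG2 K (3 ^ m)), (g : GL chevG2.Idx K) ∈ chevG2.borelSubgroup K ↔ g ∈ D.BG :=
  let ⟨D, h1, h2, h3, _⟩ := exists_dat_coe hK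
  ⟨D, h1, h2, h3⟩

end Cfsg.Agent.Ree
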