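import Mathlib

/-!
Counting the conjugates of a set with trivial intersections, and conjugation of subgroups of prime
power order into a subgroup of coprime index.
-/

set_option autoImplicit false

namespace Cfsg.Agent.Ree

variable {G : Type*} [Group G] [Finite G]

/-- The conjugates of a subset. -/
def conjSet (X : Set G) : Set G := {y | ∃ g x, x ∈ X ∧ g * x * g⁻¹ = y}

omit [Finite G] in
theorem mem_conjSet {X : Set G} {y : G} : y ∈ conjSet X ↔ ∃ g x, x ∈ X ∧ g * x * g⁻¹ = y := Iff.rfl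

omit [Finite G] in
theorem self_mem_conjSet {X : Set G} {x : G} (h : x ∈ X) : x ∈ conjSet X := ⟨1, x, h, by group⟩

/-- A trivial intersection set has as many conjugates as its normaliser has cosets. -/
theorem card_conjSet (X : Set G) (N : Subgroup G) (hN : ∀ n ∈ N, ∀ x ∈ X, n * x * n⁻¹ ∈ X)
    (hti : ∀ g x, x ∈ X → g * x * g⁻¹ ∈ X → g ∈ N) :
    Nat.card (conjSet X) * Nat.card N = Nat.card G * Nat.card X := by
  classical
  choose g x hx he using fun y : conjSet X => y.2
  let f : conjSet X × N → G × X := fun p =>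
    (g p.1 * (p.2 : G), ⟨(p.2 : G)⁻¹ * x p.1 * (p.2 : G), by
      simpa using hN _ (inv_mem p.2.2) _ (hx p.1)⟩)
  have hy : ∀ p, (f p).1 * ((f p).2 : G) * (f p).1⁻¹ = (p.1 : G) := fun p => by
    show g p.1 * (p.2 : G) * ((p.2 : G)⁻¹ * x p.1 * (p.2 : G)) * (g p.1 * (p.2 : G))⁻¹ = _
    rw [← he p.1]; group
  have hf : Function.Bijective f := by
    constructor
    · rintro ⟨y, n⟩ ⟨y', n'⟩ h
      have e : y = y' := Subtype.ext (by rw [← hy (y, n), ← hy (y', n'), h])
      subst e
      have := congrArg Prod.fst h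
      exact Prod.ext rfl (Subtype.ext (mul_left_cancel this))
    · rintro ⟨a, ⟨b, hb⟩⟩
      set y : conjSet X := ⟨a * b * a⁻¹, a, b, hb, rfl⟩ with hyd
      have e : g y * x y * (g y)⁻¹ = a * b * a⁻¹ := he y
      have e2 : (g y)⁻¹ * a * b * ((g y)⁻¹ * a)⁻¹ = x y := by
        calc (g y)⁻¹ * a * b * ((g y)⁻¹ * a)⁻¹ = (g y)⁻¹ * (a * b * a⁻¹) * g y := by group
          _ = x y := by rw [← e]; group
      have hn : (g y)⁻¹ * a ∈ N := hti _ _ hb (e2 ▸ hx y)
      refine ⟨(y, ⟨_, hn⟩), Prod.ext ?_ (Subtype.ext ?_)⟩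
      · show g y * ((g y)⁻¹ * a) = a
        group
      · show ((g y)⁻¹ * a)⁻¹ * x y * ((g y)⁻¹ * a) = b
        rw [← e2]; group
  rw [← Nat.card_prod, ← Nat.card_prod, Nat.card_eq_of_bijective f hf]

/-- A subgroup of prime power order has a conjugate inside a subgroup of coprime index. -/
theorem exists_conj_le {p : ℕ} [Fact p.Prime] (C : Subgroup G) (hC : ¬ p ∣ C.index) {P : Subgroup G}
    (hP : IsPGroup p P) : ∃ g : G, ∀ y ∈ P, g⁻¹ * y * g ∈ C := by
  obtain ⟨S⟩ : Nonempty (Sylow p C) := inferInstance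
  set S' := (S : Subgroup C).map C.subtype with hS'
  have hS'p : IsPGroup p S' := S.2.map _
  have hS'i : ¬ p ∣ S'.index := by
    rw [hS', Subgroup.index_map_subtype]
    intro h
    rcases (Fact.out : p.Prime).dvd_mul.1 h with h | h
    exacts [S.not_dvd_index h, hC h]
  let T : Sylow p G := hS'p.toSylow hS'i
  obtain ⟨T', hT'⟩ := hP.exists_le_sylow
  obtain ⟨g, rfl⟩ := MulAction.exists_smul_eq G T T'
  refine ⟨g, fun y hy => ?_⟩
  have h := hT' hy
  rw [Sylow.coe_subgroup_smul, Subgroup.mem_pointwise_smul_iff_inv_smul_mem] at h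
  simp only [MulAut.smul_def, MulAut.conj_inv_apply] at h
  exact Subgroup.map_subtype_le _ h

/-- An element of prime order has a conjugate inside a subgroup of coprime index. -/
theorem exists_conj_mem {p : ℕ} [Fact p.Prime] (C : Subgroup G) (hC : ¬ p ∣ C.index) {y : G}
    (hy : orderOf y = p) : ∃ g : G, g⁻¹ * y * g ∈ C := by
  obtain ⟨g, hg⟩ := exists_conj_le C hC (P := Subgroup.zpowers y)
    (IsPGroup.of_card (n := 1) (by rw [Nat.card_zpowers, hy, pow_one]))
  exact ⟨g, hg y (Subgroup.mem_zpowers y)⟩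

omit [Finite G] in
theorem commute_conj {g a b : G} (h : Commute a b) : Commute (g⁻¹ * a * g) (g⁻¹ * b * g) := by
  have := h.map (MulAut.conj g⁻¹).toMonoidHom
  simpa using this

omit [Finite G] in
theorem orderOf_conj (g a : G) : orderOf (g⁻¹ * a * g) = orderOf a := by
  rw [← MulAut.conj_inv_apply, MulEquiv.orderOf_eq]

end Cfsg.Agent.Ree
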