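import Mathlib

/-!
An abstract description of the small Ree groups: the unipotent group with its multiplication law,
the torus, the Weyl involution, the Bruhat normal form and the embedded copy of `SL₂`.
-/

set_option autoImplicit false

namespace Cfsg.Agent.Ree

open scoped MatrixGroups

universe u v

/-- Upper unitriangular matrices. -/
def uT {K : Type*} [Field K] (t : K) : SL(2, K) := ⟨!![1, t; 0, 1], by simp [Matrix.det_fin_two_of]⟩

/-- Lower unitriangular matrices. -/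
def lT {K : Type*} [Field K] (t : K) : SL(2, K) := ⟨!![1, 0; t, 1], by simp [Matrix.det_fin_two_of]⟩

/-- The character of the torus on the first layer. -/
def w1 {K : Type*} [Field K] (σ : K →+* K) (z : K) : K := z ^ 2 / σ z

/-- The character of the torus on the second layer. -/
def w2 {K : Type*} [Field K] (σ : K →+* K) (z : K) : K := σ z / z

/-- The structure of a small Ree group over `K`. -/
structure Dat (K : Type u) [Field K] [Fintype K] (Γ : Type v) [Group Γ] (m : ℕ) where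
  σ : K →+* K
  card_eq : Fintype.card K = 3 ^ (2 * m + 1)
  three : (3 : K) = 0
  σσ : ∀ t, σ (σ t) = t ^ 3
  σ_pow : ∀ t, σ t = t ^ 3 ^ (m + 1)
  U : K → K → K → Γ
  H : Kˣ →* Γ
  w : Γ
  ψ : SL(2, K) →* Γ
  U_mul : ∀ t u v t' u' v', U t u v * U t' u' v' =
    U (t + t') (u + u' - t * σ t') (v + v' - t' * u + σ t' * (t * t' - t ^ 2))
  U_inj : ∀ {t u v t' u' v'}, U t u v = U t' u' v' → t = t' ∧ u = u' ∧ v = v'
  H_inj : Function.Injective H
  U_H : ∀ {t u v z}, U t u v = H z → t = 0 ∧ u = 0 ∧ v = 0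
  H_U : ∀ (z : Kˣ) t u v,
    H z * U t u v * (H z)⁻¹ = U (w1 σ z * t) (w2 σ z * u) ((z : K) * v)
  w_sq : w * w = 1
  w_H : ∀ z : Kˣ, w * H z * w = H z⁻¹
  cases : ∀ g : Γ, (∃ t u v z, g = U t u v * H z) ∨
    ∃ t u v z t' u' v', g = U t u v * H z * w * U t' u' v'
  w_U : ∀ {t u v t' u' v' z}, w * U t u v * w = U t' u' v' * H z → t = 0 ∧ u = 0 ∧ v = 0
  ψ_upper : ∀ u, ψ (uT u) = U 0 u 0
  ψ_lower : ∀ u, ψ (lT u) = w * U 0 (-u) 0 * w
  ψ_neg : ψ (-1) = 1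

variable {K : Type u} [Field K] [Fintype K] {Γ : Type v} [Group Γ] {m : ℕ} (D : Dat K Γ m)

namespace Dat

theorem U_zero : D.U 0 0 0 = 1 := by
  have h := D.U_mul 0 0 0 0 0 0
  simp only [map_zero, mul_zero, add_zero, sub_zero, sub_self, zero_mul] at h
  exact mul_eq_left.1 h

theorem U_inv (t u v : K) :
    (D.U t u v)⁻¹ = D.U (-t) (-u - t * D.σ t) (-v - t * u + D.σ t * t ^ 2) := by
  refine inv_eq_of_mul_eq_one_right ?_
  rw [D.U_mul, ← D.U_zero, map_neg]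
  congr 1
  · ring
  · ring
  · linear_combination (D.σ t * t ^ 2) * D.three

theorem U_eq_one {t u v : K} : D.U t u v = 1 ↔ t = 0 ∧ u = 0 ∧ v = 0 := by
  constructor
  · intro h
    exact D.U_inj (h.trans D.U_zero.symm)
  · rintro ⟨rfl, rfl, rfl⟩
    exact D.U_zero

theorem U_layer (u v u' v' : K) : D.U 0 u v * D.U 0 u' v' = D.U 0 (u + u') (v + v') := by
  rw [D.U_mul]; simp

theorem U_central (v t u' v' : K) : Commute (D.U 0 0 v) (D.U t u' v') := by
  show _ = _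
  rw [D.U_mul, D.U_mul]
  simp [add_comm]

theorem U_cube (t u v : K) : D.U t u v ^ 3 = D.U 0 0 (-(t ^ 2 * D.σ t)) := by
  rw [pow_succ, pow_two, D.U_mul, D.U_mul]
  congr 1
  · linear_combination t * D.three
  · linear_combination (u - t * D.σ t) * D.three
  · linear_combination (v - t * u) * D.three

theorem w_inv : D.w⁻¹ = D.w := inv_eq_of_mul_eq_one_right D.w_sq

theorem H_U' (z : Kˣ) (t u v : K) :
    D.H z * D.U t u v = D.U (w1 D.σ z * t) (w2 D.σ z * u) ((z : K) * v) * D.H z := by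
  rw [← D.H_U, inv_mul_cancel_right]

theorem w_H' (z : Kˣ) : D.w * D.H z = D.H z⁻¹ * D.w := by
  rw [← D.w_H, mul_assoc (D.w * D.H z), D.w_sq, mul_one]

/-- The unipotent group. -/
def UG : Subgroup Γ where
  carrier := {g | ∃ t u v, g = D.U t u v}
  one_mem' := ⟨0, 0, 0, D.U_zero.symm⟩
  mul_mem' := by rintro _ _ ⟨t, u, v, rfl⟩ ⟨t', u', v', rfl⟩; exact ⟨_, _, _, D.U_mul _ _ _ _ _ _⟩
  inv_mem' := by rintro _ ⟨t, u, v, rfl⟩; exact ⟨_, _, _, D.U_inv _ _ _⟩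

theorem U_mem (t u v : K) : D.U t u v ∈ D.UG := ⟨t, u, v, rfl⟩

theorem mem_UG {g : Γ} : g ∈ D.UG ↔ ∃ t u v, g = D.U t u v := Iff.rfl

/-- The Borel subgroup. -/
def BG : Subgroup Γ where
  carrier := {g | ∃ t u v z, g = D.U t u v * D.H z}
  one_mem' := ⟨0, 0, 0, 1, by rw [D.U_zero, map_one, one_mul]⟩
  mul_mem' := by
    rintro _ _ ⟨t, u, v, z, rfl⟩ ⟨t', u', v', z', rfl⟩
    exact ⟨_, _, _, z * z', by
      rw [mul_assoc (D.U t u v), ← mul_assoc (D.H z), D.H_U', mul_assoc _ (D.H z), ← map_mul,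
        ← mul_assoc, D.U_mul]⟩
  inv_mem' := by
    rintro _ ⟨t, u, v, z, rfl⟩
    exact ⟨_, _, _, z⁻¹, by rw [mul_inv_rev, ← map_inv, D.U_inv, D.H_U']⟩

theorem mem_BG {g : Γ} : g ∈ D.BG ↔ ∃ t u v z, g = D.U t u v * D.H z := Iff.rfl

theorem U_mem_BG (t u v : K) : D.U t u v ∈ D.BG := ⟨t, u, v, 1, by rw [map_one, mul_one]⟩

theorem H_mem_BG (z : Kˣ) : D.H z ∈ D.BG := ⟨0, 0, 0, z, by rw [D.U_zero, one_mul]⟩

theorem w_U_mem {t u v : K} (h : D.w * D.U t u v * D.w ∈ D.BG) : t = 0 ∧ u = 0 ∧ v = 0 := by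
  obtain ⟨t', u', v', z, h⟩ := h
  exact D.w_U h

theorem UH_inj {t u v t' u' v' : K} {z z' : Kˣ} (h : D.U t u v * D.H z = D.U t' u' v' * D.H z') :
    t = t' ∧ u = u' ∧ v = v' ∧ z = z' := by
  have e : (D.U t' u' v')⁻¹ * D.U t u v = D.H (z' * z⁻¹) := by
    rw [map_mul, map_inv, eq_mul_inv_iff_mul_eq, mul_assoc, h, inv_mul_cancel_left]
  rw [D.U_inv, D.U_mul] at e
  obtain ⟨h1, h2, h3⟩ := D.U_H e
  have h1' : t = t' := by linear_combination h1
  subst h1'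
  have h2' : u = u' := by
    linear_combination h2
  subst h2'
  have h3' : v = v' := by linear_combination h3
  subst h3'
  exact ⟨rfl, rfl, rfl, D.H_inj (mul_left_cancel h)⟩

theorem w_not_mem : D.w ∉ D.BG := by
  intro h
  have h1 := (D.w_U_mem (t := 0) (u := 0) (v := 1)
    (mul_mem (mul_mem h (D.U_mem_BG _ _ _)) h)).2.2
  exact one_ne_zero h1

theorem big_inj {t u v t' u' v' a b c a' b' c' : K} {z z' : Kˣ}
    (h : D.U t u v * D.H z * D.w * D.U a b c = D.U t' u' v' * D.H z' * D.w * D.U a' b' c') :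
    t = t' ∧ u = u' ∧ v = v' ∧ z = z' ∧ a = a' ∧ b = b' ∧ c = c' := by
  obtain ⟨x, y, r, e⟩ := D.mem_UG.1 (mul_mem (D.U_mem a b c) (inv_mem (D.U_mem a' b' c')))
  have h2 : D.w * D.U x y r * D.w =
      (D.U t u v * D.H z)⁻¹ * (D.U t' u' v' * D.H z') := by
    rw [← e, show D.w * (D.U a b c * (D.U a' b' c')⁻¹) * D.w =
      (D.U t u v * D.H z)⁻¹ * (D.U t u v * D.H z * D.w * D.U a b c) * (D.U a' b' c')⁻¹ * D.w by group, h,
      show (D.U t u v * D.H z)⁻¹ * (D.U t' u' v' * D.H z' * D.w * D.U a' b' c') * (D.U a' b' c')⁻¹ * D.w =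
      (D.U t u v * D.H z)⁻¹ * (D.U t' u' v' * D.H z') * (D.w * D.w) by group, D.w_sq, mul_one]
  have h3 : D.w * D.U x y r * D.w ∈ D.BG := by
    rw [h2]
    exact mul_mem (inv_mem ⟨t, u, v, z, rfl⟩) ⟨t', u', v', z', rfl⟩
  obtain ⟨rfl, rfl, rfl⟩ := D.w_U_mem h3
  rw [D.U_zero, mul_inv_eq_one] at e
  obtain ⟨rfl, rfl, rfl⟩ := D.U_inj e
  obtain ⟨h4, h5, h6, h7⟩ := D.UH_inj (mul_right_cancel (mul_right_cancel h))
  exact ⟨h4, h5, h6, h7, rfl, rfl, rfl⟩

theorem not_mem_BG (t u v : K) (z : Kˣ) (a b c : K) :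
    D.U t u v * D.H z * D.w * D.U a b c ∉ D.BG := by
  intro h
  apply D.w_not_mem
  have h1 := mul_mem (mul_mem (inv_mem (D.mem_BG.2 ⟨t, u, v, z, rfl⟩)) h) (inv_mem (D.U_mem_BG a b c))
  convert h1 using 1
  group

end Dat

end Cfsg.Agent.Ree
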