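import Mathlib

/-!
Elements of `GL₇(q)` whose order only involves primes at which `q` has order six.
-/

set_option autoImplicit false

namespace Cfsg.Agent.Ree

theorem pow_ne_one_of_dvd {p : ℕ} [Fact p.Prime] {q : ℕ} (hp : 3 < p) (hdvd : p ∣ q ^ 2 - q + 1) (hqq : q ≤ q ^ 2)
    {d : ℕ} (hd : d ∈ [1, 2, 3, 4, 5, 7]) : (q : ZMod p) ^ d ≠ 1 := by
  have hz : (q : ZMod p) ^ 2 = q - 1 := by
    have h0 : ((q ^ 2 - q + 1 : ℕ) : ZMod p) = 0 := (ZMod.natCast_eq_zero_iff _ _).2 hdvd
    push_cast [Nat.cast_sub hqq] at h0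
    linear_combination h0
  have h3ne : (3 : ZMod p) ≠ 0 := by
    intro h
    have : p ∣ 3 := (ZMod.natCast_eq_zero_iff 3 p).1 (by exact_mod_cast h)
    have := Nat.le_of_dvd (by norm_num) this
    omega
  have h2ne : (2 : ZMod p) ≠ 0 := by
    intro h
    have : p ∣ 2 := (ZMod.natCast_eq_zero_iff 2 p).1 (by exact_mod_cast h)
    have := Nat.le_of_dvd (by norm_num) this
    omega
  have hq0 : (q : ZMod p) ≠ 0 := fun h => by
    rw [h] at hz; exact one_ne_zero (α := ZMod p) (by linear_combination hz)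
  intro h
  simp only [List.mem_cons, List.not_mem_nil, or_false] at hd
  have h3 : (q : ZMod p) ^ 3 = -1 := by linear_combination ((q : ZMod p) + 1) * hz
  rcases hd with rfl | rfl | rfl | rfl | rfl | rfl
  · rw [pow_one] at h
    rw [h] at hz
    exact one_ne_zero (α := ZMod p) (by linear_combination hz)
  · have h' : (q : ZMod p) = 2 := by linear_combination h - hz
    rw [h'] at hz
    exact h3ne (by linear_combination hz)
  · exact h2ne (by linear_combination h3 - h)
  · have h' : (q : ZMod p) = -1 := by linear_combination (q : ZMod p) * h3 - h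
    rw [h'] at hz
    exact h3ne (by linear_combination hz)
  · have h' : (q : ZMod p) ^ 2 = -1 := by linear_combination (q : ZMod p) ^ 2 * h3 - h
    exact hq0 (by linear_combination h' - hz)
  · have h' : (q : ZMod p) = 1 := by
      linear_combination h - (q : ZMod p) * ((q : ZMod p) ^ 3 - 1) * h3
    rw [h'] at hz
    exact one_ne_zero (α := ZMod p) (by linear_combination hz)

section

universe u

variable {K : Type u} [Field K] [Fintype K]

open Polynomial in
/-- The eigenvalues of such an element: one and a full orbit of the Frobenius. -/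
theorem exists_eigen [CharP K 3] {y : GL (Fin 7) K} {a : ℕ} (ha : orderOf y = a) (ha1 : 1 < a)
    (hp : ∀ p, p.Prime → p ∣ a → 3 < p) (hdvd : a ∣ Fintype.card K ^ 2 - Fintype.card K + 1) :
    ∃ (L : Type u) (_ : Field L) (f : K →+* L) (lam : L) (v : Fin 7 → Fin 7 → L) (μ : Fin 7 → L),
      LinearIndependent L v ∧ Function.Injective μ ∧ orderOf lam = a ∧
      (∀ i, ((y : Matrix (Fin 7) (Fin 7) K).map f).mulVec (v i) = μ i • v i) ∧
      (∀ i, μ i = 1 ∨ ∃ e < 6, μ i = lam ^ Fintype.card K ^ e) ∧ (∃ i, μ i = lam) := by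
  classical
  set q := Fintype.card K with hq
  have hq2 : 2 ≤ q := Fintype.one_lt_card
  have hqq : q ≤ q ^ 2 := by nlinarith
  have ha2 : ∀ b, b ∣ a → 1 < b → ∀ d ∈ [1, 2, 3, 4, 5, 7], ¬ b ∣ q ^ d - 1 := by
    intro b hb hb1 d hd h
    obtain ⟨p, hpp, hpb⟩ := Nat.exists_prime_and_dvd (show b ≠ 1 by omega)
    haveI := Fact.mk hpp
    refine pow_ne_one_of_dvd (hp p hpp (hpb.trans hb)) ((hpb.trans hb).trans hdvd) hqq hd ?_
    have h0 : ((q ^ d - 1 : ℕ) : ZMod p) = 0 := (ZMod.natCast_eq_zero_iff _ _).2 (hpb.trans h)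
    rw [Nat.cast_sub (Nat.one_le_pow _ _ (by omega))] at h0
    push_cast at h0
    linear_combination h0
  let L := AlgebraicClosure K
  let f : K →+* L := algebraMap K L
  haveI : CharP L 3 := charP_of_injective_algebraMap (algebraMap K L).injective 3
  haveI := Fact.mk Nat.prime_three
  set y' : GL (Fin 7) L := Matrix.GeneralLinearGroup.map f y with hy'
  have hinj : Function.Injective (Matrix.GeneralLinearGroup.map (n := Fin 7) f) := by
    intro g h e
    exact Units.ext (Matrix.map_injective f.injective (congrArg Units.val e))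
  have ha' : orderOf y' = a := by rw [hy', orderOf_injective _ hinj, ha]
  set Y : Matrix (Fin 7) (Fin 7) L := (y : Matrix (Fin 7) (Fin 7) K).map f with hY
  have hcoe : (y' : Matrix (Fin 7) (Fin 7) L) = Y := rfl
  have hYa : Y ^ a = 1 := by
    rw [← hcoe, ← Units.val_pow_eq_pow_val, ← ha', pow_orderOf_eq_one, Units.val_one]
  set P := (y : Matrix (Fin 7) (Fin 7) K).charpoly with hP
  have hYP : Y.charpoly = P.map f := Matrix.charpoly_map _ f
  have hdet : ∀ c : L, P.aeval c = 0 → ∃ w ≠ 0, Y.mulVec w = c • w := by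
    intro c hc
    have h0 : (Y.charpoly).eval c = 0 := by rw [hYP, eval_map, ← aeval_def, hc]
    rw [Matrix.eval_charpoly] at h0
    obtain ⟨w, hw0, hw⟩ := Matrix.exists_mulVec_eq_zero_iff.2 h0
    refine ⟨w, hw0, ?_⟩
    rw [Matrix.sub_mulVec, Matrix.scalar_apply, sub_eq_zero] at hw
    rw [← hw]
    ext i
    simp [Matrix.mulVec_diagonal]
  have hpow : ∀ (c : L) (w : Fin 7 → L), Y.mulVec w = c • w → ∀ n : ℕ, (Y ^ n).mulVec w = c ^ n • w := by
    intro c w h n
    induction n with
    | zero => simp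
    | succ n ih => rw [pow_succ, ← Matrix.mulVec_mulVec, h, Matrix.mulVec_smul, ih, smul_smul, pow_succ']
  have hroot : ∀ c : L, P.aeval c = 0 → c ^ a = 1 := by
    intro c hc
    obtain ⟨w, hw0, hw⟩ := hdet c hc
    have h := hpow c w hw a
    rw [hYa, Matrix.one_mulVec] at h
    by_contra hne
    refine hw0 ((smul_eq_zero.1 (show (c ^ a - 1) • w = 0 by rw [sub_smul, ← h, one_smul, sub_self])).resolve_left
      (sub_ne_zero.2 hne))
  obtain ⟨lam, hlam, hlam1⟩ : ∃ lam : L, P.aeval lam = 0 ∧ lam ≠ 1 := by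
    by_contra hcon
    push_neg at hcon
    have hs : (P.map f).Splits := IsAlgClosed.splits _
    have hdeg : (P.map f).natDegree = 7 := by
      rw [natDegree_map, Matrix.charpoly_natDegree_eq_dim]; rfl
    have hroots : (P.map f).roots = Multiset.replicate 7 1 := by
      rw [Multiset.eq_replicate]
      refine ⟨hdeg ▸ (splits_iff_card_roots.1 hs), fun c hc => hcon c ?_⟩
      rw [mem_roots', IsRoot.def, eval_map, ← aeval_def] at hc
      exact hc.2
    have hprod := hs.eq_prod_roots_of_monic ((Matrix.charpoly_monic _).map f)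
    rw [hroots, Multiset.map_replicate, Multiset.prod_replicate] at hprod
    have hCH := Matrix.aeval_self_charpoly Y
    rw [hYP, hprod, map_pow, map_sub, aeval_X, aeval_C, map_one] at hCH
    have h9 : (Y - 1) ^ 3 ^ 2 = 0 := by
      rw [show (3 : ℕ) ^ 2 = 7 + 2 by norm_num, pow_add, hCH, zero_mul]
    haveI : CharP (Matrix (Fin 7) (Fin 7) L) 3 := inferInstance
    rw [sub_pow_char_pow_of_commute 3 2 (Commute.one_right Y), one_pow, sub_eq_zero] at h9
    have : y' ^ 9 = 1 := Units.ext (by rw [Units.val_pow_eq_pow_val, hcoe, Units.val_one]; simpa using h9)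
    have hd := orderOf_dvd_of_pow_eq_one this
    rw [ha'] at hd
    obtain ⟨p, hpp, hpa⟩ := Nat.exists_prime_and_dvd (show a ≠ 1 by omega)
    have h39 : p ∣ 3 := hpp.dvd_of_dvd_pow (show p ∣ 3 ^ 2 from hpa.trans hd)
    have := hp p hpp hpa
    have := Nat.le_of_dvd (by norm_num) h39
    omega
  set b := orderOf lam with hb
  have hba : b ∣ a := orderOf_dvd_of_pow_eq_one (hroot _ hlam)
  have hb1 : 1 < b := by
    rcases Nat.lt_trichotomy b 1 with h | h | h
    · exfalso
      have h0 : b = 0 := by omega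
      exact absurd (Nat.eq_zero_of_zero_dvd (h0 ▸ hba)) (by omega)
    · exact absurd (orderOf_eq_one_iff.1 h) hlam1
    · exact h
  have hlam0 : lam ≠ 0 := fun h => by
    have := hroot _ hlam
    rw [h, zero_pow (by omega)] at this
    exact zero_ne_one this
  have hint : IsIntegral K lam := ⟨P, Matrix.charpoly_monic _, hlam⟩
  set M := minpoly K lam with hM
  have hMP : M ∣ P := minpoly.dvd K lam hlam
  have hMdeg : M.natDegree = 6 := by
    set d := M.natDegree with hd
    have hd7 : d ≤ 7 := by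
      refine (natDegree_le_of_dvd hMP (Matrix.charpoly_monic _).ne_zero).trans ?_
      rw [Matrix.charpoly_natDegree_eq_dim]; rfl
    have hd0 : 0 < d := minpoly.natDegree_pos hint
    haveI : FiniteDimensional K (IntermediateField.adjoin K ({lam} : Set L)) :=
      IntermediateField.adjoin.finiteDimensional hint
    set F := IntermediateField.adjoin K ({lam} : Set L) with hF
    haveI : Finite F := Module.finite_of_finite K
    haveI := Fintype.ofFinite F
    have hcard : Fintype.card F = q ^ d := by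
      rw [Module.card_eq_pow_finrank (K := K) (V := F), hF, IntermediateField.adjoin.finrank hint]
    have hfix : (⟨lam, IntermediateField.mem_adjoin_simple_self K lam⟩ : F) ^ (q ^ d) =
        ⟨lam, IntermediateField.mem_adjoin_simple_self K lam⟩ := by
      rw [← hcard, FiniteField.pow_card]
    have h1 : lam ^ q ^ d = lam := congrArg Subtype.val hfix
    have h2 : b ∣ q ^ d - 1 := by
      refine orderOf_dvd_of_pow_eq_one (mul_right_cancel₀ hlam0 ?_)
      rw [← pow_succ, one_mul, Nat.sub_add_cancel (Nat.one_le_pow _ _ (by omega)), h1]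
    by_contra hne
    exact ha2 b hba hb1 d (by simp only [List.mem_cons, List.not_mem_nil, or_false]; omega) h2
  have hone : P.aeval (1 : L) = 0 := by
    obtain ⟨R, hR⟩ := hMP
    have hRm : R.Monic := (minpoly.monic hint).of_mul_monic_left (hR ▸ Matrix.charpoly_monic _)
    have hRd : R.natDegree = 1 := by
      have h7 : P.natDegree = 7 := by rw [Matrix.charpoly_natDegree_eq_dim]; rfl
      rw [hR, (minpoly.monic hint).natDegree_mul hRm, hMdeg] at h7
      omega
    obtain ⟨c, hc⟩ : ∃ c : K, R.eval c = 0 := ⟨-R.coeff 0, by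
      conv_lhs => rw [hRm.eq_X_add_C hRd]
      simp⟩
    have hcP : P.eval c = 0 := by rw [hR, eval_mul, hc, mul_zero]
    have hca : (f c) ^ a = 1 := hroot _ (by rw [aeval_algebraMap_apply, coe_aeval_eq_eval, hcP, map_zero])
    rw [← map_pow, ← map_one f] at hca
    have hca' : c ^ a = 1 := f.injective hca
    have hc0 : c ≠ 0 := fun h => by rw [h, zero_pow (by omega)] at hca'; exact zero_ne_one hca'
    have hcop : Nat.Coprime a (q - 1) := by
      refine Nat.coprime_of_dvd fun p hpp h1 h2 => ha2 p h1 hpp.one_lt 1 (by simp) (by rwa [pow_one])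
    have hc1 : c = 1 := orderOf_eq_one_iff.1 (Nat.eq_one_of_dvd_coprimes hcop (orderOf_dvd_of_pow_eq_one hca')
      (orderOf_dvd_of_pow_eq_one (FiniteField.pow_card_sub_one_eq_one c hc0)))
    rw [hc1] at hcP
    rw [show (1 : L) = algebraMap K L 1 from (map_one _).symm, aeval_algebraMap_apply, coe_aeval_eq_eval, hcP,
      map_zero]
  have hconj : ∀ e : ℕ, P.aeval (lam ^ q ^ e) = 0 := by
    intro e
    induction e with
    | zero => simpa using hlam
    | succ e ih =>
      have := aeval_algHom_apply (FiniteField.frobeniusAlgHom K L) (lam ^ q ^ e) P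
      rw [ih, map_zero] at this
      rw [FiniteField.frobeniusAlgHom_apply] at this
      rw [pow_succ, pow_mul]
      exact this
  let μ : Fin 7 → L := fun i => if (i : ℕ) < 6 then lam ^ q ^ (i : ℕ) else 1
  have hμ0 : ∀ i, P.aeval (μ i) = 0 := fun i => by
    simp only [μ]; split_ifs
    exacts [hconj _, hone]
  have hbq : Nat.Coprime b q := by
    refine Nat.coprime_of_dvd fun p hpp h1 h2 => ?_
    have h3 : p ∣ q ^ 2 - q + 1 := h1.trans (hba.trans hdvd)
    have h4 : p ∣ q ^ 2 - q := Nat.dvd_sub (h2.trans (dvd_pow_self q two_ne_zero)) h2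
    exact hpp.not_dvd_one ((Nat.dvd_add_right h4).1 h3)
  have hne1 : ∀ e, lam ^ q ^ e ≠ 1 := fun e h => by
    have := Nat.eq_one_of_dvd_coprimes (hbq.pow_right e) dvd_rfl (orderOf_dvd_of_pow_eq_one h)
    omega
  have hinj6 : ∀ i j, i < j → j < 6 → lam ^ q ^ i ≠ lam ^ q ^ j := by
    intro i j hij hj h
    rw [(orderOf_pos_iff.1 (show 0 < orderOf lam by rw [← hb]; omega)).pow_eq_pow_iff_modEq, ← hb] at h
    obtain ⟨d, rfl⟩ := Nat.exists_eq_add_of_le hij.le
    rw [pow_add] at h
    have h2 : 1 ≡ q ^ d [MOD b] := Nat.ModEq.cancel_left_of_coprime (hbq.pow_right i) (by rwa [mul_one])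
    exact ha2 b hba hb1 d (by simp only [List.mem_cons, List.not_mem_nil, or_false]; omega)
      ((Nat.modEq_iff_dvd' (Nat.one_le_pow _ _ (by omega))).1 h2)
  have hμ : Function.Injective μ := by
    intro i j h
    simp only [μ] at h
    split_ifs at h with hi hj hj
    · rcases lt_trichotomy (i : ℕ) j with hl | hl | hl
      · exact absurd h (hinj6 _ _ hl hj)
      · exact Fin.ext hl
      · exact absurd h.symm (hinj6 _ _ hl hi)
    · exact absurd h (hne1 _)
    · exact absurd h.symm (hne1 _)
    · exact Fin.ext (by omega)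
  choose v hv0 hv using fun i => hdet (μ i) (hμ0 i)
  have hli : LinearIndependent L v :=
    Module.End.eigenvectors_linearIndependent' (Matrix.mulVecLin Y) μ hμ v fun i =>
      ⟨Module.End.mem_eigenspace_iff.2 (by rw [Matrix.mulVecLin_apply, hv i]), hv0 i⟩
  refine ⟨L, inferInstance, f, lam, v, μ, hli, hμ, ?_, hv, fun i => ?_, ⟨0, by simp [μ]⟩⟩
  · refine Nat.dvd_antisymm hba ?_
    rw [← ha', ← hb]
    refine orderOf_dvd_of_pow_eq_one (Units.ext ?_)
    rw [Units.val_pow_eq_pow_val, Units.val_one, hcoe]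
    refine Matrix.toLin'.injective (Module.Basis.ext (basisOfLinearIndependentOfCardEqFinrank hli (by simp)) fun i => ?_)
    simp only [coe_basisOfLinearIndependentOfCardEqFinrank, Matrix.toLin'_apply, Matrix.one_mulVec]
    rw [hpow _ _ (hv i) b]
    have : μ i ^ b = 1 := by
      simp only [μ]; split_ifs
      · rw [← pow_mul, mul_comm, pow_mul, hb, pow_orderOf_eq_one, one_pow]
      · exact one_pow _
    rw [this, one_smul]
  · simp only [μ]
    split_ifs with h
    exacts [Or.inr ⟨_, h, rfl⟩, Or.inl rfl]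

theorem centralizer_commute [CharP K 3] {y g h : GL (Fin 7) K} (hy : 1 < orderOf y)
    (hp : ∀ p, p.Prime → p ∣ orderOf y → 3 < p)
    (hdvd : orderOf y ∣ Fintype.card K ^ 2 - Fintype.card K + 1) (hg : Commute g y) (hh : Commute h y) :
    Commute g h := by
  classical
  obtain ⟨L, hL, f, lam, v, μ, hli, hμ, -, hv, -, -⟩ := exists_eigen rfl hy hp hdvd
  let B := basisOfLinearIndependentOfCardEqFinrank hli (by simp)
  have hB : ∀ i, B i = v i := fun i => by simp [B]
  have key : ∀ g : GL (Fin 7) K, Commute g y →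
      ∀ i, ∃ c : L, ((g : Matrix (Fin 7) (Fin 7) K).map f).mulVec (v i) = c • v i := by
    intro g hg i
    set Y := (y : Matrix (Fin 7) (Fin 7) K).map f
    set w := ((g : Matrix (Fin 7) (Fin 7) K).map f).mulVec (v i) with hw
    have hYw : Y.mulVec w = μ i • w := by
      have hc := congrArg (fun M : Matrix (Fin 7) (Fin 7) K => M.map f) (congrArg Units.val hg.eq)
      simp only [Units.val_mul, Matrix.map_mul] at hc
      rw [hw, Matrix.mulVec_mulVec, ← hc, ← Matrix.mulVec_mulVec, hv, Matrix.mulVec_smul]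
    refine ⟨B.repr w i, ?_⟩
    have hsum : ∑ j, B.repr w j • v j = w := by
      conv_rhs => rw [← B.sum_repr w]
      simp [hB]
    have hz : ∀ j, j ≠ i → B.repr w j = 0 := by
      intro j hj
      have h0 : ∑ l, (B.repr w l * (μ l - μ i)) • v l = 0 := by
        calc ∑ l, (B.repr w l * (μ l - μ i)) • v l
            = Y.mulVec (∑ l, B.repr w l • v l) - μ i • ∑ l, B.repr w l • v l := by
              rw [Matrix.mulVec_sum, Finset.smul_sum, ← Finset.sum_sub_distrib]
              refine Finset.sum_congr rfl fun l _ => ?_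
              rw [Matrix.mulVec_smul, hv, smul_smul, smul_smul, mul_sub, sub_smul, mul_comm (μ i)]
          _ = 0 := by rw [hsum, hYw, sub_self]
      rcases mul_eq_zero.1 (Fintype.linearIndependent_iff.1 hli _ h0 j) with e | e
      · exact e
      · exact absurd (hμ (sub_eq_zero.1 e)) hj
    conv_lhs => rw [← hsum]
    exact Finset.sum_eq_single i (fun j _ hj => by rw [hz j hj, zero_smul]) (by simp)
  have hfin : ((g : Matrix (Fin 7) (Fin 7) K) * h).map f = ((h : Matrix (Fin 7) (Fin 7) K) * g).map f := by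
    refine Matrix.toLin'.injective (B.ext fun i => ?_)
    obtain ⟨c, hc⟩ := key g hg i
    obtain ⟨d, hd⟩ := key h hh i
    rw [hB, Matrix.toLin'_apply, Matrix.toLin'_apply, Matrix.map_mul, Matrix.map_mul, ← Matrix.mulVec_mulVec,
      ← Matrix.mulVec_mulVec, hc, hd, Matrix.mulVec_smul, Matrix.mulVec_smul, hc, hd, smul_smul, smul_smul,
      mul_comm]
  exact Units.ext (Matrix.map_injective f.injective hfin)

theorem conj_pow_eq_frob [CharP K 3] {y g : GL (Fin 7) K} (hy : 1 < orderOf y)
    (hp : ∀ p, p.Prime → p ∣ orderOf y → 3 < p)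
    (hdvd : orderOf y ∣ Fintype.card K ^ 2 - Fintype.card K + 1) {k : ℕ} (hk : g * y * g⁻¹ = y ^ k) :
    ∃ e < 6, (k : ZMod (orderOf y)) * (Fintype.card K : ZMod (orderOf y)) ^ e = 1 := by
  classical
  obtain ⟨L, hL, f, lam, v, μ, hli, hμ, hlam, hv, hcase, ⟨i, hi⟩⟩ := exists_eigen rfl hy hp hdvd
  let B := basisOfLinearIndependentOfCardEqFinrank hli (by simp)
  have hB : ∀ i, B i = v i := fun i => by simp [B]
  set Y := (y : Matrix (Fin 7) (Fin 7) K).map f with hY
  set w := ((g : Matrix (Fin 7) (Fin 7) K).map f).mulVec (v i) with hw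
  have hpow : ∀ (j : Fin 7) (n : ℕ), (Y ^ n).mulVec (v j) = μ j ^ n • v j := by
    intro j n
    induction n with
    | zero => simp
    | succ n ih => rw [pow_succ, ← Matrix.mulVec_mulVec, hv, Matrix.mulVec_smul, ih, smul_smul, pow_succ']
  have hYw : (Y ^ k).mulVec w = lam • w := by
    have hc := congrArg (fun M : Matrix (Fin 7) (Fin 7) K => f.mapMatrix M)
      (congrArg Units.val (mul_inv_eq_iff_eq_mul.1 hk))
    simp only [Units.val_mul, Units.val_pow_eq_pow_val, map_mul, map_pow] at hc
    rw [hw, Matrix.mulVec_mulVec]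
    refine (congrArg (fun M => Matrix.mulVec M (v i)) hc.symm).trans ?_
    show Matrix.mulVec ((g : Matrix (Fin 7) (Fin 7) K).map f * Y) (v i) = _
    rw [← Matrix.mulVec_mulVec, hv, hi, Matrix.mulVec_smul]
  have hw0 : w ≠ 0 := by
    intro h0
    refine hli.ne_zero i ?_
    have hone : ((g⁻¹ : GL (Fin 7) K) : Matrix (Fin 7) (Fin 7) K).map f *
        (g : Matrix (Fin 7) (Fin 7) K).map f = 1 := by
      rw [← Matrix.map_mul, ← Units.val_mul, inv_mul_cancel, Units.val_one, Matrix.map_one _ (map_zero f) (map_one f)]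
    calc v i = (1 : Matrix (Fin 7) (Fin 7) L).mulVec (v i) := (Matrix.one_mulVec _).symm
      _ = 0 := by rw [← hone, ← Matrix.mulVec_mulVec, ← hw, h0, Matrix.mulVec_zero]
  have hsum : ∑ j, B.repr w j • v j = w := by
    conv_rhs => rw [← B.sum_repr w]
    simp [hB]
  obtain ⟨j, hj⟩ : ∃ j, B.repr w j ≠ 0 := by
    by_contra hcon
    push_neg at hcon
    exact hw0 (by rw [← hsum]; simp [hcon])
  have hμj : μ j ^ k = lam := by
    have h0 : ∑ l, (B.repr w l * (μ l ^ k - lam)) • v l = 0 := by
      calc ∑ l, (B.repr w l * (μ l ^ k - lam)) • v l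
          = (Y ^ k).mulVec (∑ l, B.repr w l • v l) - lam • ∑ l, B.repr w l • v l := by
            rw [Matrix.mulVec_sum, Finset.smul_sum, ← Finset.sum_sub_distrib]
            refine Finset.sum_congr rfl fun l _ => ?_
            rw [Matrix.mulVec_smul, hpow, smul_smul, smul_smul, mul_sub, sub_smul, mul_comm lam]
        _ = 0 := by rw [hsum, hYw, sub_self]
    exact sub_eq_zero.1 ((mul_eq_zero.1 (Fintype.linearIndependent_iff.1 hli _ h0 j)).resolve_left hj)
  rcases hcase j with e | ⟨e, he, e'⟩
  · rw [e, one_pow] at hμj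
    rw [← hμj, orderOf_one] at hlam
    omega
  · refine ⟨e, he, ?_⟩
    rw [e', ← pow_mul] at hμj
    conv_rhs at hμj => rw [← pow_one lam]
    rw [(orderOf_pos_iff.1 (show 0 < orderOf lam by rw [hlam]; omega)).pow_eq_pow_iff_modEq, hlam,
      ← ZMod.natCast_eq_natCast_iff] at hμj
    push_cast at hμj
    rw [mul_comm]
    exact hμj

end

end Cfsg.Agent.Ree
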