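import Cfsg.Agent.Lib.Ree.Bridge
import Cfsg.Agent.Lib.Chev.FieldAut

/-!
Field automorphisms of the small Ree groups.
-/

set_option autoImplicit false

namespace Cfsg.Agent.Ree

open Cfsg.Lie Cfsg.Agent.Chev Cfsg.Agent.Chev.TwRee

/-- Every automorphism of the field acts coordinatewise on a small Ree group. -/
theorem exists_dat_field {K : Type*} [Field K] [Fintype K] {m : ℕ}
    (hK : Fintype.card K = 3 ^ (2 * m + 1)) :
    ∃ D : Dat K ↥(twistedG2 K (3 ^ m)) m, ∀ τ : K ≃+* K, ∃ α : MulAut ↥(twistedG2 K (3 ^ m)),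
      (∀ t u v, α (D.U t u v) = D.U (τ t) (τ u) (τ v)) ∧
      (∀ z, α (D.H z) = D.H (Units.map τ.toRingHom.toMonoidHom z)) ∧ α D.w = D.w := by
  classical
  obtain ⟨D, -, -, -, hc, φ, hφ, hU, hH, hw⟩ := exists_dat_coe hK
  refine ⟨D, fun τ => ?_⟩
  have hτφ : ∀ (f : K →+* K) (x : K), f (φ x) = φ (f x) := fun f x => by rw [hφ, hφ, map_pow]
  have gU : ∀ (f : K →+* K) t u v, gmap chevG2 f (D.U t u v : GL chevG2.Idx K) = D.U (f t) (f u) (f v) := by
    intro f t u v
    rw [hU, hU]
    simp only [srt, Q, map_mul]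
    simp only [x]
    rw [G2.ok.gmap_xG f (by decide +kernel), G2.ok.gmap_xG f (by decide +kernel), G2.ok.gmap_xG f (by decide +kernel),
      G2.ok.gmap_xG f (by decide +kernel), G2.ok.gmap_xG f (by decide +kernel), G2.ok.gmap_xG f (by decide +kernel)]
    simp only [hτφ, map_add, map_mul, map_pow]
  have gH : ∀ (f : K →+* K) z, gmap chevG2 f (D.H z : GL chevG2.Idx K) = D.H (Units.map f.toMonoidHom z) := by
    intro f z
    rw [hH, hH]
    show gmap chevG2 f (G2.ok.hHom (TwRee.tor φ z)) = G2.ok.hHom (TwRee.tor φ (Units.map f.toMonoidHom z))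
    refine (G2.ok.gmap_hHom f (TwRee.tor φ z)).trans ?_
    show G2.ok.hHom _ = _
    congr 1
    funext j
    apply Units.ext
    fin_cases j
    · exact hτφ f z
    · rfl
  have gw : ∀ f : K →+* K, gmap chevG2 f (D.w : GL chevG2.Idx K) = D.w := fun f => by
    rw [hw]; exact G2.ok.gmap_nW f w0 w0_ok
  have gmem : ∀ (f : K →+* K) (g : ↥(twistedG2 K (3 ^ m))),
      gmap chevG2 f (g : GL chevG2.Idx K) ∈ twistedG2 K (3 ^ m) := by
    intro f g
    rcases D.cases g with ⟨t, u, v, z, rfl⟩ | ⟨t, u, v, z, a, b, c, rfl⟩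
    · rw [Subgroup.coe_mul, map_mul, gU, gH, ← Subgroup.coe_mul]; exact SetLike.coe_mem _
    · rw [Subgroup.coe_mul, Subgroup.coe_mul, Subgroup.coe_mul, map_mul, map_mul, map_mul, gU, gH, gw, gU,
        ← Subgroup.coe_mul, ← Subgroup.coe_mul, ← Subgroup.coe_mul]; exact SetLike.coe_mem _
  have hinv : ∀ (f f' : K →+* K), (∀ x, f (f' x) = x) → ∀ g : GL chevG2.Idx K,
      gmap chevG2 f (gmap chevG2 f' g) = g := by
    intro f f' h g
    apply Units.ext
    rw [coe_gmap, coe_gmap, Matrix.map_map]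
    ext i j
    exact h _
  refine ⟨{ toFun := fun g => ⟨_, gmem τ.toRingHom g⟩
            invFun := fun g => ⟨_, gmem τ.symm.toRingHom g⟩
            left_inv := fun g => Subtype.ext (hinv _ _ (fun x => τ.symm_apply_apply x) _)
            right_inv := fun g => Subtype.ext (hinv _ _ (fun x => τ.apply_symm_apply x) _)
            map_mul' := fun a b => Subtype.ext (by
              show gmap chevG2 τ.toRingHom ((a * b : ↥(twistedG2 K (3 ^ m))) : GL chevG2.Idx K) = _
              rw [Subgroup.coe_mul, map_mul]; rfl) }, fun t u v => Subtype.ext (gU _ t u v),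
    fun z => Subtype.ext (gH _ z), Subtype.ext (gw _)⟩

end Cfsg.Agent.Ree
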