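import Cfsg.Agent.Lib.Ree.NormTwo

/-!
A lower bound for the degree of a faithful complex representation of a small Ree group.
-/

set_option autoImplicit false
set_option linter.unusedSectionVars false

namespace Cfsg.Agent.Ree

universe u v

section

variable {G : Type*} [Group G] {k : ℕ} (ρ : Representation ℂ G (Fin k → ℂ))

/-- The average of a twisted character along a finite group is a natural number. -/
theorem exists_twisted_average {A : Type*} [Group A] [Fintype A] (f : A →* G) (ν : A →* ℂ) :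
    ∃ n : ℕ, ∑ a, ν a * ρ.character (f a) = (Fintype.card A : ℂ) * n := by
  classical
  let τ : Representation ℂ A (Fin k → ℂ) :=
    { toFun := fun a => ν a • ρ (f a)
      map_one' := by simp
      map_mul' := fun a b => by rw [smul_mul_smul_comm, map_mul, map_mul, map_mul] }
  haveI : Invertible (Nat.card A : ℂ) := invertibleOfNonzero (by exact_mod_cast Nat.card_pos.ne')
  refine ⟨Module.finrank ℂ (Representation.invariants τ), ?_⟩
  rw [← τ.card_inv_mul_sum_char_eq_finrank, Nat.card_eq_fintype_card, mul_inv_cancel_left₀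
    (by exact_mod_cast Fintype.card_ne_zero)]
  refine Finset.sum_congr rfl fun a _ => ?_
  show _ = LinearMap.trace ℂ _ (ν a • ρ (f a))
  rw [map_smul, smul_eq_mul]
  rfl

/-- The trivial twisted average is the dimension of the fixed space. -/
theorem average_eq_fixed {A : Type*} [Group A] [Fintype A] (f : A →* G) :
    ∃ n : ℕ, ∑ a, ρ.character (f a) = (Fintype.card A : ℂ) * n ∧ n ≤ k ∧
      (n = 0 → ∀ T : Module.End ℂ (Fin k → ℂ), ∑ a, LinearMap.trace ℂ _ (T * ρ (f a)) = 0) ∧
      (n = k → ∀ a, ρ (f a) = 1) := by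
  classical
  haveI : Invertible (Nat.card A : ℂ) := invertibleOfNonzero (by exact_mod_cast Nat.card_pos.ne')
  set τ : Representation ℂ A (Fin k → ℂ) := ρ.comp f with hτ
  refine ⟨Module.finrank ℂ (Representation.invariants τ), ?_, ?_, fun h0 T => ?_, fun hk a => ?_⟩
  · rw [← τ.card_inv_mul_sum_char_eq_finrank, Nat.card_eq_fintype_card, mul_inv_cancel_left₀
      (by exact_mod_cast Fintype.card_ne_zero)]
    rfl
  · exact (Submodule.finrank_le _).trans (by simp)
  · have hz : ∑ a, ρ (f a) = 0 := by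
      refine LinearMap.ext fun x => ?_
      have hmem : (∑ a, τ a) x ∈ Representation.invariants τ := by
        rw [Representation.mem_invariants]
        intro g
        simp only [LinearMap.sum_apply, map_sum]
        refine Fintype.sum_equiv (Equiv.mulLeft g) _ _ fun b => ?_
        simp [map_mul]
      rw [Submodule.finrank_eq_zero.1 h0, Submodule.mem_bot] at hmem
      exact hmem
    rw [← map_sum, ← Finset.mul_sum, hz, mul_zero, map_zero]
  · refine LinearMap.ext fun x => ?_
    have htop : Representation.invariants τ = ⊤ := Submodule.eq_top_of_finrank_eq (by rw [hk]; simp)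
    exact (Representation.mem_invariants τ x).1 (htop ▸ Submodule.mem_top) a

end

variable {K : Type u} [Field K] [Fintype K] {Γ : Type v} [Group Γ] {m : ℕ} (D : Dat K Γ m)

namespace Dat

include D

/-- The centre of the unipotent group. -/
def zHom : Multiplicative K →* Γ :=
  MonoidHom.mk' (fun v => D.U 0 0 v.toAdd) fun a b => by rw [D.U_layer]; simp

/-- The abelian normal subgroup of the unipotent group. -/
def aHom : Multiplicative K × Multiplicative K →* Γ :=
  MonoidHom.mk' (fun p => D.U 0 p.1.toAdd p.2.toAdd) fun a b => by rw [D.U_layer]; simp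

theorem shear (t u v : K) : D.U t 0 0 * D.U 0 u v * (D.U t 0 0)⁻¹ = D.U 0 u (v + t * u) := by
  rw [D.U_mul, D.U_inv, D.U_mul]
  simp only [map_zero, map_neg, map_add]
  congr 1
  · ring
  · ring
  · linear_combination (D.σ t * t ^ 2) * D.three

theorem jI_U00_conj (v : K) : ∃ g : Γ, D.jI * D.U 0 0 v = g * D.jI * g⁻¹ := by
  refine ⟨D.U 0 0 v, ?_⟩
  have h1 : D.jI * D.U 0 0 v * D.jI = D.U 0 0 (-v) := by rw [D.jI_conj_U]; simp
  have h2 : D.jI * D.U 0 0 v = D.U 0 0 (-v) * D.jI := by rw [← h1, mul_assoc _ D.jI D.jI, D.jI_sq, mul_one]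
  have h3 : D.jI * (D.U 0 0 v)⁻¹ = (D.U 0 0 (-v))⁻¹ * D.jI := by
    rw [← h1]
    have := D.jI_sq
    rw [mul_inv_rev, mul_inv_rev, inv_eq_of_mul_eq_one_right D.jI_sq]
    simp [mul_assoc, this]
  rw [h2, mul_assoc, h3, ← mul_assoc, show (D.U 0 0 (-v))⁻¹ = D.U 0 0 v by rw [D.U_inv]; simp, D.U_layer, add_zero]
  congr 2
  linear_combination -v * D.three

theorem degree_bound (hperf : commutator Γ = ⊤) (hq4 : Fintype.card K % 8 = 3) {k : ℕ}
    (ρ : Representation ℂ Γ (Fin k → ℂ)) (hfaith : ρ (D.U 0 0 1) ≠ 1) :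
    Fintype.card K ^ 2 - Fintype.card K + 1 ≤ k := by
  classical
  haveI := D.finite
  set q := Fintype.card K with hq
  have hq2 : 2 ≤ q := Fintype.one_lt_card
  obtain ⟨lam, hlam⟩ : ∃ lam : AddChar K ℂ, lam ≠ 1 := by
    obtain ⟨ψ, hψ⟩ := (AddChar.exists_apply_ne_zero (a := (1 : K))).2 one_ne_zero
    exact ⟨ψ, fun e => hψ (by rw [e, AddChar.one_apply])⟩
  have hqc : (q : ℂ) ≠ 0 := by exact_mod_cast (by omega : q ≠ 0)
  set c := ρ.character (D.U 0 0 1) with hc
  have hconst : ∀ v : K, v ≠ 0 → ρ.character (D.U 0 0 v) = c := by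
    intro v hv
    have h := D.H_U (Units.mk0 v hv) 0 0 1
    simp only [mul_zero, mul_one, Units.val_mk0] at h
    rw [← h, ρ.char_conj]
  have hk1 : ρ.character 1 = k := by rw [ρ.char_one]; simp
  obtain ⟨d0, hd0, hd0k, hd0z, hd0k'⟩ := average_eq_fixed ρ D.zHom
  have hd0' : (k : ℂ) + (q - 1) * c = q * d0 := by
    rw [Fintype.card_multiplicative] at hd0
    rw [← hd0, Fintype.sum_equiv Multiplicative.toAdd (fun a => ρ.character (D.zHom a))
      (fun v => ρ.character (D.U 0 0 v)) (fun a => rfl), ← Finset.add_sum_erase _ _ (Finset.mem_univ (0 : K)),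
      D.U_zero, hk1, Finset.sum_congr rfl fun v hv => hconst v (Finset.ne_of_mem_erase hv), Finset.sum_const,
      Finset.card_erase_of_mem (Finset.mem_univ _), Finset.card_univ, nsmul_eq_mul,
      Nat.cast_sub (by omega), Nat.cast_one]
  let ν : Multiplicative K × Multiplicative K →* ℂ :=
    { toFun := fun p => lam p.2.toAdd
      map_one' := by simp
      map_mul' := fun a b => by simp [AddChar.map_add_eq_mul] }
  obtain ⟨e, he⟩ := exists_twisted_average ρ D.aHom ν
  have hsum0 : ∑ v : K, lam v = 0 := AddChar.sum_eq_zero_of_ne_one hlam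
  have he' : (k : ℂ) - c = (q : ℂ) ^ 2 * e := by
    rw [Fintype.card_prod, Fintype.card_multiplicative, Nat.cast_mul, ← pow_two] at he
    rw [← he, Fintype.sum_equiv (Equiv.prodCongr Multiplicative.toAdd Multiplicative.toAdd)
      (fun a => ν a * ρ.character (D.aHom a)) (fun p : K × K => lam p.2 * ρ.character (D.U 0 p.1 p.2))
      (fun a => rfl), Fintype.sum_prod_type, ← Finset.add_sum_erase _ _ (Finset.mem_univ (0 : K))]
    have hrest : ∀ u ∈ (Finset.univ : Finset K).erase 0,
        ∑ v, lam v * ρ.character (D.U 0 u v) = 0 := by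
      intro u hu
      have hu0 := Finset.ne_of_mem_erase hu
      rw [Finset.sum_congr rfl fun v _ => ?_, ← Finset.sum_mul, hsum0, zero_mul]
      · exact ρ.character (D.U 0 u 0)
      congr 1
      rw [← ρ.char_conj (D.U 0 u 0) (D.U (v / u) 0 0), D.shear, zero_add, div_mul_cancel₀ _ hu0]
    rw [Finset.sum_eq_zero hrest, add_zero, ← Finset.add_sum_erase _ _ (Finset.mem_univ (0 : K)),
      AddChar.map_zero_eq_one, one_mul, D.U_zero, hk1,
      Finset.sum_congr rfl fun v hv => by rw [hconst v (Finset.ne_of_mem_erase hv)], ← Finset.sum_mul,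
      Finset.sum_erase_eq_sub (Finset.mem_univ _), hsum0, AddChar.map_zero_eq_one]
    ring
  have hk : k = d0 + (q - 1) * q * e := by
    have h1 : (q : ℂ) * k = q * (d0 + ((q : ℂ) - 1) * q * e) := by linear_combination hd0' + ((q : ℂ) - 1) * he'
    have h2 := mul_left_cancel₀ hqc h1
    have h3 : ((q - 1 : ℕ) : ℂ) = (q : ℂ) - 1 := by rw [Nat.cast_sub (by omega), Nat.cast_one]
    rw [← h3] at h2
    exact_mod_cast h2
  have hsq : q ^ 2 - q = (q - 1) * q := by rw [pow_two, Nat.sub_mul, one_mul]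
  rcases Nat.eq_zero_or_pos e with rfl | he0
  · exfalso
    refine hfaith ?_
    simp only [mul_zero, add_zero] at hk
    exact hd0k' hk.symm (Multiplicative.ofAdd 1)
  rcases Nat.eq_zero_or_pos d0 with hd | hd
  swap
  · rw [hsq, hk]
    have : (q - 1) * q * 1 ≤ (q - 1) * q * e := Nat.mul_le_mul_left _ he0
    omega
  rcases (show e = 1 ∨ 2 ≤ e by omega) with rfl | he2
  swap
  · rw [hsq, hk]
    have h1 : (q - 1) * q * 2 ≤ (q - 1) * q * e := Nat.mul_le_mul_left _ he2
    have h2 : 1 ≤ (q - 1) * q := Nat.one_le_iff_ne_zero.2 (by simp; omega)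
    omega
  -- the exceptional degree is excluded by the involutions
  exfalso
  have hjz : ρ.character D.jI = 0 := by
    have h := hd0z hd (ρ D.jI)
    rw [Fintype.sum_equiv Multiplicative.toAdd (fun a => LinearMap.trace ℂ _ (ρ D.jI * ρ (D.zHom a)))
      (fun v => ρ.character D.jI) (fun a => ?_), Finset.sum_const, Finset.card_univ, nsmul_eq_mul] at h
    · exact (mul_eq_zero.1 h).resolve_left (by exact_mod_cast (by omega : q ≠ 0))
    · obtain ⟨g, hg⟩ := D.jI_U00_conj a.toAdd
      rw [← map_mul]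
      show ρ.character (D.jI * D.U 0 0 a.toAdd) = _
      rw [hg, ρ.char_conj]
  obtain ⟨F⟩ := D.nonempty_four
  haveI := Fintype.ofFinite (D.S8 F)
  obtain ⟨n, hn⟩ := exists_twisted_average ρ (D.S8 F).subtype 1
  have h8 : Fintype.card (D.S8 F) = 8 := by rw [← Nat.card_eq_fintype_card, D.card_S8]
  rw [h8, Finset.sum_eq_single (1 : D.S8 F) (fun s _ hs => ?_) (by simp), map_one, one_mul, map_one, hk1] at hn
  · have hn' : k = 8 * n := by exact_mod_cast hn
    have hodd : ((q - 1) * q) % 4 = 2 := by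
      obtain ⟨r, hr⟩ : ∃ r, q = 8 * r + 3 := ⟨q / 8, by omega⟩
      rw [hr, show 8 * r + 3 - 1 = 8 * r + 2 by omega]
      simp [Nat.mul_mod, Nat.add_mod]
    rw [hd, zero_add, mul_one] at hk
    omega
  · obtain ⟨g, hg⟩ := D.conj_jI hperf (x := (s : Γ)) (fun e => hs (Subtype.ext e)) (D.S8_sq F s.2)
    rw [MonoidHom.one_apply, one_mul]
    show ρ.character (s : Γ) = 0
    rw [← hg, ρ.char_conj, hjz]

end Dat

end Cfsg.Agent.Ree
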