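import Cfsg.Agent.Lib.Ree.Borel

/-!
The torus of a small Ree group and stabilisers of triples of cosets of the Borel subgroup.
-/

set_option autoImplicit false
set_option linter.unusedSectionVars false

namespace Cfsg.Agent.Ree

universe u v

variable {K : Type u} [Field K] [Fintype K] {Γ : Type v} [Group Γ] {m : ℕ} (D : Dat K Γ m)

namespace Dat

include D

theorem card_range_H : Nat.card D.H.range = Fintype.card K - 1 := by
  classical
  rw [← Nat.card_congr (MonoidHom.ofInjective D.H_inj).toEquiv, Nat.card_eq_fintype_card,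
    Fintype.card_units]

theorem isCyclic_H : IsCyclic D.H.range :=
  (MulEquiv.isCyclic (MonoidHom.ofInjective D.H_inj)).1 inferInstance

theorem exists_odd_half : ∃ k, Odd k ∧ Fintype.card K = 2 * k + 1 := by
  have h : 3 ^ (2 * m + 1) % 4 = 3 := by
    rw [pow_succ, pow_mul]; simp [Nat.mul_mod, Nat.pow_mod]
  refine ⟨3 ^ (2 * m + 1) / 2, Nat.odd_iff.2 (by omega), ?_⟩
  rw [D.card_eq]; omega

theorem card_odd_H : 2 * Nat.card {z : Kˣ // Odd (orderOf z)} = Fintype.card K - 1 := by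
  classical
  obtain ⟨k, hk, hq⟩ := D.exists_odd_half
  have hiff : ∀ z : Kˣ, Odd (orderOf z) ↔ z ^ k = 1 := by
    intro z
    constructor
    · intro h
      have h1 : orderOf z ∣ 2 * k := by
        have := orderOf_dvd_natCard z
        rwa [Nat.card_eq_fintype_card, Fintype.card_units, hq, Nat.add_sub_cancel] at this
      exact orderOf_dvd_iff_pow_eq_one.1 ((Nat.Coprime.dvd_mul_left (Nat.coprime_two_right.2 h)).1 h1)
    · intro h
      exact hk.of_dvd_nat (orderOf_dvd_of_pow_eq_one h)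
  rw [Nat.card_congr (Equiv.subtypeEquivRight hiff)]
  obtain ⟨g, hg⟩ := IsCyclic.exists_generator (α := Kˣ)
  have hord : orderOf g = 2 * k := by
    rw [orderOf_eq_card_of_forall_mem_zpowers hg, Nat.card_eq_fintype_card, Fintype.card_units, hq,
      Nat.add_sub_cancel]
  have : Nat.card {z : Kˣ // z ^ k = 1} = k := by
    have hc := IsCyclic.card_powMonoidHom_ker (G := Kˣ) k
    rw [Nat.card_eq_fintype_card (α := Kˣ), Fintype.card_units, hq, Nat.add_sub_cancel,
      Nat.gcd_mul_left_left] at hc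
    exact hc
  rw [this, hq, Nat.add_sub_cancel]

theorem inter_centralizer {z : Kˣ} (hne : z ≠ 1) (hodd : Odd (orderOf z)) {g : Γ} (hg : g ∈ D.UG)
    (hc : D.H z * g = g * D.H z) : g = 1 := by
  obtain ⟨t, u, v, rfl⟩ := D.mem_UG.1 hg
  refine D.U_eq_one.2 (D.H_centralizes_of_ne (fun e => hne (Units.ext e)) (fun e => ?_) hc)
  have h1 : orderOf z = 2 := by
    rw [show z = -1 from Units.ext e]
    haveI := Fact.mk Nat.prime_two
    exact orderOf_eq_prime (by simp) D.neg_one_ne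
  rw [h1] at hodd
  exact absurd hodd (by decide)

theorem stab_triple : (∀ x y r : Γ ⧸ D.BG, x ≠ y → x ≠ r → y ≠ r →
      Nat.card ↥(MulAction.stabilizer Γ x ⊓ MulAction.stabilizer Γ y ⊓ MulAction.stabilizer Γ r) ≤ 2) ∧
    ∃ x y r : Γ ⧸ D.BG, x ≠ y ∧ x ≠ r ∧ y ≠ r ∧
      Nat.card ↥(MulAction.stabilizer Γ x ⊓ MulAction.stabilizer Γ y ⊓ MulAction.stabilizer Γ r) = 2 := by
  classical
  haveI := D.finite
  set o : Γ ⧸ D.BG := QuotientGroup.mk (1 : Γ) with ho
  set p : Γ ⧸ D.BG := QuotientGroup.mk D.w with hp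
  have hstab : ∀ g x : Γ, g ∈ MulAction.stabilizer Γ (QuotientGroup.mk x : Γ ⧸ D.BG) ↔ x⁻¹ * g * x ∈ D.BG := by
    intro g x
    rw [MulAction.mem_stabilizer_iff, MulAction.Quotient.smul_mk, eq_comm, QuotientGroup.eq, smul_eq_mul,
      ← mul_assoc]
  have two : ∀ g : Γ, g ∈ MulAction.stabilizer Γ o ⊓ MulAction.stabilizer Γ p ↔ ∃ z, g = D.H z := by
    intro g
    rw [Subgroup.mem_inf, hstab, hstab, inv_one, one_mul, mul_one, D.w_inv]
    constructor
    · rintro ⟨hg, hg'⟩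
      obtain ⟨t, u, v, z, rfl⟩ := D.mem_BG.1 hg
      have e : D.w * (D.U t u v * D.H z) * D.w = D.w * D.U t u v * D.w * D.H z⁻¹ := by
        rw [← D.w_H]
        calc D.w * (D.U t u v * D.H z) * D.w = D.w * D.U t u v * (1 * D.H z * D.w) := by group
          _ = _ := by rw [← D.w_sq]; group
      rw [e] at hg'
      obtain ⟨rfl, rfl, rfl⟩ := D.w_U_mem ((Subgroup.mul_mem_cancel_right _ (D.H_mem_BG _)).1 hg')
      exact ⟨z, by rw [D.U_zero, one_mul]⟩
    · rintro ⟨z, rfl⟩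
      exact ⟨D.H_mem_BG z, by rw [D.w_H]; exact D.H_mem_BG _⟩
  have fix : ∀ (z : Kˣ) (t u v : K), D.H z ∈ MulAction.stabilizer Γ
      (QuotientGroup.mk (D.U t u v * D.w) : Γ ⧸ D.BG) ↔ D.H z * D.U t u v = D.U t u v * D.H z := by
    intro z t u v
    rw [hstab, mul_inv_rev, D.w_inv, show D.w * (D.U t u v)⁻¹ * D.H z * (D.U t u v * D.w) =
      D.w * ((D.U t u v)⁻¹ * (D.H z * D.U t u v)) * D.w by group, D.H_U', ← mul_assoc _ _ (D.H z)]
    obtain ⟨a, b, c, e⟩ := D.mem_UG.1 (mul_mem (inv_mem (D.U_mem t u v))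
      (D.U_mem (w1 D.σ z * t) (w2 D.σ z * u) ((z : K) * v)))
    rw [e, show D.w * (D.U a b c * D.H z) * D.w = D.w * D.U a b c * D.w * (D.w⁻¹ * D.H z * D.w) by group,
      D.w_inv, D.w_H, Subgroup.mul_mem_cancel_right _ (D.H_mem_BG _), mul_left_inj]
    constructor
    · intro h
      obtain ⟨rfl, rfl, rfl⟩ := D.w_U_mem h
      rw [D.U_zero, inv_mul_eq_one] at e
      exact e.symm
    · intro h
      rw [h, inv_mul_cancel] at e
      rw [← e, mul_one, D.w_sq]
      exact one_mem _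
  have hop : o ≠ p := fun h => D.w_not_mem (by simpa using QuotientGroup.eq.1 h)
  refine ⟨fun x y r hxy hxr hyr => ?_, ?_⟩
  · -- move the first two cosets to the standard ones
    obtain ⟨g, hgx, hgy⟩ : ∃ g : Γ, g • o = x ∧ g • p = y := by
      obtain ⟨a, rfl⟩ := QuotientGroup.mk_surjective x
      obtain ⟨b, rfl⟩ := QuotientGroup.mk_surjective y
      rcases D.cases (a⁻¹ * b) with h | ⟨t, u, v, z, t', u', v', h⟩
      · exact absurd (QuotientGroup.eq.2 (D.mem_BG.2 h)) hxy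
      refine ⟨a * (D.U t u v * D.H z), ?_, ?_⟩
      · rw [ho, MulAction.Quotient.smul_mk, QuotientGroup.eq, smul_eq_mul, mul_one,
          show (a * (D.U t u v * D.H z))⁻¹ * a = (D.U t u v * D.H z)⁻¹ by group]
        exact inv_mem (D.mem_BG.2 ⟨t, u, v, z, rfl⟩)
      · rw [hp, MulAction.Quotient.smul_mk, QuotientGroup.eq, smul_eq_mul,
          show (a * (D.U t u v * D.H z) * D.w)⁻¹ * b = D.w⁻¹ * (D.U t u v * D.H z)⁻¹ * (a⁻¹ * b) by group, h,
          show D.w⁻¹ * (D.U t u v * D.H z)⁻¹ * (D.U t u v * D.H z * D.w * D.U t' u' v') = D.U t' u' v' by group]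
        exact D.U_mem_BG _ _ _
    obtain ⟨r', rfl⟩ : ∃ r', r = g • r' := ⟨g⁻¹ • r, (smul_inv_smul g r).symm⟩
    subst hgx hgy
    have hro : o ≠ r' := fun h => hxr (h ▸ rfl)
    have hrp : p ≠ r' := fun h => hyr (h ▸ rfl)
    obtain ⟨t, u, v, rfl, hne⟩ : ∃ t u v, r' = QuotientGroup.mk (D.U t u v * D.w) ∧
        ¬(t = 0 ∧ u = 0 ∧ v = 0) := by
      obtain ⟨b, rfl⟩ := QuotientGroup.mk_surjective r'
      rcases D.cases b with h | ⟨t, u, v, z, a, b', c, rfl⟩
      · refine absurd (QuotientGroup.eq.2 ?_) hro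
        rw [inv_one, one_mul]; exact D.mem_BG.2 h
      have e : (QuotientGroup.mk (D.U t u v * D.H z * D.w * D.U a b' c) : Γ ⧸ D.BG) =
          QuotientGroup.mk (D.U t u v * D.w) := by
        rw [QuotientGroup.eq, show (D.U t u v * D.H z * D.w * D.U a b' c)⁻¹ * (D.U t u v * D.w) =
          (D.U a b' c)⁻¹ * (D.w⁻¹ * (D.H z)⁻¹ * D.w) by group, D.w_inv, ← map_inv, D.w_H]
        exact mul_mem (inv_mem (D.U_mem_BG _ _ _)) (D.H_mem_BG _)
      rw [e] at hrp ⊢
      exact ⟨t, u, v, rfl, fun h => hrp (by obtain ⟨rfl, rfl, rfl⟩ := h; rw [D.U_zero, one_mul])⟩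
    refine (Nat.card_le_card_of_injective (fun h : ↥(MulAction.stabilizer Γ (g • o) ⊓
        MulAction.stabilizer Γ (g • p) ⊓ MulAction.stabilizer Γ (g • (QuotientGroup.mk (D.U t u v * D.w) : Γ ⧸ D.BG))) =>
        (decide (g⁻¹ * (h : Γ) * g = 1) : Bool)) ?_).trans (by simp)
    have conv : ∀ (h : Γ) (x : Γ ⧸ D.BG), h ∈ MulAction.stabilizer Γ (g • x) →
        g⁻¹ * h * g ∈ MulAction.stabilizer Γ x := by
      intro h x hh
      rw [MulAction.mem_stabilizer_iff] at hh ⊢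
      simp only [mul_smul, hh, inv_smul_smul]
    have key : ∀ h ∈ MulAction.stabilizer Γ (g • o) ⊓ MulAction.stabilizer Γ (g • p) ⊓
        MulAction.stabilizer Γ (g • (QuotientGroup.mk (D.U t u v * D.w) : Γ ⧸ D.BG)),
        g⁻¹ * h * g = 1 ∨ g⁻¹ * h * g = D.H (-1) := by
      rintro h ⟨⟨h1, h2⟩, h3⟩
      obtain ⟨z, hz⟩ := (two _).1 ⟨conv h o h1, conv h p h2⟩
      have h4 := conv h _ h3
      rw [hz, fix] at h4
      rcases D.H_conj_eq.1 h4 with e | ⟨e, -⟩ | e
      · exact Or.inl (by rw [hz, show z = 1 from Units.ext e, map_one])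
      · exact Or.inr (by rw [hz, show z = -1 from Units.ext e])
      · exact absurd e hne
    have hne1 : D.H (-1) ≠ 1 := fun e => D.neg_one_ne (D.H_inj (e.trans (map_one _).symm))
    intro a b hab
    apply Subtype.ext
    have hab' : g⁻¹ * (a : Γ) * g = 1 ↔ g⁻¹ * (b : Γ) * g = 1 := decide_eq_decide.1 hab
    have : g⁻¹ * (a : Γ) * g = g⁻¹ * (b : Γ) * g := by
      rcases key a a.2 with ha | ha <;> rcases key b b.2 with hb | hb
      · rw [ha, hb]
      · exact absurd (hb.symm.trans (hab'.1 ha)) hne1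
      · exact absurd (ha.symm.trans (hab'.2 hb)) hne1
      · rw [ha, hb]
    simpa using this
  · refine ⟨o, p, QuotientGroup.mk (D.U 0 1 0 * D.w), hop, fun h => ?_, fun h => ?_, ?_⟩
    · rw [ho, QuotientGroup.eq, inv_one, one_mul] at h
      exact D.w_not_mem ((Subgroup.mul_mem_cancel_left _ (D.U_mem_BG _ _ _)).1 h)
    · rw [hp, QuotientGroup.eq, D.w_inv, ← mul_assoc] at h
      exact one_ne_zero (D.w_U_mem h).2.1
    rw [Nat.card_eq_two_iff]
    have hmem : ∀ z : Kˣ, (z : K) = 1 ∨ (z : K) = -1 → D.H z ∈ MulAction.stabilizer Γ o ⊓ MulAction.stabilizer Γ p ⊓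
        MulAction.stabilizer Γ (QuotientGroup.mk (D.U 0 1 0 * D.w) : Γ ⧸ D.BG) := by
      intro z hz
      refine ⟨(two _).2 ⟨z, rfl⟩, (fix z 0 1 0).2 (D.H_conj_eq.2 ?_)⟩
      rcases hz with e | e
      exacts [Or.inl e, Or.inr (Or.inl ⟨e, rfl, rfl⟩)]
    refine ⟨⟨D.H 1, hmem 1 (Or.inl rfl)⟩, ⟨D.H (-1), hmem (-1) (Or.inr (by simp))⟩,
      fun e => D.neg_one_ne (D.H_inj (congrArg Subtype.val e)).symm, Set.eq_univ_of_forall fun g => ?_⟩
    obtain ⟨z, hz⟩ := (two g).1 g.2.1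
    have h3 := g.2.2
    rw [hz] at h3
    rcases D.H_conj_eq.1 ((fix z 0 1 0).1 h3) with e | ⟨e, -⟩ | ⟨-, e, -⟩
    · exact Or.inl (Subtype.ext (by rw [hz, show z = 1 from Units.ext e]))
    · exact Or.inr (Subtype.ext (by rw [hz, show z = -1 from Units.ext e]))
    · exact absurd e one_ne_zero

end Dat

end Cfsg.Agent.Ree
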