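import Cfsg.Agent.Lib.Chev.TwReeThm

/-!
The small Ree groups beyond the smallest one are perfect and simple.
-/

set_option autoImplicit false

namespace Cfsg.Agent.Ree

open Cfsg.Lie Cfsg.Agent.Chev Cfsg.Agent.Chev.TwRee

/-- Perfectness and simplicity of the twisted group. -/
theorem perfect_and_simple {K : Type*} [Field K] [Fintype K] {m : ℕ} (hm : 1 ≤ m)
    (hK : Fintype.card K = 3 ^ (2 * m + 1)) :
    commutator ↥(twistedG2 K (3 ^ m)) = ⊤ ∧ IsSimpleGroup ↥(twistedG2 K (3 ^ m)) := by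
  haveI := charP_three hK
  obtain ⟨φ, G, hφe, hφ, hG, hO⟩ := setup hK
  have h1 := TwRee.perfect φ hφ G hO hm hK _ hφe hG
  have h2 := (TwRee.simple φ hφ G hO hm hK _ hφe hG).1
  have key : ∀ S : Subgroup (GL chevG2.Idx K), S = twistedG2 K (3 ^ m) →
      commutator ↥S = ⊤ ∧ IsSimpleGroup ↥S →
      commutator ↥(twistedG2 K (3 ^ m)) = ⊤ ∧ IsSimpleGroup ↥(twistedG2 K (3 ^ m)) := by
    intro S e h
    subst e
    exact h
  exact key _ hG ⟨h1, h2⟩

end Cfsg.Agent.Ree
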