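import Cfsg.Agent.Lib.Chev.TwReeThm
import Cfsg.Agent.Lib.Ree.Perfect
import Cfsg.Agent.Lib.GLOrders.Semisimple

/-!
The seven-dimensional representation of a small Ree group, and its Sylow subgroups for the primes
dividing `q² - q + 1`.
-/

set_option autoImplicit false

namespace Cfsg.Agent.Ree

open Cfsg.Lie Cfsg.Agent.Chev Cfsg.Agent.Chev.TwRee
open scoped Matrix

/-- The codes of the short root vectors and of their coroot. -/
def inW (c : ℕ) : Bool := [2, 3, 4, 7, 8, 9, 12].contains c

theorem ckW : (List.range 12).all (fun r => (List.range 4).all fun k => (List.range 14).all fun c =>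
    (List.range 14).all fun row => inW row || !inW c || cf (G2.pk.colL k r c) row % 3 == 0) = true := by
  decide +kernel

theorem card_inW : Fintype.card {x : chevG2.Idx // inW (code G2.pk x) = true} = 7 := by decide +kernel

theorem code_lt14 : ∀ x : chevG2.Idx, code G2.pk x < 14 := by decide +kernel

variable {K : Type*} [Field K] [CharP K 3]

theorem x_block (r : ℕ) (t : K) (row col : chevG2.Idx) (hrow : inW (code G2.pk row) = false)
    (hcol : inW (code G2.pk col) = true) : (x r t : Matrix chevG2.Idx chevG2.Idx K) row col = 0 := by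
  by_cases hr : r < G2.pk.nroots
  · rw [show (x r t : GL chevG2.Idx K) = G2.ok.xG r t from rfl, G2.ok.coe_xG' hr]
    simp only [X, Matrix.sum_apply, Matrix.smul_apply]
    refine Finset.sum_eq_zero fun k hk => ?_
    have h := ckW
    simp only [List.all_eq_true, List.mem_range] at h
    have h2 := h r hr k (Finset.mem_range.1 hk) _ (code_lt14 col) _ (code_lt14 row)
    simp only [hrow, hcol, Bool.false_or, Bool.not_true, Bool.or_self, beq_iff_eq] at h2
    obtain ⟨e, he⟩ := Int.dvd_of_emod_eq_zero h2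
    rw [cM_apply, Ek, opM_apply, he]
    push_cast
    rw [TwRee.three, zero_mul, smul_zero]
  · rw [show (x r t : GL chevG2.Idx K) = G2.ok.xG r t from rfl, Ok.xG, dif_neg hr, Units.val_one,
      Matrix.one_apply_ne]
    rintro rfl
    rw [hrow] at hcol
    exact Bool.false_ne_true hcol

/-- The matrices preserving the seven-dimensional subspace. -/
def blockSub (K : Type*) [Field K] : Submonoid (GL chevG2.Idx K) where
  carrier := {g | ∀ row col : chevG2.Idx, inW (code G2.pk row) = false → inW (code G2.pk col) = true →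
    (g : Matrix chevG2.Idx chevG2.Idx K) row col = 0}
  one_mem' row col hr hc := by
    rw [Units.val_one, Matrix.one_apply_ne]
    rintro rfl
    rw [hr] at hc
    exact Bool.false_ne_true hc
  mul_mem' {g h} hg hh row col hr hc := by
    rw [Units.val_mul, Matrix.mul_apply]
    refine Finset.sum_eq_zero fun j _ => ?_
    cases hj : inW (code G2.pk j)
    · rw [hh j col hj hc, mul_zero]
    · rw [hg row j hr hj, zero_mul]

theorem blockSub_inv [Fintype K] {g : GL chevG2.Idx K} (hg : g ∈ blockSub K) : g⁻¹ ∈ blockSub K := by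
  classical
  obtain ⟨n, hn⟩ : g⁻¹ ∈ Submonoid.powers g :=
    (mem_powers_iff_mem_zpowers (x := g)).2 (inv_mem (Subgroup.mem_zpowers g))
  rw [← hn]
  exact pow_mem hg n

theorem group_le_block [Fintype K] {g : GL chevG2.Idx K} (hg : g ∈ chevG2.group K) : g ∈ blockSub K := by
  classical
  let S : Subgroup (GL chevG2.Idx K) := { blockSub K with inv_mem' := fun h => blockSub_inv h }
  suffices chevG2.group K ≤ S from this hg
  refine (Subgroup.closure_le _).2 ?_
  rintro g ⟨r, t, hg⟩
  show g ∈ blockSub K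
  have e : g = x r.val t := Units.ext (by
    rw [hg, show (x r.val t : GL chevG2.Idx K) = G2.ok.xG r.val t from rfl, G2.ok.coe_xG, ChevalleyDatum.x,
      dif_pos r.isLt])
  rw [e]
  exact fun row col hr hc => x_block r.val t row col hr hc

/-- The index type of the invariant subspace. -/
abbrev Idx7 : Type := {x : chevG2.Idx // inW (code G2.pk x) = true}

theorem block_mul [Fintype K] {g h : GL chevG2.Idx K} (hh : h ∈ chevG2.group K) (i j : Idx7) :
    ((g * h : GL chevG2.Idx K) : Matrix chevG2.Idx chevG2.Idx K) i.1 j.1 =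
      ∑ l : Idx7, (g : Matrix chevG2.Idx chevG2.Idx K) i.1 l.1 * (h : Matrix chevG2.Idx chevG2.Idx K) l.1 j.1 := by
  classical
  rw [Units.val_mul, Matrix.mul_apply,
    ← Finset.sum_filter_of_ne (p := fun l => inW (code G2.pk l) = true) (fun l _ hne => ?_),
    Finset.sum_subtype _ (fun l => Finset.mem_filter_univ l)]
  by_contra hl
  exact hne (by rw [group_le_block hh l j.1 (Bool.eq_false_iff.2 hl) j.2, mul_zero])

/-- The twisted group acts faithfully on the seven-dimensional space. -/
theorem exists_seven {K : Type*} [Field K] [Fintype K] {m : ℕ} (hm : 1 ≤ m)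
    (hK : Fintype.card K = 3 ^ (2 * m + 1)) :
    ∃ ρ : ↥(twistedG2 K (3 ^ m)) →* GL (Fin 7) K, Function.Injective ρ := by
  classical
  haveI := charP_three hK
  obtain ⟨φ, G, hφe, hφ, hG, hO⟩ := setup hK
  have hle : ∀ g : ↥(twistedG2 K (3 ^ m)), (g : GL chevG2.Idx K) ∈ chevG2.group K := fun g =>
    G.le_group (hG.symm ▸ g.2)
  let M : ↥(twistedG2 K (3 ^ m)) →* Matrix Idx7 Idx7 K :=
    { toFun := fun g => Matrix.of fun i j => ((g : GL chevG2.Idx K) : Matrix chevG2.Idx chevG2.Idx K) i.1 j.1
      map_one' := by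
        ext i j
        simp [Matrix.one_apply, Subtype.ext_iff]
      map_mul' := fun g h => by
        ext i j
        simp only [Matrix.mul_apply, Matrix.of_apply, Subgroup.coe_mul]
        exact block_mul (hle h) i j }
  let e : Idx7 ≃ Fin 7 := (Fintype.equivFin Idx7).trans (finCongr card_inW)
  let ρ : ↥(twistedG2 K (3 ^ m)) →* GL (Fin 7) K :=
    (((Matrix.reindexAlgEquiv K K e).toMulEquiv.toMonoidHom).comp M).toHomUnits
  refine ⟨ρ, ?_⟩
  haveI := (perfect_and_simple hm hK).2
  rcases Subgroup.Normal.eq_bot_or_eq_top (MonoidHom.normal_ker ρ) with h | h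
  · exact (MonoidHom.ker_eq_bot_iff ρ).1 h
  exfalso
  obtain ⟨z, hz0, hz1, -⟩ := exists_unit hm hK
  have hmem : hH (TwRee.tor φ (Units.mk0 z hz0)) ∈ twistedG2 K (3 ^ m) := by
    rw [← hG]
    exact G.diag_mem ((diag_fixed_iff φ hφ).2 ⟨_, rfl⟩)
  have h1 : (ρ ⟨_, hmem⟩) = 1 := MonoidHom.mem_ker.1 (h ▸ Subgroup.mem_top _)
  have h2 := congrArg Units.val h1
  have h3 : M ⟨_, hmem⟩ = 1 := by
    apply (Matrix.reindexAlgEquiv K K e).injective
    rw [map_one]
    exact h2
  have hj : inW (code G2.pk (Sum.inr ⟨9, by decide +kernel⟩ : chevG2.Idx)) = true := by decide +kernel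
  have h4 := congrFun (congrFun h3 ⟨_, hj⟩) ⟨_, hj⟩
  simp only [M, MonoidHom.coe_mk, OneHom.coe_mk, Matrix.of_apply, Matrix.one_apply_eq] at h4
  rw [show ((hH (TwRee.tor φ (Units.mk0 z hz0)) : GL chevG2.Idx K) : Matrix chevG2.Idx chevG2.Idx K) =
    dM chevG2 (hchar G2.pk (TwRee.tor φ (Units.mk0 z hz0))) from rfl, dM, Matrix.diagonal_apply_eq] at h4
  change hchar G2.pk (TwRee.tor φ (Units.mk0 z hz0)) 9 = 1 at h4
  rw [(chars _).2.2.2.1] at h4
  exact hz1 ((map_eq_one_iff φ φ.injective).1 h4)

/-- A prime at which `q` has order six has cyclic Sylow subgroups in `GL₇(q)`. -/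
theorem cyclic_GL7 {K : Type*} [Field K] [Fintype K] {p : ℕ} [Fact p.Prime] (hp : 3 < p)
    (hdvd : p ∣ Fintype.card K ^ 2 - Fintype.card K + 1) {P : Subgroup (GL (Fin 7) K)}
    (hP : IsPGroup p P) : IsCyclic P := by
  classical
  set q := Fintype.card K with hqdef
  have hq : 2 ≤ q := Fintype.one_lt_card
  obtain ⟨g, hg⟩ := Cfsg.Agent.GLOrders.exists_orderOf_eq_pow_sub_one (F := K) (d := 6) (n := 7)
    (by norm_num) (by norm_num)
  have hqq : q ≤ q ^ 2 := by nlinarith
  have hz : (q : ZMod p) ^ 2 = q - 1 := by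
    have h0 : ((q ^ 2 - q + 1 : ℕ) : ZMod p) = 0 := (ZMod.natCast_eq_zero_iff _ _).2 hdvd
    push_cast [Nat.cast_sub hqq] at h0
    linear_combination h0
  have h3ne : (3 : ZMod p) ≠ 0 := by
    intro h
    have : p ∣ 3 := (ZMod.natCast_eq_zero_iff 3 p).1 (by exact_mod_cast h)
    have := Nat.le_of_dvd (by norm_num) this
    omega
  have h2ne : (2 : ZMod p) ≠ 0 := by
    intro h
    have : p ∣ 2 := (ZMod.natCast_eq_zero_iff 2 p).1 (by exact_mod_cast h)
    have := Nat.le_of_dvd (by norm_num) this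
    omega
  have hq0 : (q : ZMod p) ≠ 0 := fun h => by
    rw [h] at hz; exact one_ne_zero (α := ZMod p) (by linear_combination hz)
  have hne : ∀ d ∈ [1, 2, 3, 4, 5, 7], (q : ZMod p) ^ d ≠ 1 := by
    intro d hd h
    simp only [List.mem_cons, List.not_mem_nil, or_false] at hd
    have h3 : (q : ZMod p) ^ 3 = -1 := by linear_combination ((q : ZMod p) + 1) * hz
    rcases hd with rfl | rfl | rfl | rfl | rfl | rfl
    · rw [pow_one] at h
      rw [h] at hz
      exact one_ne_zero (α := ZMod p) (by linear_combination hz)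
    · have h' : (q : ZMod p) = 2 := by linear_combination h - hz
      rw [h'] at hz
      exact h3ne (by linear_combination hz)
    · exact h2ne (by linear_combination h3 - h)
    · have h' : (q : ZMod p) = -1 := by linear_combination (q : ZMod p) * h3 - h
      rw [h'] at hz
      exact h3ne (by linear_combination hz)
    · have h' : (q : ZMod p) ^ 2 = -1 := by linear_combination (q : ZMod p) ^ 2 * h3 - h
      exact hq0 (by linear_combination h' - hz)
    · have h' : (q : ZMod p) = 1 := by
        linear_combination h - (q : ZMod p) * ((q : ZMod p) ^ 3 - 1) * h3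
      rw [h'] at hz
      exact one_ne_zero (α := ZMod p) (by linear_combination hz)
  have hfac : ∀ d ∈ [1, 2, 3, 4, 5, 7], ¬ p ∣ q ^ d - 1 := by
    intro d hd h
    refine hne d hd ?_
    have h0 : ((q ^ d - 1 : ℕ) : ZMod p) = 0 := (ZMod.natCast_eq_zero_iff _ _).2 h
    rw [Nat.cast_sub (Nat.one_le_pow _ _ (by omega))] at h0
    push_cast at h0
    linear_combination h0
  have hpq : ¬ p ∣ q := fun h => hq0 ((ZMod.natCast_eq_zero_iff _ _).2 h)
  have hidx : ¬ p ∣ (Subgroup.zpowers g).index := by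
    have h := (Subgroup.zpowers g).card_mul_index
    rw [Nat.card_zpowers, hg, Matrix.card_GL_field, Fin.prod_univ_seven] at h
    simp only [Fin.val_zero, Fin.val_one, pow_zero, pow_one, Nat.card_eq_fintype_card, ← hqdef] at h
    have e : ∀ i d : ℕ, i + d = 7 → q ^ 7 - q ^ i = q ^ i * (q ^ d - 1) := fun i d hid => by
      rw [Nat.mul_sub, mul_one, ← pow_add, hid]
    intro hd
    have e2 : q ^ 7 - q = q * (q ^ 6 - 1) := by simpa using e 1 6 rfl
    simp only [show ((2 : Fin 7) : ℕ) = 2 from rfl, show ((3 : Fin 7) : ℕ) = 3 from rfl,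
      show ((4 : Fin 7) : ℕ) = 4 from rfl, show ((5 : Fin 7) : ℕ) = 5 from rfl,
      show ((6 : Fin 7) : ℕ) = 6 from rfl, e2, e 2 5 rfl, e 3 4 rfl, e 4 3 rfl, e 5 2 rfl,
      e 6 1 rfl] at h
    have hpos : 0 < q ^ 6 - 1 := by
      have : 2 ^ 6 ≤ q ^ 6 := Nat.pow_le_pow_left hq 6
      omega
    have hidx' : (Subgroup.zpowers g).index = (q ^ 7 - 1) * q * (q ^ 2 * (q ^ 5 - 1)) * (q ^ 3 * (q ^ 4 - 1)) *
        (q ^ 4 * (q ^ 3 - 1)) * (q ^ 5 * (q ^ 2 - 1)) * (q ^ 6 * (q ^ 1 - 1)) := by
      apply Nat.eq_of_mul_eq_mul_left hpos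
      rw [h]
      simp only [pow_one]
      ring
    rw [hidx'] at hd
    have hp' : p.Prime := Fact.out
    simp only [hp'.dvd_mul] at hd
    rcases hd with ((((((hd | hd) | hd | hd) | hd | hd) | hd | hd) | hd | hd) | hd | hd)
    all_goals first
      | exact hpq hd
      | exact hpq (hp'.dvd_of_dvd_pow hd)
      | exact hfac _ (by simp) hd
  obtain ⟨S⟩ : Nonempty (Sylow p (Subgroup.zpowers g)) := inferInstance
  set S' := (S : Subgroup (Subgroup.zpowers g)).map (Subgroup.zpowers g).subtype with hS'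
  have hS'p : IsPGroup p S' := S.2.map _
  have hS'i : ¬ p ∣ S'.index := by
    rw [hS', Subgroup.index_map_subtype]
    intro h
    rcases (Fact.out : p.Prime).dvd_mul.1 h with h | h
    exacts [S.not_dvd_index h, hidx h]
  let T : Sylow p (GL (Fin 7) K) := hS'p.toSylow hS'i
  obtain ⟨T', hT'⟩ := hP.exists_le_sylow
  obtain ⟨c, hc⟩ := MulAction.exists_smul_eq (GL (Fin 7) K) T T'
  haveI : IsCyclic (T : Subgroup (GL (Fin 7) K)) :=
    (MulEquiv.isCyclic ((S : Subgroup (Subgroup.zpowers g)).equivMapOfInjective _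
      (Subgroup.subtype_injective _))).1 inferInstance
  haveI : IsCyclic (T' : Subgroup (GL (Fin 7) K)) := (MulEquiv.isCyclic (T.equiv T')).1 inferInstance
  exact isCyclic_of_injective (Subgroup.inclusion hT') (Subgroup.inclusion_injective hT')

end Cfsg.Agent.Ree
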