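import Cfsg.Agent.Lib.Ree.Invol
import Cfsg.Agent.Lib.Ree.Rows
import Cfsg.Agent.Lib.Ree.Seven
import Cfsg.Agent.Lib.SL2.Tori

/-!
The Sylow subgroups of a small Ree group for primes beyond three are cyclic.
-/

set_option autoImplicit false
set_option linter.unusedSectionVars false

namespace Cfsg.Agent.Ree

open scoped MatrixGroups

universe u v

variable {K : Type u} [Field K] [Fintype K] {Γ : Type v} [Group Γ] {m : ℕ} (D : Dat K Γ m)

/-- A cyclic subgroup of index prime to `p` gives cyclic Sylow `p`-subgroups. -/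
theorem cyclic_of_index {G : Type*} [Group G] [Finite G] {p : ℕ} [Fact p.Prime] (C : Subgroup G) [IsCyclic C]
    (hC : ¬ p ∣ C.index) (P : Sylow p G) : IsCyclic (P : Subgroup G) := by
  obtain ⟨S⟩ : Nonempty (Sylow p C) := inferInstance
  set S' := (S : Subgroup C).map C.subtype with hS'
  have hS'p : IsPGroup p S' := S.2.map _
  have hS'i : ¬ p ∣ S'.index := by
    rw [hS', Subgroup.index_map_subtype]
    intro h
    rcases (Fact.out : p.Prime).dvd_mul.1 h with h | h
    exacts [S.not_dvd_index h, hC h]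
  let T : Sylow p G := hS'p.toSylow hS'i
  haveI : IsCyclic (T : Subgroup G) :=
    (MulEquiv.isCyclic ((S : Subgroup C).equivMapOfInjective _ (Subgroup.subtype_injective _))).1 inferInstance
  exact (MulEquiv.isCyclic (T.equiv P)).1 inferInstance

namespace Dat

include D

theorem exists_torus_plus : ∃ C : Subgroup Γ, IsCyclic C ∧
    (2 * Nat.card C = Fintype.card K + 1 ∨ Nat.card C = Fintype.card K + 1) := by
  classical
  haveI := D.finite
  obtain ⟨g, hg⟩ := Cfsg.Agent.SL2.exists_noEig (F := K)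
  have hc := (Cfsg.Agent.SL2.card_cent_noEig hg).1
  haveI := Cfsg.Agent.SL2.isCyclic_cent hg.tr_sq
  let f := D.ψ.subgroupMap (Cfsg.Agent.SL2.cent g)
  have hf : Function.Surjective f := D.ψ.subgroupMap_surjective _
  refine ⟨(Cfsg.Agent.SL2.cent g).map D.ψ, isCyclic_of_surjective f hf, ?_⟩
  have h1 := f.ker.card_mul_index
  rw [Subgroup.index_ker, MonoidHom.range_eq_top.2 hf, Subgroup.card_top, hc] at h1
  have h2 : Nat.card f.ker ≤ 2 := by
    have h : ∀ x : f.ker, x.1.1 = 1 ∨ x.1.1 = -1 := fun x =>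
      D.ψ_eq_one_or_jI (Or.inl (congrArg Subtype.val x.2))
    refine (Nat.card_le_card_of_injective (fun x : f.ker => decide (x.1.1 = 1)) fun a b hab => ?_).trans
      (by simp)
    apply Subtype.ext; apply Subtype.ext
    have hab' : a.1.1 = 1 ↔ b.1.1 = 1 := decide_eq_decide.1 hab
    rcases h a with ha | ha
    · rw [ha, hab'.1 ha]
    · rcases h b with hb | hb
      · rw [hb, hab'.2 hb]
      · rw [ha, hb]
  have h3 : 0 < Nat.card f.ker := Nat.card_pos
  rcases (show Nat.card f.ker = 1 ∨ Nat.card f.ker = 2 by omega) with e | e <;> rw [e] at h1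
  · exact Or.inr (by simpa using h1)
  · exact Or.inl h1

theorem sylow_cyclic (ρ : Γ →* GL (Fin 7) K) (hρ : Function.Injective ρ) {p : ℕ} [Fact p.Prime]
    (hp : 3 < p) (P : Sylow p Γ) : IsCyclic (P : Subgroup Γ) := by
  classical
  haveI := D.finite
  have hp' : p.Prime := Fact.out
  set q := Fintype.card K with hq
  have hq3 : q = 3 ^ (2 * m + 1) := D.card_eq
  have hpq : ¬ p ∣ q := fun h => by
    rw [hq3] at h
    have := (Nat.prime_dvd_prime_iff_eq hp' Nat.prime_three).1 (hp'.dvd_of_dvd_pow h)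
    omega
  have hp2 : ¬ p ∣ 2 := fun h => by have := Nat.le_of_dvd two_pos h; omega
  have hp3 : ¬ p ∣ 3 := fun h => by have := Nat.le_of_dvd three_pos h; omega
  have hq1 : 1 ≤ q := Fintype.card_pos
  have hqq : q ≤ q ^ 2 := by nlinarith
  have hcube : q ^ 3 + 1 = (q + 1) * (q ^ 2 - q + 1) := by
    obtain ⟨d, hd⟩ := Nat.exists_eq_add_of_le hqq
    rw [show q ^ 2 - q = d by omega]
    have : q ^ 3 = q * q ^ 2 := by ring
    nlinarith [hd]
  have hcard := D.card_Γ
  by_cases h1 : p ∣ q - 1
  · haveI := D.isCyclic_H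
    refine cyclic_of_index D.H.range (fun h => ?_) P
    have hi := D.H.range.card_mul_index
    rw [D.card_range_H, hcard] at hi
    have hpos : 0 < q - 1 := by
      have := Fintype.one_lt_card (α := K); omega
    have e : D.H.range.index = q ^ 3 * (q ^ 3 + 1) := by
      apply Nat.eq_of_mul_eq_mul_left hpos
      rw [hi]; ring
    rw [e] at h
    rcases hp'.dvd_mul.1 h with h | h
    · exact hpq (hp'.dvd_of_dvd_pow h)
    · have hm : q ^ 3 ≡ 1 ^ 3 [MOD p] := ((Nat.modEq_iff_dvd' hq1).2 h1).symm.pow 3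
      have := (Nat.ModEq.dvd_iff (hm.add_right 1) (dvd_refl p)).1 h
      exact hp2 (by simpa using this)
  by_cases h2 : p ∣ q + 1
  · obtain ⟨C, hC, hcC⟩ := D.exists_torus_plus
    haveI := hC
    refine cyclic_of_index C (fun h => ?_) P
    have hi := C.card_mul_index
    rw [hcard, hcube] at hi
    have hphi : ¬ p ∣ q ^ 2 - q + 1 := by
      intro hd
      apply hp3
      rw [← ZMod.natCast_eq_zero_iff]
      have a1 : ((q + 1 : ℕ) : ZMod p) = 0 := (ZMod.natCast_eq_zero_iff _ _).2 h2
      have a2 : ((q ^ 2 - q + 1 : ℕ) : ZMod p) = 0 := (ZMod.natCast_eq_zero_iff _ _).2 hd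
      push_cast [Nat.cast_sub hqq] at a1 a2 ⊢
      linear_combination a2 - ((q : ZMod p) - 2) * a1
    have key : ∀ k, C.index = k * (q ^ 3 * (q - 1) * (q ^ 2 - q + 1)) → ¬ p ∣ k → False := by
      intro k hk hk'
      rw [hk] at h
      rcases hp'.dvd_mul.1 h with h | h
      · exact hk' h
      rcases hp'.dvd_mul.1 h with h | h
      · rcases hp'.dvd_mul.1 h with h | h
        exacts [hpq (hp'.dvd_of_dvd_pow h), h1 h]
      · exact hphi h
    rcases hcC with e | e
    · refine key 2 ?_ hp2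
      apply Nat.eq_of_mul_eq_mul_left (show 0 < q + 1 by omega)
      rw [← e, mul_assoc, hi, ← e]
      ring
    · refine key 1 ?_ hp'.not_dvd_one
      apply Nat.eq_of_mul_eq_mul_left (show 0 < q + 1 by omega)
      rw [← e, hi, e]
      ring
  by_cases h3 : p ∣ q ^ 2 - q + 1
  · haveI := cyclic_GL7 hp h3 (P := (P : Subgroup Γ).map ρ) (P.2.map ρ)
    exact (MulEquiv.isCyclic ((P : Subgroup Γ).equivMapOfInjective ρ hρ)).2 inferInstance
  · have hn : ¬ p ∣ Nat.card Γ := by
      rw [hcard, hcube]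
      intro h
      rcases hp'.dvd_mul.1 h with h | h
      · rcases hp'.dvd_mul.1 h with h | h
        exacts [hpq (hp'.dvd_of_dvd_pow h), h1 h]
      · rcases hp'.dvd_mul.1 h with h | h
        exacts [h2 h, h3 h]
    refine @isCyclic_of_subsingleton _ _ (Finite.card_le_one_iff_subsingleton.1 ?_)
    by_contra hle
    obtain ⟨n, hn'⟩ := IsPGroup.iff_card.1 P.2
    rcases Nat.eq_zero_or_pos n with rfl | hpos
    · rw [pow_zero] at hn'; omega
    · exact hn ((dvd_pow_self p hpos.ne').trans (hn' ▸ Subgroup.card_subgroup_dvd_card _))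

end Dat

end Cfsg.Agent.Ree
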