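import Cfsg.Agent.Lib.Ree.Invol
import Cfsg.Agent.Lib.SylAbelian.Fusion

/-!
The Sylow 2-subgroups of a small Ree group and their normalisers.
-/

set_option autoImplicit false
set_option linter.unusedSectionVars false

namespace Cfsg.Agent.Ree

open scoped MatrixGroups

universe u v

/-- A central element of the normaliser of an abelian Sylow subgroup of a perfect group is trivial. -/
theorem perfect_central_eq_one {G : Type*} [Group G] [Finite G] {p : ℕ} [Fact p.Prime]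
    (hperf : commutator G = ⊤) (P : Sylow p G) (hP : IsMulCommutative (P : Subgroup G)) {x : G}
    (hx : x ∈ (P : Subgroup G))
    (hc : ∀ n ∈ Subgroup.normalizer ((P : Subgroup G) : Set G), n * x = x * n) : x = 1 := by
  classical
  letI : CommGroup ↥(P : Subgroup G) :=
    { (inferInstance : Group ↥(P : Subgroup G)) with mul_comm := hP.is_comm.comm }
  let f : ↥(P : Subgroup G) →* ↥(P : Subgroup G) := MonoidHom.id _
  haveI : (P : Subgroup G).FiniteIndex := Subgroup.finiteIndex_of_finite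
  have key : ∀ (k : ℕ) (g₀ : G), g₀⁻¹ * x ^ k * g₀ ∈ (P : Subgroup G) → g₀⁻¹ * x ^ k * g₀ = x ^ k := by
    intro k g₀ hg
    obtain ⟨c, hcc, hcn⟩ := Cfsg.Agent.SylAbelian.exists_centralizer_mul_mem_normalizer P hP
      (Q := {x ^ k}) (Set.singleton_subset_iff.2 (pow_mem hx k))
      (fun y hy => by rw [Set.mem_singleton_iff.1 hy]; exact hg)
    have h1 : Commute c (x ^ k) :=
      (Subgroup.mem_centralizer_iff.1 hcc _ rfl).symm
    have h2 : Commute (c * g₀) (x ^ k) := (show Commute (c * g₀) x from hc _ hcn).pow_right k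
    have h3 : Commute g₀ (x ^ k) := by
      have := h1.inv_left.mul_left h2
      rwa [inv_mul_cancel_left] at this
    rw [mul_assoc, ← h3.eq, inv_mul_cancel_left]
  have h0 : MonoidHom.transfer f x = 1 :=
    Abelianization.commutator_subset_ker _ (hperf ▸ Subgroup.mem_top x)
  rw [MonoidHom.transfer_eq_pow f x key] at h0
  have h1 : x ^ (P : Subgroup G).index = 1 := congrArg Subtype.val h0
  obtain ⟨n, hn⟩ := P.2.exists_orderOf_eq_pow (p := p) ⟨x, hx⟩
  rw [← Subgroup.orderOf_coe] at hn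
  have hd := orderOf_dvd_of_pow_eq_one h1
  rw [show orderOf x = p ^ n from hn] at hd
  have hcop : Nat.Coprime (p ^ n) (P : Subgroup G).index :=
    ((Fact.out : p.Prime).coprime_iff_not_dvd.2 P.not_dvd_index).pow_left n
  rw [← orderOf_eq_one_iff, show orderOf x = p ^ n from hn]
  exact hcop.eq_one_of_dvd hd

/-- The homomorphism from a cyclic group of order two given by an involution. -/
def hom2 {G : Type*} [Group G] (x : G) (hx : x * x = 1) : Multiplicative (ZMod 2) →* G :=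
  MonoidHom.mk' (fun a => if a = 1 then 1 else x) fun a b => by
    obtain rfl | rfl : a = 1 ∨ a = Multiplicative.ofAdd 1 := by revert a; decide
    · simp
    obtain rfl | rfl : b = 1 ∨ b = Multiplicative.ofAdd 1 := by revert b; decide
    · simp
    · rw [if_pos (by decide), if_neg (by decide), hx]

theorem hom2_cases {G : Type*} [Group G] (x : G) (hx : x * x = 1) (a : Multiplicative (ZMod 2)) :
    (a = 1 ∧ hom2 x hx a = 1) ∨ (a ≠ 1 ∧ hom2 x hx a = x) := by
  by_cases h : a = 1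
  · exact Or.inl ⟨h, if_pos h⟩
  · exact Or.inr ⟨h, if_neg h⟩

theorem hom2_one {G : Type*} [Group G] (x : G) (hx : x * x = 1) :
    hom2 x hx (Multiplicative.ofAdd 1) = x := by
  show (if Multiplicative.ofAdd (1 : ZMod 2) = 1 then (1 : G) else x) = x
  exact if_neg (by decide)

variable {K : Type u} [Field K] [Fintype K] {Γ : Type v} [Group Γ] {m : ℕ} (D : Dat K Γ m)

/-- The element of order three normalising the quaternion group. -/
def qG (a b : K) (h : a ^ 2 + b ^ 2 = -1) (h3 : (3 : K) = 0) : SL(2, K) :=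
  ⟨!![1 - a - b, -1 - b + a; 1 - b + a, 1 + a + b], by
    rw [Matrix.det_fin_two_of]; linear_combination -2 * h + h3⟩

theorem coe_qG (a b : K) (h : a ^ 2 + b ^ 2 = -1) (h3 : (3 : K) = 0) :
    (qG a b h h3).1 = !![1 - a - b, -1 - b + a; 1 - b + a, 1 + a + b] := rfl

namespace Dat

include D

variable (F : D.Four)

/-- The first generator in the image of `SL₂`. -/
abbrev eI (_ : D.Four) : Γ := D.ψ qI

/-- The second generator in the image of `SL₂`. -/
abbrev eK : Γ := D.ψ (qJ F.a F.b F.hab)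

theorem qI_sq : (qI : SL(2, K)) * qI = -1 :=
  Cfsg.Agent.SL2.sq_neg_one_of_tr (by simp [Cfsg.Agent.SL2.tr, coe_qI])

theorem qJ_sq : qJ F.a F.b F.hab * qJ F.a F.b F.hab = -1 :=
  Cfsg.Agent.SL2.sq_neg_one_of_tr (by simp [Cfsg.Agent.SL2.tr, coe_qJ])

theorem qIJ : qJ F.a F.b F.hab * qI = -1 * (qI * qJ F.a F.b F.hab) := by
  rw [neg_one_mul]
  refine Cfsg.Agent.SL2.ext4 ?_ ?_ ?_ ?_ <;>
    simp [Matrix.SpecialLinearGroup.coe_mul, coe_qI, coe_qJ, Matrix.mul_apply, Fin.sum_univ_two]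

theorem eI_sq : D.eI F * D.eI F = 1 := D.ψ_sq_neg D.qI_sq

theorem eK_sq : D.eK F * D.eK F = 1 := D.ψ_sq_neg (D.qJ_sq F)

theorem eIK_comm : Commute (D.eI F) (D.eK F) := by
  show D.ψ _ * D.ψ _ = D.ψ _ * D.ψ _
  simp only [← map_mul, D.qIJ F]
  rw [map_mul D.ψ (-1), D.ψ_neg, one_mul]

/-- The standard map from an elementary abelian group of order eight. -/
noncomputable def f8 :
    Multiplicative (ZMod 2) × Multiplicative (ZMod 2) × Multiplicative (ZMod 2) →* Γ :=
  MonoidHom.noncommCoprod (hom2 D.jI D.jI_sq)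
    (MonoidHom.noncommCoprod (hom2 (D.eI F) (D.eI_sq F)) (hom2 (D.eK F) (D.eK_sq F)) fun a b => by
      rcases hom2_cases (D.eI F) (D.eI_sq F) a with ⟨-, e⟩ | ⟨-, e⟩ <;>
        rcases hom2_cases (D.eK F) (D.eK_sq F) b with ⟨-, e'⟩ | ⟨-, e'⟩ <;> rw [e, e']
      all_goals first
        | exact Commute.one_left _
        | exact Commute.one_right _
        | exact D.eIK_comm F)
    fun a p => by
      rw [MonoidHom.noncommCoprod_apply]
      rcases hom2_cases D.jI D.jI_sq a with ⟨-, e⟩ | ⟨-, e⟩ <;> rw [e]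
      · exact Commute.one_left _
      refine Commute.mul_right ?_ ?_
      · rcases hom2_cases (D.eI F) (D.eI_sq F) p.1 with ⟨-, e⟩ | ⟨-, e⟩ <;> rw [e]
        exacts [Commute.one_right _, D.ψ_comm _]
      · rcases hom2_cases (D.eK F) (D.eK_sq F) p.2 with ⟨-, e⟩ | ⟨-, e⟩ <;> rw [e]
        exacts [Commute.one_right _, D.ψ_comm _]

theorem f8_apply (a b c : Multiplicative (ZMod 2)) :
    D.f8 F (a, b, c) = hom2 D.jI D.jI_sq a * (hom2 (D.eI F) (D.eI_sq F) b * hom2 (D.eK F) (D.eK_sq F) c) := by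
  rfl

theorem f8_inj : Function.Injective (D.f8 F) := by
  rw [← MonoidHom.ker_eq_bot_iff, eq_bot_iff]
  rintro ⟨a, b, c⟩ h
  rw [MonoidHom.mem_ker, D.f8_apply] at h
  obtain ⟨x, hx, hxbc⟩ : ∃ x, hom2 (D.eI F) (D.eI_sq F) b * hom2 (D.eK F) (D.eK_sq F) c = D.ψ x ∧
      ((x = 1 ∨ x = -1) → b = 1 ∧ c = 1) := by
    have hnI : ¬ ((qI : SL(2, K)) = 1 ∨ (qI : SL(2, K)) = -1) := by
      rintro (e | e) <;> have := congrArg (fun g : SL(2, K) => g.1 0 1) e <;> simp [coe_qI] at this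
    have hnJ : ¬ (qJ F.a F.b F.hab = 1 ∨ qJ F.a F.b F.hab = -1) := by
      rintro (e | e) <;> have h1 := congrArg (fun g : SL(2, K) => g.1 0 0) e <;>
        have h2 := congrArg (fun g : SL(2, K) => g.1 1 1) e <;> simp [coe_qJ] at h1 h2 <;>
        exact D.two_ne (by first | linear_combination -h1 - h2 | linear_combination h1 + h2 |
          linear_combination h1 - h2 | linear_combination h2 - h1)
    have hnIJ : ¬ ((qI : SL(2, K)) * qJ F.a F.b F.hab = 1 ∨ (qI : SL(2, K)) * qJ F.a F.b F.hab = -1) := by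
      rintro (e | e) <;> have h1 := congrArg (fun g : SL(2, K) => g.1 0 0) e <;>
        have h2 := congrArg (fun g : SL(2, K) => g.1 1 1) e <;>
        simp [Matrix.SpecialLinearGroup.coe_mul, coe_qI, coe_qJ, Matrix.mul_apply, Fin.sum_univ_two] at h1 h2 <;>
        exact D.two_ne (by first | linear_combination -h1 - h2 | linear_combination h1 + h2 |
          linear_combination h1 - h2 | linear_combination h2 - h1)
    rcases hom2_cases (D.eI F) (D.eI_sq F) b with ⟨hb, e⟩ | ⟨hb, e⟩ <;>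
      rcases hom2_cases (D.eK F) (D.eK_sq F) c with ⟨hc, e'⟩ | ⟨hc, e'⟩ <;> rw [e, e']
    · exact ⟨1, by simp, fun _ => ⟨hb, hc⟩⟩
    · exact ⟨qJ F.a F.b F.hab, one_mul _, fun h => absurd h hnJ⟩
    · exact ⟨qI, mul_one _, fun h => absurd h hnI⟩
    · exact ⟨qI * qJ F.a F.b F.hab, (map_mul _ _ _).symm, fun h => absurd h hnIJ⟩
  rw [hx] at h
  rcases hom2_cases D.jI D.jI_sq a with ⟨ha, e⟩ | ⟨ha, e⟩ <;> rw [e] at h
  · rw [one_mul] at h
    obtain ⟨rfl, rfl⟩ := hxbc (D.ψ_eq_one_or_jI (Or.inl h))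
    rw [Subgroup.mem_bot, ha]
    rfl
  · refine absurd ?_ (D.ψ_ne_jI x)
    rw [← mul_right_inj D.jI, h, D.jI_sq]

/-- The standard elementary abelian subgroup of order eight. -/
noncomputable def S8 : Subgroup Γ := (D.f8 F).range

theorem card_S8 : Nat.card (D.S8 F) = 8 := by
  rw [S8, ← Nat.card_congr (MonoidHom.ofInjective (D.f8_inj F)).toEquiv, Nat.card_prod, Nat.card_prod,
    Nat.card_congr Multiplicative.toAdd, Nat.card_zmod]

theorem S8_sq {x : Γ} (hx : x ∈ D.S8 F) : x * x = 1 := by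
  obtain ⟨p, rfl⟩ := hx
  rw [← map_mul]
  have : ∀ p : Multiplicative (ZMod 2) × Multiplicative (ZMod 2) × Multiplicative (ZMod 2), p * p = 1 := by
    decide
  rw [this, map_one]

theorem S8_comm : IsMulCommutative (D.S8 F) :=
  ⟨⟨fun a b => by
    obtain ⟨p, hp⟩ := a.2
    obtain ⟨r, hr⟩ := b.2
    apply Subtype.ext
    rw [Subgroup.coe_mul, Subgroup.coe_mul, ← hp, ← hr, ← map_mul, ← map_mul, mul_comm]⟩⟩

theorem jI_mem : D.jI ∈ D.S8 F :=
  ⟨(Multiplicative.ofAdd 1, 1, 1), by rw [D.f8_apply, hom2_one, map_one, map_one, mul_one, mul_one]⟩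

theorem eI_mem : D.eI F ∈ D.S8 F :=
  ⟨(1, Multiplicative.ofAdd 1, 1), by rw [D.f8_apply, hom2_one, map_one, map_one, one_mul, mul_one]⟩

theorem eK_mem : D.eK F ∈ D.S8 F :=
  ⟨(1, 1, Multiplicative.ofAdd 1), by rw [D.f8_apply, hom2_one, map_one, map_one, one_mul, one_mul]⟩

theorem S8_cases {x : Γ} (hx : x ∈ D.S8 F) : x = 1 ∨ x = D.jI ∨
    (x = D.eI F ∨ x = D.eK F ∨ x = D.eI F * D.eK F) ∨
    (x = D.jI * D.eI F ∨ x = D.jI * D.eK F ∨ x = D.jI * (D.eI F * D.eK F)) := by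
  obtain ⟨⟨a, b, c⟩, rfl⟩ := hx
  rw [D.f8_apply]
  rcases hom2_cases D.jI D.jI_sq a with ⟨-, e⟩ | ⟨-, e⟩ <;>
    rcases hom2_cases (D.eI F) (D.eI_sq F) b with ⟨-, e'⟩ | ⟨-, e'⟩ <;>
    rcases hom2_cases (D.eK F) (D.eK_sq F) c with ⟨-, e''⟩ | ⟨-, e''⟩ <;> rw [e, e', e''] <;> simp

theorem index_S8_odd : ¬ 2 ∣ (D.S8 F).index := by
  have h := (D.S8 F).card_mul_index
  rw [D.card_S8, D.card_Γ, D.card_eq] at h
  intro h2
  obtain ⟨k, hk⟩ := h2
  rw [hk] at h
  have h3 : 3 ^ (2 * m + 1) % 8 = 3 := by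
    rw [pow_succ, pow_mul]; simp [Nat.mul_mod, Nat.pow_mod]
  set q := 3 ^ (2 * m + 1)
  obtain ⟨r, hr⟩ : ∃ r, q = 8 * r + 3 := ⟨q / 8, by omega⟩
  rw [hr, show 8 * r + 3 - 1 = 2 * (4 * r + 1) by omega,
    show (8 * r + 3) ^ 3 + 1 = 4 * (128 * r ^ 3 + 144 * r ^ 2 + 54 * r + 7) by ring] at h
  have hodd : ((8 * r + 3) ^ 3 * (4 * r + 1) * (128 * r ^ 3 + 144 * r ^ 2 + 54 * r + 7)) % 2 = 1 := by
    simp [Nat.add_mod, Nat.mul_mod, Nat.pow_mod]
  have h4 : (8 * r + 3) ^ 3 * (4 * r + 1) * (128 * r ^ 3 + 144 * r ^ 2 + 54 * r + 7) = 2 * k := by linarith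
  omega

theorem isPGroup_S8 : IsPGroup 2 (D.S8 F) := IsPGroup.of_card (n := 3) (D.card_S8 F)

/-- The standard Sylow 2-subgroup. -/
noncomputable def P8 : Sylow 2 Γ :=
  haveI := D.finite
  haveI := Fact.mk Nat.prime_two
  IsPGroup.toSylow (p := 2) (D.isPGroup_S8 F) (D.index_S8_odd F)

theorem sylow_two (S : Sylow 2 Γ) : Nat.card S = 8 ∧ ∀ x ∈ S, x * x = 1 := by
  haveI := D.finite
  haveI := Fact.mk Nat.prime_two
  obtain ⟨F⟩ := D.nonempty_four
  obtain ⟨g, rfl⟩ := MulAction.exists_smul_eq Γ (D.P8 F) S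
  refine ⟨(Nat.card_congr ((g • D.P8 F).equiv (D.P8 F)).toEquiv).trans (D.card_S8 F), fun x hx => ?_⟩
  have hx' : x ∈ ((g • D.P8 F : Sylow 2 Γ) : Subgroup Γ) := hx
  rw [Sylow.coe_subgroup_smul, Subgroup.mem_pointwise_smul_iff_inv_smul_mem] at hx'
  simp only [MulAut.smul_def, MulAut.conj_inv_apply] at hx'
  have h := D.S8_sq F hx'
  calc x * x = g * (g⁻¹ * x * g * (g⁻¹ * x * g)) * g⁻¹ := by group
    _ = 1 := by rw [h]; group

theorem centralizer_S8 : Subgroup.centralizer (D.S8 F : Set Γ) = D.S8 F := by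
  refine le_antisymm (fun c hc => ?_) (Subgroup.le_centralizer_iff.2 fun a ha =>
    Subgroup.mem_centralizer_iff.2 fun b hb => congrArg Subtype.val ((D.S8_comm F).is_comm.comm ⟨b, hb⟩ ⟨a, ha⟩))
  have hcI := Subgroup.mem_centralizer_iff.1 hc _ (D.eI_mem F)
  have hcK := Subgroup.mem_centralizer_iff.1 hc _ (D.eK_mem F)
  obtain ⟨x, hx⟩ := D.CJ_cases (Subgroup.mem_centralizer_iff.1 hc _ (D.jI_mem F))
  suffices hxS : D.ψ x ∈ D.S8 F by
    rcases hx with rfl | rfl
    exacts [hxS, mul_mem (D.jI_mem F) hxS]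
  have hI : D.eI F * D.ψ x = D.ψ x * D.eI F := by
    rcases hx with rfl | rfl
    · exact hcI
    · rw [← mul_assoc, ← (D.ψ_comm _).eq, mul_assoc, mul_assoc, mul_right_inj] at hcI
      exact hcI
  have hK : D.eK F * D.ψ x = D.ψ x * D.eK F := by
    rcases hx with rfl | rfl
    · exact hcK
    · rw [← mul_assoc, ← (D.ψ_comm _).eq, mul_assoc, mul_assoc, mul_right_inj] at hcK
      exact hcK
  rw [eI, ← map_mul, ← map_mul, D.ψ_eq_iff] at hI
  rw [eK, ← map_mul, ← map_mul, D.ψ_eq_iff] at hK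
  have hII := D.qI_sq
  have hJJ := D.qJ_sq F
  have hIJ := D.qIJ F
  rw [neg_one_mul] at hIJ
  have main : ∀ y : SL(2, K), y * qI = qI * y → y * qJ F.a F.b F.hab = qJ F.a F.b F.hab * y →
      D.ψ y = 1 := by
    intro y h1 h2
    have e1 := congrArg (fun g : SL(2, K) => g.1 0 0) h1
    have e2 := congrArg (fun g : SL(2, K) => g.1 0 1) h1
    have e3 := congrArg (fun g : SL(2, K) => g.1 0 0) h2
    have e4 := congrArg (fun g : SL(2, K) => g.1 0 1) h2
    simp [Matrix.SpecialLinearGroup.coe_mul, coe_qI, coe_qJ, Matrix.mul_apply, Fin.sum_univ_two] at e1 e2 e3 e4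
    have hy : y.1 0 1 = 0 := by
      have hb : (2 * F.b) * y.1 0 1 = 0 := by linear_combination e3 - F.b * e1
      have ha : (2 * F.a) * y.1 0 1 = 0 := by linear_combination -e4 + F.b * e2
      rcases mul_eq_zero.1 ha with h | h
      · rcases mul_eq_zero.1 hb with h' | h'
        · exfalso
          have := F.hab
          rw [(mul_eq_zero.1 h).resolve_left D.two_ne, (mul_eq_zero.1 h').resolve_left D.two_ne] at this
          exact one_ne_zero (α := K) (by linear_combination this)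
        · exact h'
      · exact h
    have hscal : Cfsg.Agent.SL2.Scal y :=
      ⟨hy, by linear_combination -e1 - hy, by first | linear_combination e2 | linear_combination -e2⟩
    rw [Cfsg.Agent.SL2.scal_iff] at hscal
    rcases hscal with rfl | rfl
    exacts [map_one _, D.ψ_neg]
  have hkmem : D.ψ (qJ F.a F.b F.hab) ∈ D.S8 F := D.eK_mem F
  generalize qJ F.a F.b F.hab = k at hK hJJ hIJ main hkmem ⊢
  have hIJ' : ∀ r, k * (qI * r) = -(qI * (k * r)) := fun r => by
    rw [← mul_assoc, hIJ, neg_mul, mul_assoc]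
  have hS : ∀ s : SL(2, K), D.ψ s ∈ D.S8 F → D.ψ (s * x) = 1 → D.ψ x ∈ D.S8 F := fun s hs h => by
    rw [map_mul] at h
    rw [eq_inv_of_mul_eq_one_right h]
    exact inv_mem hs
  rcases hI with hI | hI <;> rcases hK with hK | hK
  · refine hS 1 (by rw [map_one]; exact one_mem _) (main _ ?_ ?_) <;> simp only [one_mul]
    · exact hI
    · exact hK
  · refine hS qI (D.eI_mem F) (main _ ?_ ?_) <;>
      simp only [mul_assoc, hI, hK, mul_neg, hIJ', neg_neg]
  · refine hS k hkmem (main _ ?_ ?_) <;>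
      simp only [mul_assoc, hI, hK, mul_neg, hIJ', neg_neg]
  · refine hS (qI * k) (by rw [map_mul]; exact mul_mem (D.eI_mem F) hkmem) (main _ ?_ ?_) <;>
      simp only [mul_assoc, hI, hK, mul_neg, hIJ', neg_neg]

end Dat

end Cfsg.Agent.Ree
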