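import Cfsg.Agent.Lib.Ree.NoExtThree
import Cfsg.Agent.Lib.Ree.SylowTwo
import Cfsg.Agent.Lib.Ree.SylowOdd
import Cfsg.Agent.Lib.SchurSplit.Eight

/-!
The small Ree groups beyond the smallest one have no stem extensions with kernel of prime order.
-/

set_option autoImplicit false
set_option linter.unusedSectionVars false

namespace Cfsg.Agent.Ree

universe u v

variable {K : Type u} [Field K] [Fintype K] {Γ : Type v} [Group Γ] {m : ℕ} (D : Dat K Γ m)

namespace Dat

include D

theorem noExt (hm : 1 ≤ m) (hperf : commutator Γ = ⊤) (ρ : Γ →* GL (Fin 7) K)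
    (hρ : Function.Injective ρ) : ∀ p, p.Prime → Cfsg.Agent.SchurSplit.NoExt Γ p := by
  classical
  haveI := D.finite
  intro p hp E _ _ π hπ hck hcard hd
  haveI := Fact.mk hp
  by_cases h3 : p = 3
  · subst h3
    exact Cfsg.Agent.SchurSplit.false_of_derived π hπ hck hp hcard hd D.UG
      ((hp.coprime_iff_not_dvd).2 D.not_three_dvd_index) (D.comap_UG hm π hπ hck hcard)
  by_cases h2 : p = 2
  · subst h2
    obtain ⟨F⟩ := D.nonempty_four
    refine Cfsg.Agent.SchurSplit.false_of_derived π hπ hck hp hcard hd (D.S8 F)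
      ((hp.coprime_iff_not_dvd).2 (D.index_S8_odd F))
      (Cfsg.Agent.SchurSplit.comap_of_eight π hπ hck hcard (D.S8 F)
        (fun a b c => D.f8 F (Multiplicative.ofAdd a, Multiplicative.ofAdd b, Multiplicative.ofAdd c))
        (fun a b c a' b' c' => by rw [← map_mul]; rfl) (fun a b c h => ?_)
        (fun a b c => ⟨_, rfl⟩) (fun g hg => ?_)
        fun x hx hc => perfect_central_eq_one hperf (D.P8 F) (D.S8_comm F) hx hc)
    · have := D.f8_inj F (h.trans (map_one _).symm)
      simpa [Prod.ext_iff] using this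
    · obtain ⟨⟨a, b, c⟩, hpq⟩ := hg
      exact ⟨a.toAdd, b.toAdd, c.toAdd, hpq⟩
  · have h5 : 3 < p := by
      have := hp.two_le
      omega
    obtain ⟨S⟩ : Nonempty (Sylow p Γ) := inferInstance
    haveI := D.sylow_cyclic ρ hρ h5 S
    exact Cfsg.Agent.SchurSplit.false_of_derived π hπ hck hp hcard hd (S : Subgroup Γ)
      ((hp.coprime_iff_not_dvd).2 S.not_dvd_index)
      (Cfsg.Agent.SchurSplit.comap_of_cyclic π hπ hck _)

end Dat

end Cfsg.Agent.Ree
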