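import Cfsg.Agent.Lib.Ree.SylowTwo

/-!
The normaliser of a Sylow 2-subgroup of a small Ree group has order 168, and all involutions are
conjugate.
-/

set_option autoImplicit false
set_option linter.unusedSectionVars false

namespace Cfsg.Agent.Ree

open scoped MatrixGroups

universe u v

variable {K : Type u} [Field K] [Fintype K] {Γ : Type v} [Group Γ] {m : ℕ} (D : Dat K Γ m)

namespace Dat

include D

variable (F : D.Four)

/-- The normaliser of the standard Sylow 2-subgroup. -/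
abbrev N8 : Subgroup Γ := Subgroup.normalizer (D.S8 F : Set Γ)

/-- The element of order three in that normaliser. -/
abbrev e3 : Γ := D.ψ (qG F.a F.b F.hab D.three)

theorem e3_conj : D.e3 F * D.eI F * (D.e3 F)⁻¹ = D.eI F * D.eK F ∧
    D.e3 F * D.eK F * (D.e3 F)⁻¹ = D.eI F ∧
    D.e3 F * (D.eI F * D.eK F) * (D.e3 F)⁻¹ = D.eK F := by
  have hab := F.hab
  have h3 := D.three
  have e1 : qG F.a F.b F.hab D.three * qI =
      (qI * qJ F.a F.b F.hab) * qG F.a F.b F.hab D.three := by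
    refine Cfsg.Agent.SL2.ext4 ?_ ?_ ?_ ?_ <;>
      simp [Matrix.SpecialLinearGroup.coe_mul, coe_qI, coe_qJ, coe_qG, Matrix.mul_apply, Fin.sum_univ_two] <;>
      first
        | linear_combination hab
        | linear_combination -hab
        | ring
  have e2 : qG F.a F.b F.hab D.three * qJ F.a F.b F.hab = qI * qG F.a F.b F.hab D.three := by
    refine Cfsg.Agent.SL2.ext4 ?_ ?_ ?_ ?_ <;>
      simp [Matrix.SpecialLinearGroup.coe_mul, coe_qI, coe_qJ, coe_qG, Matrix.mul_apply, Fin.sum_univ_two] <;>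
      first
        | linear_combination hab
        | linear_combination -hab
        | ring
  have f1 : D.e3 F * D.eI F * (D.e3 F)⁻¹ = D.eI F * D.eK F := by
    rw [mul_inv_eq_iff_eq_mul, e3, eI, eK, ← map_mul, ← map_mul, ← map_mul, e1]
  have f2 : D.e3 F * D.eK F * (D.e3 F)⁻¹ = D.eI F := by
    rw [mul_inv_eq_iff_eq_mul, e3, eI, eK, ← map_mul, ← map_mul, e2]
  refine ⟨f1, f2, ?_⟩
  calc D.e3 F * (D.eI F * D.eK F) * (D.e3 F)⁻¹
      = (D.e3 F * D.eI F * (D.e3 F)⁻¹) * (D.e3 F * D.eK F * (D.e3 F)⁻¹) := by group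
    _ = D.eI F * D.eK F * D.eI F := by rw [f1, f2]
    _ = D.eK F := by rw [(D.eIK_comm F).eq, mul_assoc, D.eI_sq, mul_one]

theorem mem_N8_of_gens {c : Γ} (h1 : c * D.jI * c⁻¹ ∈ D.S8 F) (h2 : c * D.eI F * c⁻¹ ∈ D.S8 F)
    (h3 : c * D.eK F * c⁻¹ ∈ D.S8 F) : c ∈ D.N8 F := by
  haveI := D.finite
  have h : ∀ x ∈ D.S8 F, c * x * c⁻¹ ∈ D.S8 F := by
    have hm : ∀ a b, c * a * c⁻¹ ∈ D.S8 F → c * b * c⁻¹ ∈ D.S8 F → c * (a * b) * c⁻¹ ∈ D.S8 F :=
      fun a b ha hb => by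
        rw [show c * (a * b) * c⁻¹ = (c * a * c⁻¹) * (c * b * c⁻¹) by group]
        exact mul_mem ha hb
    intro x hx
    rcases D.S8_cases F hx with rfl | rfl | (rfl | rfl | rfl) | (rfl | rfl | rfl)
    · simp
    · exact h1
    · exact h2
    · exact h3
    · exact hm _ _ h2 h3
    · exact hm _ _ h1 h2
    · exact hm _ _ h1 h3
    · exact hm _ _ h1 (hm _ _ h2 h3)
  haveI : Finite (D.S8 F : Set Γ) := (Set.toFinite _).to_subtype
  exact Subgroup.mem_normalizer_fintype h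

theorem e3_mem : D.e3 F ∈ D.N8 F ⊓ D.CJ := by
  obtain ⟨h1, h2, -⟩ := D.e3_conj F
  refine ⟨D.mem_N8_of_gens F ?_ (h1 ▸ mul_mem (D.eI_mem F) (D.eK_mem F)) (h2 ▸ D.eI_mem F),
    D.mem_CJ.2 (D.ψ_comm _)⟩
  rw [← (D.ψ_comm _).eq, mul_inv_cancel_right]
  exact D.jI_mem F

theorem eI_ne_eK : D.eI F ≠ D.eK F := by
  intro h
  have h1 := D.f8_inj F (a₁ := (1, Multiplicative.ofAdd 1, 1)) (a₂ := (1, 1, Multiplicative.ofAdd 1))
    (by rw [D.f8_apply, D.f8_apply, hom2_one, hom2_one]; simpa using h)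
  simp at h1

theorem e3_not_mem : D.e3 F ∉ D.S8 F := by
  intro h
  apply D.eI_ne_eK F
  have := congrArg Subtype.val ((D.S8_comm F).is_comm.comm ⟨_, h⟩ ⟨_, D.eK_mem F⟩)
  rw [← (D.e3_conj F).2.1, show D.e3 F * D.eK F = D.eK F * D.e3 F from this, mul_inv_cancel_right]

theorem S8_le_stab : D.S8 F ≤ D.N8 F ⊓ D.CJ := fun _ hx =>
  ⟨Subgroup.le_normalizer hx, D.mem_CJ.2
    (congrArg Subtype.val ((D.S8_comm F).is_comm.comm ⟨_, D.jI_mem F⟩ ⟨_, hx⟩))⟩

theorem ψ_mem_cases {t : Γ} (ht : t ∈ D.S8 F) (h1 : t ≠ 1) (hψ : ∃ y, t = D.ψ y) :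
    t = D.eI F ∨ t = D.eK F ∨ t = D.eI F * D.eK F := by
  obtain ⟨y, rfl⟩ := hψ
  rcases D.S8_cases F ht with e | e | e | (e | e | e)
  · exact absurd e h1
  · exact absurd e (D.ψ_ne_jI y)
  · exact e
  all_goals exfalso
  · refine D.ψ_ne_jI (y * qI) ?_
    rw [map_mul, e, mul_assoc, D.eI_sq, mul_one]
  · refine D.ψ_ne_jI (y * qJ F.a F.b F.hab) ?_
    rw [map_mul, e, mul_assoc, D.eK_sq, mul_one]
  · refine D.ψ_ne_jI (y * (qJ F.a F.b F.hab * qI)) ?_
    rw [map_mul, map_mul, e, mul_assoc, mul_assoc, ← mul_assoc (D.eK F), D.eK_sq, one_mul, D.eI_sq, mul_one]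

theorem card_stab : Nat.card ↥(D.N8 F ⊓ D.CJ) = 24 := by
  classical
  haveI := D.finite
  let T := {t : Γ // t ∈ D.S8 F ∧ t ≠ 1 ∧ ∃ y, t = D.ψ y}
  have hne : D.eI F ≠ 1 ∧ D.eK F ≠ 1 ∧ D.eI F * D.eK F ≠ 1 := by
    refine ⟨fun h => ?_, fun h => ?_, fun h => D.eI_ne_eK F ?_⟩
    · refine D.eI_ne_eK F ?_
      have := (D.e3_conj F).2.1
      rw [h, conj_eq_one_iff] at this
      rw [h, this]
    · refine D.eI_ne_eK F ?_
      have := (D.e3_conj F).2.1
      rw [h, mul_one, mul_inv_cancel] at this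
      rw [h, ← this]
    · rw [eq_inv_of_mul_eq_one_left h, inv_eq_of_mul_eq_one_right (D.eK_sq F)]
  have hT : Nat.card T ≤ 3 := by
    let s : Fin 3 → T := ![⟨D.eI F, D.eI_mem F, hne.1, _, rfl⟩, ⟨D.eK F, D.eK_mem F, hne.2.1, _, rfl⟩,
      ⟨D.eI F * D.eK F, mul_mem (D.eI_mem F) (D.eK_mem F), hne.2.2, _, (map_mul _ _ _).symm⟩]
    have hs : Function.Surjective s := by
      rintro ⟨t, h1, h2, h3⟩
      rcases D.ψ_mem_cases F h1 h2 h3 with rfl | rfl | rfl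
      exacts [⟨0, rfl⟩, ⟨1, rfl⟩, ⟨2, rfl⟩]
    exact (Nat.card_le_card_of_surjective s hs).trans (by simp)
  have hmap : ∀ c ∈ D.N8 F ⊓ D.CJ, ∀ t : T, c * t.1 * c⁻¹ ∈ D.S8 F ∧ c * t.1 * c⁻¹ ≠ 1 ∧
      ∃ y, c * t.1 * c⁻¹ = D.ψ y := by
    rintro c ⟨hc, hcj⟩ ⟨t, h1, h2, y, rfl⟩
    refine ⟨(Subgroup.mem_normalizer_iff.1 hc _).1 h1, fun h => h2 (conj_eq_one_iff.1 h), ?_⟩
    obtain ⟨x, rfl | rfl⟩ := D.CJ_cases (D.mem_CJ.1 hcj)
    · exact ⟨x * y * x⁻¹, by simp⟩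
    · refine ⟨x * y * x⁻¹, ?_⟩
      rw [map_mul, map_mul, map_inv, show D.jI * D.ψ x * D.ψ y * (D.jI * D.ψ x)⁻¹ =
        D.jI * (D.ψ x * D.ψ y * (D.ψ x)⁻¹) * D.jI⁻¹ by group, ← map_inv, ← map_mul, ← map_mul,
        (D.ψ_comm _).eq, mul_inv_cancel_right]
  let ρ : ↥(D.N8 F ⊓ D.CJ) →* Equiv.Perm T := MonoidHom.mk'
    (fun c => Equiv.mk (fun t => ⟨_, hmap c c.2 t⟩) (fun t => ⟨_, hmap _ (inv_mem c.2) t⟩)
      (fun t => Subtype.ext (by show (c : Γ)⁻¹ * ((c : Γ) * t.1 * (c : Γ)⁻¹) * ((c : Γ)⁻¹)⁻¹ = t.1; group))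
      (fun t => Subtype.ext (by show (c : Γ) * ((c : Γ)⁻¹ * t.1 * ((c : Γ)⁻¹)⁻¹) * (c : Γ)⁻¹ = t.1; group)))
    fun c d => Equiv.ext fun t => Subtype.ext (by
      show ((c * d : ↥(D.N8 F ⊓ D.CJ)) : Γ) * t.1 * ((c * d : ↥(D.N8 F ⊓ D.CJ)) : Γ)⁻¹ =
        (c : Γ) * ((d : Γ) * t.1 * (d : Γ)⁻¹) * (c : Γ)⁻¹
      rw [Subgroup.coe_mul]; group)
  have hker : ρ.ker = (D.S8 F).subgroupOf (D.N8 F ⊓ D.CJ) := by
    ext c
    rw [MonoidHom.mem_ker, Subgroup.mem_subgroupOf]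
    constructor
    · intro h
      rw [← D.centralizer_S8 F, Subgroup.mem_centralizer_iff]
      have hfix : ∀ t, t ∈ D.S8 F → t ≠ 1 → (∃ y, t = D.ψ y) → t * (c : Γ) = c * t := fun t a b d => by
        have := congrArg (fun p : Equiv.Perm T => (p ⟨t, a, b, d⟩).1) h
        simp only [Equiv.Perm.one_apply] at this
        change (c : Γ) * t * (c : Γ)⁻¹ = t at this
        rw [mul_inv_eq_iff_eq_mul] at this
        exact this.symm
      have hj : Commute D.jI (c : Γ) := D.mem_CJ.1 c.2.2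
      have hI : Commute (D.eI F) (c : Γ) := hfix _ (D.eI_mem F) hne.1 ⟨_, rfl⟩
      have hK : Commute (D.eK F) (c : Γ) := hfix _ (D.eK_mem F) hne.2.1 ⟨_, rfl⟩
      intro s hs
      rcases D.S8_cases F hs with rfl | rfl | (rfl | rfl | rfl) | (rfl | rfl | rfl)
      exacts [(Commute.one_left _).eq, hj.eq, hI.eq, hK.eq, (hI.mul_left hK).eq, (hj.mul_left hI).eq,
        (hj.mul_left hK).eq, (hj.mul_left (hI.mul_left hK)).eq]
    · intro h
      refine Equiv.ext fun t => Subtype.ext ?_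
      show (c : Γ) * t.1 * (c : Γ)⁻¹ = t.1
      have := congrArg Subtype.val ((D.S8_comm F).is_comm.comm ⟨_, h⟩ ⟨_, t.2.1⟩)
      rw [show (c : Γ) * t.1 = t.1 * c from this, mul_inv_cancel_right]
  have hk8 : Nat.card ρ.ker = 8 := by
    rw [hker, Nat.card_congr (Subgroup.subgroupOfEquivOfLe (D.S8_le_stab F)).toEquiv, D.card_S8]
  have hidx := ρ.ker.card_mul_index
  rw [hk8, Subgroup.index_ker] at hidx
  have hd6 : Nat.card ρ.range ∣ 6 := by
    refine (Subgroup.card_subgroup_dvd_card _).trans ?_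
    rw [Nat.card_perm]
    exact (Nat.factorial_dvd_factorial hT).trans (by decide)
  have hodd : ¬ 2 ∣ Nat.card ρ.range := by
    rw [← Subgroup.index_ker, hker]
    intro h2
    exact D.index_S8_odd F (h2.trans (Subgroup.relIndex_dvd_index_of_le (D.S8_le_stab F)))
  have h1 : Nat.card ρ.range ≠ 1 := by
    rw [← Subgroup.index_ker, hker, ne_eq, Subgroup.index_eq_one]
    intro h
    exact D.e3_not_mem F (Subgroup.subgroupOf_eq_top.1 h (D.e3_mem F))
  have : Nat.card ρ.range ≤ 6 := Nat.le_of_dvd (by norm_num) hd6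
  interval_cases h : Nat.card ρ.range <;> omega

/-- The conjugates of the torus involution under the normaliser. -/
def orb : Set Γ := {x | ∃ n ∈ D.N8 F, n * D.jI * n⁻¹ = x}

theorem card_N8_eq : Nat.card (D.N8 F) = Nat.card (D.orb F) * 24 := by
  classical
  haveI := D.finite
  letI : MulAction ↥(D.N8 F) Γ :=
    MulAction.compHom Γ ((MulAut.conj (G := Γ)).comp (D.N8 F).subtype)
  have hs : MulAction.stabilizer ↥(D.N8 F) D.jI = (D.N8 F ⊓ D.CJ).subgroupOf (D.N8 F) := by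
    ext n
    rw [MulAction.mem_stabilizer_iff, Subgroup.mem_subgroupOf, Subgroup.mem_inf, D.mem_CJ]
    show (n : Γ) * D.jI * (n : Γ)⁻¹ = D.jI ↔ _
    rw [mul_inv_eq_iff_eq_mul]
    exact ⟨fun h => ⟨n.2, h.symm⟩, fun h => h.2.eq.symm⟩
  have ho : MulAction.orbit ↥(D.N8 F) D.jI = D.orb F := by
    ext x
    exact ⟨fun ⟨n, h⟩ => ⟨n, n.2, h⟩, fun ⟨n, hn, h⟩ => ⟨⟨n, hn⟩, h⟩⟩
  have h := (MulAction.stabilizer ↥(D.N8 F) D.jI).card_mul_index
  rw [MulAction.index_stabilizer, ho, hs, Nat.card_congr (Subgroup.subgroupOfEquivOfLe inf_le_left).toEquiv,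
    D.card_stab] at h
  rw [← h, mul_comm]
  rfl

theorem orb_subset {x : Γ} (hx : x ∈ D.orb F) : x ∈ D.S8 F ∧ x ≠ 1 := by
  obtain ⟨n, hn, rfl⟩ := hx
  exact ⟨(Subgroup.mem_normalizer_iff.1 hn _).1 (D.jI_mem F), fun h => D.jI_ne (conj_eq_one_iff.1 h)⟩

theorem orb_e3 {x : Γ} (hx : x ∈ D.orb F) : D.e3 F * x * (D.e3 F)⁻¹ ∈ D.orb F := by
  obtain ⟨n, hn, rfl⟩ := hx
  exact ⟨D.e3 F * n, mul_mem (D.e3_mem F).1 hn, by group⟩

theorem orb_eq (hperf : commutator Γ = ⊤) : D.orb F = {x | x ∈ D.S8 F ∧ x ≠ 1} := by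
  classical
  haveI := D.finite
  haveI := Fact.mk Nat.prime_two
  obtain ⟨f1, f2, f3⟩ := D.e3_conj F
  have hj : D.e3 F * D.jI * (D.e3 F)⁻¹ = D.jI := by rw [← (D.ψ_comm _).eq, mul_inv_cancel_right]
  have cj : ∀ a b : Γ, D.e3 F * a * (D.e3 F)⁻¹ = b →
      D.e3 F * (D.jI * a) * (D.e3 F)⁻¹ = D.jI * b := fun a b h => by
    rw [show D.e3 F * (D.jI * a) * (D.e3 F)⁻¹ = (D.e3 F * D.jI * (D.e3 F)⁻¹) *
      (D.e3 F * a * (D.e3 F)⁻¹) by group, hj, h]
  have hjmem : D.jI ∈ D.orb F := ⟨1, one_mem _, by group⟩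
  -- the two further classes
  have tA : D.eI F ∈ D.orb F ∨ D.eK F ∈ D.orb F ∨ D.eI F * D.eK F ∈ D.orb F →
      D.eI F ∈ D.orb F ∧ D.eK F ∈ D.orb F ∧ D.eI F * D.eK F ∈ D.orb F := by
    intro h
    have s1 : D.eI F ∈ D.orb F → D.eI F * D.eK F ∈ D.orb F := fun h => f1 ▸ D.orb_e3 F h
    have s2 : D.eK F ∈ D.orb F → D.eI F ∈ D.orb F := fun h => f2 ▸ D.orb_e3 F h
    have s3 : D.eI F * D.eK F ∈ D.orb F → D.eK F ∈ D.orb F := fun h => f3 ▸ D.orb_e3 F h
    tauto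
  have tB : D.jI * D.eI F ∈ D.orb F ∨ D.jI * D.eK F ∈ D.orb F ∨ D.jI * (D.eI F * D.eK F) ∈ D.orb F →
      D.jI * D.eI F ∈ D.orb F ∧ D.jI * D.eK F ∈ D.orb F ∧ D.jI * (D.eI F * D.eK F) ∈ D.orb F := by
    intro h
    have s1 : D.jI * D.eI F ∈ D.orb F → D.jI * (D.eI F * D.eK F) ∈ D.orb F := fun h => cj _ _ f1 ▸ D.orb_e3 F h
    have s2 : D.jI * D.eK F ∈ D.orb F → D.jI * D.eI F ∈ D.orb F := fun h => cj _ _ f2 ▸ D.orb_e3 F h
    have s3 : D.jI * (D.eI F * D.eK F) ∈ D.orb F → D.jI * D.eK F ∈ D.orb F :=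
      fun h => cj _ _ f3 ▸ D.orb_e3 F h
    tauto
  refine Set.ext fun x => ⟨D.orb_subset F, fun ⟨hx, hx1⟩ => ?_⟩
  by_contra hnot
  have hodd : ¬ 2 ∣ Nat.card (D.orb F) := by
    intro h2
    have h16 : 16 ∣ Nat.card (D.N8 F) := by
      rw [D.card_N8_eq]
      obtain ⟨k, hk⟩ := h2
      exact ⟨3 * k, by rw [hk]; ring⟩
    have := h16.trans (Subgroup.card_subgroup_dvd_card _)
    rw [← (D.S8 F).card_mul_index, D.card_S8] at this
    exact D.index_S8_odd F ((Nat.mul_dvd_mul_iff_left (by norm_num : 0 < 8)).1 this)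
  have hnc : ∃ y ∈ D.orb F, y ≠ D.jI := by
    by_contra hall
    push_neg at hall
    refine D.jI_ne (perfect_central_eq_one hperf (D.P8 F) (D.S8_comm F) (D.jI_mem F) fun n hn => ?_)
    have := hall (n * D.jI * n⁻¹) ⟨n, hn, rfl⟩
    rwa [mul_inv_eq_iff_eq_mul] at this
  obtain ⟨y, hy, hyj⟩ := hnc
  have hsub : ∀ z ∈ D.orb F, z = D.jI ∨
      (D.eI F ∈ D.orb F ∧ (z = D.eI F ∨ z = D.eK F ∨ z = D.eI F * D.eK F)) ∨
      (D.jI * D.eI F ∈ D.orb F ∧ (z = D.jI * D.eI F ∨ z = D.jI * D.eK F ∨ z = D.jI * (D.eI F * D.eK F))) := by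
    intro z hz
    rcases D.S8_cases F (D.orb_subset F hz).1 with e | e | e | e
    · exact absurd e (D.orb_subset F hz).2
    · exact Or.inl e
    · refine Or.inr (Or.inl ⟨(tA ?_).1, e⟩)
      rcases e with rfl | rfl | rfl <;> simp [hz]
    · refine Or.inr (Or.inr ⟨(tB ?_).1, e⟩)
      rcases e with rfl | rfl | rfl <;> simp [hz]
  -- distinctness of the seven involutions
  have hd : ∀ a b c a' b' c' : Multiplicative (ZMod 2), (a, b, c) ≠ (a', b', c') →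
      D.f8 F (a, b, c) ≠ D.f8 F (a', b', c') := fun a b c a' b' c' h e => h (D.f8_inj F e)
  set o : Multiplicative (ZMod 2) := Multiplicative.ofAdd 1 with ho
  have vj : D.jI = D.f8 F (o, 1, 1) := by rw [D.f8_apply, hom2_one]; simp
  have vi : D.eI F = D.f8 F (1, o, 1) := by rw [D.f8_apply, hom2_one]; simp
  have vk : D.eK F = D.f8 F (1, 1, o) := by rw [D.f8_apply, hom2_one]; simp
  have vik : D.eI F * D.eK F = D.f8 F (1, o, o) := by rw [vi, vk, ← map_mul]; simp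
  have vji : D.jI * D.eI F = D.f8 F (o, o, 1) := by rw [vj, vi, ← map_mul]; simp
  have vjk : D.jI * D.eK F = D.f8 F (o, 1, o) := by rw [vj, vk, ← map_mul]; simp
  have vjik : D.jI * (D.eI F * D.eK F) = D.f8 F (o, o, o) := by rw [vj, vik, ← map_mul]; simp
  -- the orbit has four elements
  have hfour : Nat.card (D.orb F) = 4 := by
    rcases D.S8_cases F hx with e | e | e | e
    · exact absurd e hx1
    · exact absurd (e ▸ hjmem) hnot
    · have hnA : D.eI F ∉ D.orb F := fun h => by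
        obtain ⟨a1, a2, a3⟩ := tA (Or.inl h)
        rcases e with rfl | rfl | rfl <;> exact hnot (by assumption)
      have hB : D.jI * D.eI F ∈ D.orb F := by
        rcases hsub y hy with e' | ⟨h, -⟩ | ⟨h, -⟩
        exacts [absurd e' hyj, absurd h hnA, h]
      obtain ⟨b1, b2, b3⟩ := tB (Or.inl hB)
      have hset : D.orb F = {D.f8 F (o, 1, 1), D.f8 F (o, o, 1), D.f8 F (o, 1, o), D.f8 F (o, o, o)} := by
        rw [← vj, ← vji, ← vjk, ← vjik]
        refine Set.Subset.antisymm (fun z hz => ?_) ?_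
        · rcases hsub z hz with e' | ⟨h, -⟩ | ⟨-, e'⟩
          · simp [e']
          · exact absurd h hnA
          · rcases e' with e' | e' | e' <;> simp [e']
        · rintro z (rfl | rfl | rfl | rfl) <;> assumption
      rw [hset, show ({D.f8 F (o, 1, 1), D.f8 F (o, o, 1), D.f8 F (o, 1, o), D.f8 F (o, o, o)} : Set Γ) =
        D.f8 F '' {(o, 1, 1), (o, o, 1), (o, 1, o), (o, o, o)} by simp [Set.image_insert_eq],
        Nat.card_image_of_injective (D.f8_inj F), ho]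
      rw [Nat.card_coe_set_eq, Set.ncard_eq_toFinset_card']
      clear * -
      decide +revert
    · have hnB : D.jI * D.eI F ∉ D.orb F := fun h => by
        obtain ⟨a1, a2, a3⟩ := tB (Or.inl h)
        rcases e with rfl | rfl | rfl <;> exact hnot (by assumption)
      have hA : D.eI F ∈ D.orb F := by
        rcases hsub y hy with e' | ⟨h, -⟩ | ⟨h, -⟩
        exacts [absurd e' hyj, h, absurd h hnB]
      obtain ⟨b1, b2, b3⟩ := tA (Or.inl hA)
      have hset : D.orb F = {D.f8 F (o, 1, 1), D.f8 F (1, o, 1), D.f8 F (1, 1, o), D.f8 F (1, o, o)} := by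
        rw [← vj, ← vi, ← vk, ← vik]
        refine Set.Subset.antisymm (fun z hz => ?_) ?_
        · rcases hsub z hz with e' | ⟨-, e'⟩ | ⟨h, -⟩
          · simp [e']
          · rcases e' with e' | e' | e' <;> simp [e']
          · exact absurd h hnB
        · rintro z (rfl | rfl | rfl | rfl) <;> assumption
      rw [hset, show ({D.f8 F (o, 1, 1), D.f8 F (1, o, 1), D.f8 F (1, 1, o), D.f8 F (1, o, o)} : Set Γ) =
        D.f8 F '' {(o, 1, 1), (1, o, 1), (1, 1, o), (1, o, o)} by simp [Set.image_insert_eq],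
        Nat.card_image_of_injective (D.f8_inj F), ho]
      rw [Nat.card_coe_set_eq, Set.ncard_eq_toFinset_card']
      clear * -
      decide +revert
  rw [hfour] at hodd
  omega

theorem card_N8 (hperf : commutator Γ = ⊤) : Nat.card (D.N8 F) = 168 := by
  classical
  haveI := D.finite
  have h7 : Nat.card ({x | x ∈ D.S8 F ∧ x ≠ 1} : Set Γ) = 7 := by
    have : ({x | x ∈ D.S8 F ∧ x ≠ 1} : Set Γ) = (D.S8 F : Set Γ) \ {1} := by ext; simp
    rw [this, Nat.card_coe_set_eq, Set.ncard_sdiff (by simpa using one_mem _), Set.ncard_singleton,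
      ← Nat.card_coe_set_eq]
    exact congrArg (· - 1) (D.card_S8 F)
  rw [D.card_N8_eq F, D.orb_eq F hperf, h7]

theorem conj_jI (hperf : commutator Γ = ⊤) {x : Γ} (hx1 : x ≠ 1) (hx2 : x * x = 1) :
    ∃ g, g * D.jI * g⁻¹ = x := by
  haveI := D.finite
  haveI := Fact.mk Nat.prime_two
  obtain ⟨F⟩ := D.nonempty_four
  have hp : IsPGroup 2 (Subgroup.zpowers x) := IsPGroup.of_card (n := 1) (by
    rw [Nat.card_zpowers, pow_one]
    exact orderOf_eq_prime (by rw [pow_two, hx2]) hx1)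
  obtain ⟨S, hS⟩ := hp.exists_le_sylow
  obtain ⟨g, rfl⟩ := MulAction.exists_smul_eq Γ (D.P8 F) S
  have hxS : x ∈ ((g • D.P8 F : Sylow 2 Γ) : Subgroup Γ) := hS (Subgroup.mem_zpowers x)
  rw [Sylow.coe_subgroup_smul, Subgroup.mem_pointwise_smul_iff_inv_smul_mem] at hxS
  simp only [MulAut.smul_def, MulAut.conj_inv_apply] at hxS
  have h : g⁻¹ * x * g ∈ D.orb F := by
    rw [D.orb_eq F hperf]
    refine ⟨hxS, fun h => hx1 ?_⟩
    calc x = g * (g⁻¹ * x * g) * g⁻¹ := by group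
      _ = 1 := by rw [h]; group
  obtain ⟨n, -, hn⟩ := h
  refine ⟨g * n, ?_⟩
  calc g * n * D.jI * (g * n)⁻¹ = g * (n * D.jI * n⁻¹) * g⁻¹ := by group
    _ = x := by rw [hn]; group

theorem sylow_two_normalizer (hperf : commutator Γ = ⊤) (S : Sylow 2 Γ) :
    Subgroup.centralizer ((S : Subgroup Γ) : Set Γ) = S ∧
      Nat.card (Subgroup.normalizer ((S : Subgroup Γ) : Set Γ)) = 168 := by
  haveI := D.finite
  haveI := Fact.mk Nat.prime_two
  obtain ⟨F⟩ := D.nonempty_four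
  obtain ⟨g, rfl⟩ := MulAction.exists_smul_eq Γ (D.P8 F) S
  have e : ((g • D.P8 F : Sylow 2 Γ) : Subgroup Γ) = (D.S8 F).map (MulAut.conj g).toMonoidHom := rfl
  constructor
  · rw [e]
    ext c
    rw [Subgroup.mem_map_equiv, ← SetLike.mem_coe, ← SetLike.mem_coe]
    conv_rhs => rw [← D.centralizer_S8 F]
    simp only [SetLike.mem_coe, Subgroup.mem_centralizer_iff, MulAut.conj_symm_apply, Subgroup.coe_map,
      Set.forall_mem_image]
    refine forall₂_congr fun s _ => ?_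
    show g * s * g⁻¹ * c = c * (g * s * g⁻¹) ↔ _
    constructor
    · intro h
      calc s * (g⁻¹ * c * g) = g⁻¹ * (g * s * g⁻¹ * c) * g := by group
        _ = g⁻¹ * c * g * s := by rw [h]; group
    · intro h
      calc g * s * g⁻¹ * c = g * (s * (g⁻¹ * c * g)) * g⁻¹ := by group
        _ = c * (g * s * g⁻¹) := by rw [h]; group
  · rw [e, ← Subgroup.map_equiv_normalizer_eq (D.S8 F) (MulAut.conj g),
      ← Nat.card_congr ((D.N8 F).equivMapOfInjective _ (MulAut.conj g).injective).toEquiv]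
    exact D.card_N8 F hperf

end Dat

end Cfsg.Agent.Ree
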