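import Cfsg.Agent.Lib.Ree.Toral

/-!
Solvable subgroups of a small Ree group lie in local normalisers.
-/

set_option autoImplicit false
set_option linter.unusedSectionVars false

namespace Cfsg.Agent.Ree

open scoped MatrixGroups
open Cfsg.Agent

universe u v

/-- A non-trivial solvable group has a non-trivial normal subgroup of prime exponent. -/
theorem exists_elementary {G : Type*} [Group G] [Finite G] [Nontrivial G] (hs : Group.IsSolvable G) :
    ∃ (p : ℕ) (P : Subgroup G), p.Prime ∧ P.Normal ∧ P ≠ ⊥ ∧ (∀ x ∈ P, x ^ p = 1) ∧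
      ∀ x ∈ P, ∀ y ∈ P, x * y = y * x := by
  classical
  obtain ⟨n, hn⟩ := Group.IsSolvable.solvable (G := G)
  have hex : ∃ n, derivedSeries G n = ⊥ := ⟨n, hn⟩
  obtain ⟨i, hi⟩ : ∃ i, Nat.find hex = i + 1 := by
    refine ⟨Nat.find hex - 1, ?_⟩
    rcases Nat.eq_zero_or_pos (Nat.find hex) with h | h
    · have := Nat.find_spec hex
      rw [h, derivedSeries_zero] at this
      exact absurd this bot_ne_top.symm
    · omega
  set N := derivedSeries G i with hN
  have hne : N ≠ ⊥ := Nat.find_min hex (by omega)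
  have hcomm : ∀ x ∈ N, ∀ y ∈ N, x * y = y * x := by
    have h := Nat.find_spec hex
    rw [hi, derivedSeries_succ, Subgroup.commutator_eq_bot_iff_le_centralizer] at h
    exact fun x hx y hy => (Subgroup.mem_centralizer_iff.1 (h hx) y hy).symm
  haveI : N.Normal := derivedSeries_normal G i
  obtain ⟨p, hp, hpd⟩ := Nat.exists_prime_and_dvd (show Nat.card N ≠ 1 from fun h => hne (Subgroup.eq_bot_of_card_eq _ h))
  haveI := Fact.mk hp
  let P : Subgroup G :=
    { carrier := {x | x ∈ N ∧ x ^ p = 1}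
      one_mem' := ⟨one_mem _, one_pow _⟩
      mul_mem' := fun ha hb => ⟨mul_mem ha.1 hb.1, by
        rw [Commute.mul_pow (hcomm _ ha.1 _ hb.1), ha.2, hb.2, one_mul]⟩
      inv_mem' := fun ha => ⟨inv_mem ha.1, by rw [inv_pow, ha.2, inv_one]⟩ }
  refine ⟨p, P, hp, ⟨fun x hx g => ⟨Subgroup.Normal.conj_mem inferInstance x hx.1 g,
    by rw [conj_pow, hx.2]; group⟩⟩, fun h => ?_, fun x hx => hx.2, fun x hx y hy => hcomm x hx.1 y hy.1⟩
  obtain ⟨x, hx⟩ := exists_prime_orderOf_dvd_card' p hpd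
  have hxP : (x : G) ∈ P := ⟨x.2, by rw [← SubmonoidClass.coe_pow, ← hx, pow_orderOf_eq_one]; rfl⟩
  rw [h, Subgroup.mem_bot, ← orderOf_eq_one_iff, Subgroup.orderOf_coe, hx] at hxP
  exact hp.ne_one hxP

/-- Lifting a normal subgroup of prime exponent through a central subgroup of order two. -/
theorem exists_lift {G : Type*} [Group G] [Finite G] (hs : Group.IsSolvable G) (Z : Subgroup G) [Z.Normal]
    (hZc : ∀ z ∈ Z, ∀ g : G, Commute z g) (hZ2 : ∀ z ∈ Z, z * z = 1) (hZ : Z ≠ ⊤) (hZ1 : Z ≠ ⊥)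
    (h2 : ∀ x : G, ∀ a : ℕ, orderOf x = 2 ^ a → x * x = 1) :
    ∃ (p : ℕ) (P : Subgroup G), p.Prime ∧ P.Normal ∧ P ≠ ⊥ ∧ (∀ x ∈ P, x ^ p = 1) ∧
      (∀ x ∈ P, ∀ y ∈ P, x * y = y * x) ∧ (p = 2 → 4 ≤ Nat.card P) := by
  classical
  haveI : Nontrivial (G ⧸ Z) := QuotientGroup.nontrivial_iff.2 hZ
  haveI := hs
  obtain ⟨p, M, hp, hM, hMne, hMp, hMc⟩ := exists_elementary (G := G ⧸ Z) inferInstance
  set P1 := M.comap (QuotientGroup.mk' Z) with hP1
  haveI : P1.Normal := hM.comap _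
  have hZle : Z ≤ P1 := fun z hz => by
    rw [hP1, Subgroup.mem_comap, QuotientGroup.mk'_apply, (QuotientGroup.eq_one_iff z).2 hz]
    exact one_mem _
  have hmem : ∀ x ∈ P1, ∀ y ∈ P1, x * y * x⁻¹ * y⁻¹ ∈ Z := fun x hx y hy => by
    have h := hMc _ hx _ hy
    rw [← QuotientGroup.eq_one_iff, QuotientGroup.mk_mul, QuotientGroup.mk_mul, QuotientGroup.mk_mul,
      QuotientGroup.mk_inv, QuotientGroup.mk_inv]
    simp only [QuotientGroup.mk'_apply] at h
    rw [h]; group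
  by_cases hp2 : p = 2
  · subst hp2
    have hsq : ∀ x ∈ P1, x ^ 2 = 1 := by
      intro x hx
      have h1 : x ^ 2 ∈ Z := (QuotientGroup.eq_one_iff _).1 (hMp _ hx)
      have h4 : x ^ (2 ^ 2) = 1 := by
        rw [pow_two 2, pow_mul, pow_two (x ^ 2)]
        exact hZ2 _ h1
      obtain ⟨a, -, ha⟩ := (Nat.dvd_prime_pow Nat.prime_two).1 (orderOf_dvd_of_pow_eq_one h4)
      rw [pow_two]; exact h2 x a ha
    refine ⟨2, P1, hp, inferInstance, fun h => hZ1 (le_bot_iff.1 (h ▸ hZle)), hsq, fun x hx y hy => ?_, fun _ => ?_⟩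
    · have hinv : ∀ a ∈ P1, a⁻¹ = a := fun a ha => inv_eq_of_mul_eq_one_right (by rw [← pow_two]; exact hsq a ha)
      calc x * y = (x * y)⁻¹ := (hinv _ (mul_mem hx hy)).symm
        _ = y * x := by rw [mul_inv_rev, hinv x hx, hinv y hy]
    · have h1 : Nat.card P1 = Nat.card Z * Nat.card M := by
        have h := (Z.subgroupOf P1).card_mul_index
        rw [Nat.card_congr (Subgroup.subgroupOfEquivOfLe hZle).toEquiv] at h
        rw [← h, show (Z.subgroupOf P1).index = Z.relIndex P1 from rfl]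
        congr 1
        rw [hP1]
        have := Subgroup.relIndex_comap (⊥ : Subgroup (G ⧸ Z)) (QuotientGroup.mk' Z) P1
        rw [MonoidHom.comap_bot, QuotientGroup.ker_mk'] at this
        rw [this, Subgroup.relIndex_bot_left, hP1, Subgroup.map_comap_eq_self_of_surjective
          (QuotientGroup.mk'_surjective Z)]
      have := Z.one_lt_card_iff_ne_bot.2 hZ1
      have := M.one_lt_card_iff_ne_bot.2 hMne
      rw [h1]; nlinarith
  · let P : Subgroup G :=
      { carrier := {x | x ∈ P1 ∧ x ^ p = 1}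
        one_mem' := ⟨one_mem _, one_pow _⟩
        mul_mem' := fun {a b} ha hb => ⟨mul_mem ha.1 hb.1, by
          have hc : a * b = b * a := by
            set c := a * b * a⁻¹ * b⁻¹ with hcd
            have hcZ := hmem a ha.1 b hb.1
            have hstep : ∀ n : ℕ, a ^ n * b * (a ^ n)⁻¹ = c ^ n * b := by
              intro n
              induction n with
              | zero => simp
              | succ n ih =>
                calc a ^ (n + 1) * b * (a ^ (n + 1))⁻¹ = a * (a ^ n * b * (a ^ n)⁻¹) * a⁻¹ := by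
                      rw [pow_succ']; group
                  _ = a * (c ^ n * b) * a⁻¹ := by rw [ih]
                  _ = c ^ n * (a * b * a⁻¹) := by
                      rw [← mul_assoc a, ← ((hZc c hcZ a).pow_left n).eq]; group
                  _ = c ^ (n + 1) * b := by
                      rw [pow_succ, mul_assoc (c ^ n) c b]
                      exact congrArg (c ^ n * ·) (inv_mul_cancel_right (a * b * a⁻¹) b).symm
            have h := hstep p
            rw [ha.2, one_mul, inv_one, mul_one] at h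
            have hodd : c ^ p = c := by
              obtain ⟨i, hi⟩ := (hp.odd_of_ne_two hp2)
              rw [hi, pow_succ, pow_mul, pow_two, hZ2 c hcZ, one_pow, one_mul]
            rw [hodd] at h
            have hc1 : c = 1 := by simpa using h
            rw [← mul_inv_eq_one, mul_inv_rev, ← mul_assoc]
            exact hc1
          rw [Commute.mul_pow hc, ha.2, hb.2, one_mul]⟩
        inv_mem' := fun ha => ⟨inv_mem ha.1, by rw [inv_pow, ha.2, inv_one]⟩ }
    refine ⟨p, P, hp, ⟨fun x hx g => ⟨Subgroup.Normal.conj_mem inferInstance x hx.1 g, by rw [conj_pow, hx.2]; group⟩⟩,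
      fun h => ?_, fun x hx => hx.2, fun x hx y hy => ?_, fun e => absurd e hp2⟩
    · haveI := Fact.mk hp
      obtain ⟨⟨z, hz⟩, hz1⟩ := (nontrivial_iff_exists_ne (1 : M)).1 ((Subgroup.nontrivial_iff_ne_bot _).2 hMne)
      obtain ⟨x, rfl⟩ := QuotientGroup.mk'_surjective Z z
      have hpz : orderOf (QuotientGroup.mk' Z x) = p := orderOf_eq_prime (hMp _ hz) fun e => hz1 (Subtype.ext e)
      have hd : p ∣ orderOf x := hpz ▸ orderOf_map_dvd _ x
      have hy : x ^ (orderOf x / p) ∈ P := ⟨pow_mem (show x ∈ P1 from hz) _, by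
        rw [← pow_mul, Nat.div_mul_cancel hd, pow_orderOf_eq_one]⟩
      rw [h, Subgroup.mem_bot, ← orderOf_eq_one_iff, orderOf_pow_orderOf_div (orderOf_pos x).ne' hd] at hy
      exact hp.ne_one hy
    · have hxy : x * y ∈ P := mul_mem hx hy
      have hc : x * y * x⁻¹ * y⁻¹ ∈ P := mul_mem (mul_mem hxy (inv_mem hx)) (inv_mem hy)
      have h1 : (x * y * x⁻¹ * y⁻¹) ^ p = 1 := hc.2
      obtain ⟨i, hi⟩ := (hp.odd_of_ne_two hp2)
      rw [hi, pow_succ, pow_mul, pow_two, hZ2 _ (hmem x hx.1 y hy.1), one_pow, one_mul] at h1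
      calc x * y = x * y * x⁻¹ * y⁻¹ * (y * x) := by group
        _ = y * x := by rw [h1, one_mul]

variable {K : Type u} [Field K] [Fintype K] {Γ : Type v} [Group Γ] {m : ℕ} (D : Dat K Γ m)

namespace Dat

include D

/-- The conclusion of the local normaliser theorem for one subgroup. -/
def Local (_ : Dat K Γ m) (S : Subgroup Γ) : Prop :=
  ∃ A : Subgroup Γ, S ≤ Subgroup.normalizer (A : Set Γ) ∧
    ((∃ P : Sylow 2 Γ, A = P) ∨ (∃ P : Sylow 3 Γ, A = P) ∨
      (IsCyclic A ∧ (Nat.card A = (Fintype.card K - 1) / 2 ∨ Nat.card A = (Fintype.card K + 1) / 4 ∨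
        Nat.card A = Fintype.card K - 3 ^ (m + 1) + 1 ∨ Nat.card A = Fintype.card K + 3 ^ (m + 1) + 1)))

theorem four_conj (R : Reg D) (F : D.Four) {V : Subgroup Γ} (hV4 : Nat.card V = 4) (hV2 : ∀ x ∈ V, x * x = 1) :
    ∃ g : Γ, ∀ x ∈ V, g⁻¹ * x * g ∈ D.E4 F := by
  classical
  haveI := D.finite
  haveI := Fact.mk Nat.prime_two
  obtain ⟨S, hS⟩ := (IsPGroup.of_card (G := V) (p := 2) (n := 2) hV4).exists_le_sylow
  obtain ⟨a, rfl⟩ := MulAction.exists_smul_eq Γ (D.P8 F) S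
  have hVS : ∀ x ∈ V, a⁻¹ * x * a ∈ D.S8 F := by
    intro x hx
    have h := hS hx
    rw [Sylow.coe_subgroup_smul, Subgroup.mem_pointwise_smul_iff_inv_smul_mem] at h
    simp only [MulAut.smul_def, MulAut.conj_inv_apply] at h
    exact h
  have hne : V ≠ ⊥ := fun h => by rw [h, Subgroup.card_bot] at hV4; omega
  obtain ⟨⟨v, hv⟩, hv1⟩ := (nontrivial_iff_exists_ne (1 : V)).1 ((Subgroup.nontrivial_iff_ne_bot _).2 hne)
  have hv1' : a⁻¹ * v * a ≠ 1 := fun e => hv1 (Subtype.ext (by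
    show v = 1
    calc v = a * (a⁻¹ * v * a) * a⁻¹ := by group
      _ = 1 := by rw [e]; group))
  obtain ⟨n, hn, hnv⟩ : a⁻¹ * v * a ∈ D.orb F := by
    rw [D.orb_eq F R.hperf]; exact ⟨hVS v hv, hv1'⟩
  set b := a * n with hb
  have hbS : ∀ x ∈ V, b⁻¹ * x * b ∈ D.S8 F := by
    intro x hx
    have h := (Subgroup.mem_normalizer_iff.1 (inv_mem hn) _).1 (hVS x hx)
    rwa [hb, show (a * n)⁻¹ * x * (a * n) = n⁻¹ * (a⁻¹ * x * a) * n⁻¹⁻¹ by group]
  have hbv : b⁻¹ * v * b = D.jI := by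
    rw [hb, show (a * n)⁻¹ * v * (a * n) = n⁻¹ * (a⁻¹ * v * a) * n by group, ← hnv]; group
  obtain ⟨w, hw, hw1, hwv⟩ : ∃ w ∈ V, w ≠ 1 ∧ w ≠ v := by
    by_contra hcon
    push_neg at hcon
    have h2 : Nat.card V ≤ 2 := by
      refine (Nat.card_le_card_of_injective (fun r : V => decide ((r : Γ) = 1)) fun x y h => ?_).trans (by simp)
      have h' : (x : Γ) = 1 ↔ (y : Γ) = 1 := decide_eq_decide.1 h
      apply Subtype.ext
      by_cases hx : (x : Γ) = 1
      · rw [hx, h'.1 hx]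
      · rw [hcon _ x.2 hx, hcon _ y.2 fun hy => hx (h'.2 hy)]
    omega
  have hcases : ∀ x ∈ V, x = 1 ∨ x = v ∨ x = w ∨ x = v * w := by
    intro x hx
    by_contra hcon
    push_neg at hcon
    obtain ⟨h1, h2, h3, h4⟩ := hcon
    have hv1'' : v ≠ 1 := fun e => hv1 (Subtype.ext e)
    have hvw : v * w ≠ 1 := fun e => hwv (by
      rw [← inv_eq_of_mul_eq_one_right e, inv_eq_of_mul_eq_one_right (hV2 v hv)])
    have hcard : ({⟨1, one_mem _⟩, ⟨v, hv⟩, ⟨w, hw⟩, ⟨v * w, mul_mem hv hw⟩, ⟨x, hx⟩} : Finset V).card ≤ 4 := by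
      haveI := Fintype.ofFinite V
      exact (Finset.card_le_univ _).trans (by rw [← Nat.card_eq_fintype_card, hV4])
    have hwvw : w ≠ v * w := fun e => hv1'' (mul_eq_right.1 e.symm)
    have hvvw : v ≠ v * w := fun e => hw1 (mul_eq_left.1 e.symm)
    simp [Finset.card_insert_of_notMem, hv1''.symm, hw1.symm, Ne.symm h1, Ne.symm h2, Ne.symm h3, Ne.symm h4,
      hwv.symm, hwvw, hvvw, hvw.symm] at hcard
  set s := b⁻¹ * w * b with hs
  obtain ⟨f1, f2, f3⟩ := D.e3_conj F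
  have h3 : D.e3 F * D.jI * (D.e3 F)⁻¹ = D.jI := by rw [← (D.ψ_comm _).eq, mul_inv_cancel_right]
  have mv : ∀ t : Γ, t = D.eI F ∨ t = D.eK F ∨ t = D.eI F * D.eK F →
      ∃ h : Γ, h * D.jI * h⁻¹ = D.jI ∧ h * t * h⁻¹ = D.eI F := by
    rintro t (rfl | rfl | rfl)
    · exact ⟨1, by group, by group⟩
    · exact ⟨D.e3 F, h3, f2⟩
    · refine ⟨(D.e3 F)⁻¹, ?_, ?_⟩
      · calc (D.e3 F)⁻¹ * D.jI * ((D.e3 F)⁻¹)⁻¹ = (D.e3 F)⁻¹ * (D.e3 F * D.jI * (D.e3 F)⁻¹) * D.e3 F := by
              rw [h3]; group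
          _ = D.jI := by group
      · rw [← f1]; group
  have hjE : D.jI ∈ D.E4 F := Subgroup.mem_sup_left (Subgroup.mem_zpowers _)
  have hIE : D.eI F ∈ D.E4 F := Subgroup.mem_sup_right (Subgroup.mem_zpowers _)
  have fin : ∀ h : Γ, h * D.jI * h⁻¹ = D.jI → h * s * h⁻¹ ∈ D.E4 F → ∃ g : Γ, ∀ x ∈ V, g⁻¹ * x * g ∈ D.E4 F := by
    intro h h1 h2
    refine ⟨b * h⁻¹, fun x hx => ?_⟩
    have e : ∀ y : Γ, (b * h⁻¹)⁻¹ * y * (b * h⁻¹) = h * (b⁻¹ * y * b) * h⁻¹ := fun y => by group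
    rcases hcases x hx with rfl | rfl | rfl | rfl <;> rw [e]
    · rw [show h * (b⁻¹ * 1 * b) * h⁻¹ = 1 by group]; exact one_mem _
    · rw [hbv, h1]; exact hjE
    · exact h2
    · rw [show h * (b⁻¹ * (v * w) * b) * h⁻¹ = (h * (b⁻¹ * v * b) * h⁻¹) * (h * (b⁻¹ * w * b) * h⁻¹) by group,
        hbv, h1]
      exact mul_mem hjE h2
  rcases D.S8_cases F (hbS w hw) with e | e | e | e
  · exact absurd (show w = 1 by
      calc w = b * (b⁻¹ * w * b) * b⁻¹ := by group
        _ = 1 := by rw [e]; group) hw1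
  · exact absurd (show w = v by
      calc w = b * (b⁻¹ * w * b) * b⁻¹ := by group
        _ = b * (b⁻¹ * v * b) * b⁻¹ := by rw [e, hbv]
        _ = v := by group) hwv
  · obtain ⟨h, h1, h2⟩ := mv s e
    exact fin h h1 (h2 ▸ hIE)
  · have ej : D.jI * s = D.eI F ∨ D.jI * s = D.eK F ∨ D.jI * s = D.eI F * D.eK F := by
      rw [hs]
      rcases e with e | e | e <;> rw [e, ← mul_assoc, D.jI_sq, one_mul] <;> simp
    obtain ⟨h, h1, h2⟩ := mv _ ej
    refine fin h h1 ?_
    rw [show h * s * h⁻¹ = (h * D.jI * h⁻¹)⁻¹ * (h * (D.jI * s) * h⁻¹) by group, h1, h2]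
    exact mul_mem (inv_mem hjE) hIE

theorem normalizer_E4_le (F : D.Four) :
    Subgroup.normalizer (D.E4 F : Set Γ) ≤ Subgroup.normalizer (D.AP : Set Γ) := by
  haveI := D.finite
  intro g hg
  have key : ∀ h, h ∈ Subgroup.normalizer (D.E4 F : Set Γ) → ∀ a ∈ D.AP, h * a * h⁻¹ ∈ D.AP := by
    intro h hh a ha
    obtain ⟨h1, h2, h3⟩ := (D.mem_AP_iff F).1 ha
    have hc : ∀ t ∈ D.E4 F, Commute t a := by
      intro t ht
      rcases D.E4_cases F ht with rfl | rfl | rfl | rfl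
      exacts [Commute.one_left _, h1, h2, h1.mul_left h2]
    have hpre : ∀ t ∈ D.E4 F, Commute t (h * a * h⁻¹) := by
      intro t ht
      have h' := (Commute.conj_iff h).2 (hc _ ((Subgroup.mem_normalizer_iff.1 (inv_mem hh) t).1 ht))
      rwa [show h * (h⁻¹ * t * h⁻¹⁻¹) * h⁻¹ = t by group] at h'
    exact (D.mem_AP_iff F).2 ⟨hpre _ (Subgroup.mem_sup_left (Subgroup.mem_zpowers _)),
      hpre _ (Subgroup.mem_sup_right (Subgroup.mem_zpowers _)), by rw [conj_pow, h3]; group⟩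
  haveI : Finite (D.AP : Set Γ) := (Set.toFinite _).to_subtype
  exact Subgroup.mem_normalizer_fintype (key g hg)

theorem local_of_elementary (R : Reg D) {S P : Subgroup Γ} (hSP : S ≤ Subgroup.normalizer (P : Set Γ))
    {p : ℕ} (hp : p.Prime) (hPne : P ≠ ⊥) (hPp : ∀ x ∈ P, x ^ p = 1) (h2 : p = 2 → 4 ≤ Nat.card P) :
    D.Local S := by
  classical
  haveI := D.finite
  haveI := Fact.mk hp
  have hpg : IsPGroup p P := fun x => ⟨1, by rw [pow_one]; exact Subtype.ext (hPp x x.2)⟩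
  obtain ⟨T, hT⟩ := hpg.exists_le_sylow
  by_cases hp3 : p = 3
  · subst hp3
    obtain ⟨a, rfl⟩ := MulAction.exists_smul_eq Γ D.sylow T
    have hU : ∀ x ∈ P, a⁻¹ * x * a ∈ D.UG := by
      intro x hx
      have h := hT hx
      rw [Sylow.coe_subgroup_smul, Subgroup.mem_pointwise_smul_iff_inv_smul_mem] at h
      simp only [MulAut.smul_def, MulAut.conj_inv_apply] at h
      exact h
    refine ⟨_, fun s hs => ?_, Or.inr (Or.inl ⟨a • D.sylow, rfl⟩)⟩
    rw [show ((a • D.sylow : Sylow 3 Γ) : Subgroup Γ) = D.UG.map (MulAut.conj a).toMonoidHom from rfl,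
      ← Subgroup.map_equiv_normalizer_eq D.UG (MulAut.conj a), Subgroup.mem_map_equiv, MulAut.conj_symm_apply,
      D.normalizer_UG]
    obtain ⟨⟨x, hx⟩, hx1⟩ := (nontrivial_iff_exists_ne (1 : P)).1 ((Subgroup.nontrivial_iff_ne_bot _).2 hPne)
    by_contra hB
    have h1 := hU x hx
    have h2' := hU _ ((Subgroup.mem_normalizer_iff.1 (hSP hs) x).1 hx)
    have h0 := D.UG_ti hB (x := a⁻¹ * (s * x * s⁻¹) * a) h2'
      (by rw [show (a⁻¹ * s * a)⁻¹ * (a⁻¹ * (s * x * s⁻¹) * a) * (a⁻¹ * s * a) = a⁻¹ * x * a by group]; exact h1)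
    exact hx1 (Subtype.ext (by
      show x = 1
      calc x = s⁻¹ * a * (a⁻¹ * (s * x * s⁻¹) * a) * a⁻¹ * s := by group
        _ = 1 := by rw [h0]; group))
  by_cases hp2 : p = 2
  · subst hp2
    have hT8 : Nat.card T = 8 := (D.sylow_two T).1
    have hd : Nat.card P ∣ 2 ^ 3 := (Subgroup.card_dvd_of_le hT).trans (dvd_of_eq hT8)
    obtain ⟨i, hi, hiP⟩ := (Nat.dvd_prime_pow Nat.prime_two).1 hd
    have h4 := h2 rfl
    rcases (show i = 2 ∨ i = 3 by
      interval_cases i <;> simp [hiP] at h4 ⊢) with rfl | rfl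
    · obtain ⟨F⟩ := D.nonempty_four
      obtain ⟨a, ha⟩ := D.four_conj R F (by simpa using hiP) fun x hx => by rw [← pow_two]; exact hPp x hx
      have e : P.map (MulAut.conj a⁻¹).toMonoidHom = D.E4 F := by
        refine Subgroup.eq_of_le_of_card_ge ?_ ?_
        · rintro _ ⟨x, hx, rfl⟩
          simpa using ha x hx
        · rw [Nat.card_congr (Subgroup.equivMapOfInjective P _ (MulAut.conj a⁻¹).injective).toEquiv.symm, hiP, D.card_E4]
          norm_num
      refine ⟨D.AP.map (MulAut.conj a).toMonoidHom, fun s hs => ?_, Or.inr (Or.inr ⟨?_, Or.inr (Or.inl ?_)⟩)⟩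
      · rw [← Subgroup.map_equiv_normalizer_eq D.AP (MulAut.conj a), Subgroup.mem_map_equiv, MulAut.conj_symm_apply]
        refine D.normalizer_E4_le F ?_
        rw [← e, ← Subgroup.map_equiv_normalizer_eq P (MulAut.conj a⁻¹), Subgroup.mem_map_equiv,
          MulAut.conj_symm_apply]
        rw [show a⁻¹⁻¹ * (a⁻¹ * s * a) * a⁻¹ = s by group]
        exact hSP hs
      · exact (MulEquiv.isCyclic (Subgroup.equivMapOfInjective D.AP _ (MulAut.conj a).injective)).1 D.isCyclic_AP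
      · rw [Nat.card_congr (Subgroup.equivMapOfInjective D.AP _ (MulAut.conj a).injective).toEquiv.symm, D.card_AP]
    · have e : P = (T : Subgroup Γ) := Subgroup.eq_of_le_of_card_ge hT (by rw [hiP]; exact hT8.le.trans (by norm_num))
      exact ⟨T, e ▸ hSP, Or.inl ⟨T, rfl⟩⟩
  have hp5 : 3 < p := by have := hp.two_le; omega
  obtain ⟨ρ, hρ⟩ := R.hρ
  haveI := D.sylow_cyclic ρ hρ hp5 T
  haveI : IsCyclic P := isCyclic_of_injective (Subgroup.inclusion hT) (Subgroup.inclusion_injective _)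
  have hcard : Nat.card P ∣ p := by
    rw [← IsCyclic.exponent_eq_card]
    exact Monoid.exponent_dvd_of_forall_pow_eq_one fun x => Subtype.ext (hPp x x.2)
  have main : ∀ (T' : Subgroup Γ) (k : ℕ), D.IsTorus T' k → p ∣ k →
      (k = (Fintype.card K - 1) / 2 ∨ k = (Fintype.card K + 1) / 4 ∨
        k = Fintype.card K - 3 ^ (m + 1) + 1 ∨ k = Fintype.card K + 3 ^ (m + 1) + 1) → D.Local S := by
    intro T' k hT' hpk hk
    obtain ⟨a, ha⟩ := hT'.conj_cyclic D inferInstance (hcard.trans hpk)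
    have hne : P.map (MulAut.conj a⁻¹).toMonoidHom ≠ ⊥ := by
      rw [ne_eq, Subgroup.map_eq_bot_iff_of_injective _ (MulAut.conj a⁻¹).injective]; exact hPne
    refine ⟨T'.map (MulAut.conj a).toMonoidHom, fun s hs => ?_, Or.inr (Or.inr ⟨?_, ?_⟩)⟩
    · rw [← Subgroup.map_equiv_normalizer_eq T' (MulAut.conj a), Subgroup.mem_map_equiv, MulAut.conj_symm_apply,
        ← hT'.norm _ ha hne, ← Subgroup.map_equiv_normalizer_eq P (MulAut.conj a⁻¹), Subgroup.mem_map_equiv,
        MulAut.conj_symm_apply, show a⁻¹⁻¹ * (a⁻¹ * s * a) * a⁻¹ = s by group]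
      exact hSP hs
    · exact (MulEquiv.isCyclic (Subgroup.equivMapOfInjective T' _ (MulAut.conj a).injective)).1 hT'.cyclic
    · rw [Nat.card_congr (Subgroup.equivMapOfInjective T' _ (MulAut.conj a).injective).toEquiv.symm, hT'.card]
      exact hk
  obtain ⟨⟨x, hx⟩, hx1⟩ := (nontrivial_iff_exists_ne (1 : P)).1 ((Subgroup.nontrivial_iff_ne_bot _).2 hPne)
  have hpΓ : p ∣ Nat.card Γ := by
    rw [← orderOf_eq_prime (hPp x hx) fun e => hx1 (Subtype.ext e)]
    exact orderOf_dvd_natCard x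
  rw [D.card_eq_phi] at hpΓ
  have hhalf : ∀ n : ℕ, p ∣ 2 * n → p ∣ n := fun n h =>
    (hp.dvd_mul.1 h).resolve_left fun e => hp2 ((Nat.prime_dvd_prime_iff_eq hp Nat.prime_two).1 e)
  rcases hp.dvd_mul.1 hpΓ with h | h
  · rcases hp.dvd_mul.1 h with h | h
    · rcases hp.dvd_mul.1 h with h | h
      · rw [D.card_eq] at h
        exact absurd ((Nat.prime_dvd_prime_iff_eq hp Nat.prime_three).1 (hp.dvd_of_dvd_pow (hp.dvd_of_dvd_pow h))) hp3
      · refine main _ _ (D.isTorus_oddTorus R) (hhalf _ ?_) (Or.inl rfl)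
        have := D.q_mod_eight
        rwa [show 2 * ((Fintype.card K - 1) / 2) = Fintype.card K - 1 by omega]
    · refine main _ _ (D.isTorus_AP R) (hhalf _ (hhalf _ ?_)) (Or.inr (Or.inl rfl))
      rw [← mul_assoc]
      exact D.four_kp.symm ▸ h
  · obtain ⟨A, B, hA, hB, cA, cB, -, -, hAB⟩ := D.exists_two_tori R
    rw [← hAB] at h
    rcases hp.dvd_mul.1 h with h | h
    exacts [main _ _ (hA.isTorus D R) h (Or.inr (Or.inr (Or.inl cA))),
      main _ _ (hB.isTorus D R) h (Or.inr (Or.inr (Or.inr cB)))]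

theorem local_of_solvable (R : Reg D) (S : Subgroup Γ) (hS : Group.IsSolvable S) : D.Local S := by
  classical
  haveI := D.finite
  haveI := Fact.mk Nat.prime_two
  obtain ⟨T₀⟩ : Nonempty (Sylow 2 Γ) := inferInstance
  by_cases hbot : S = ⊥
  · exact ⟨T₀, hbot ▸ bot_le, Or.inl ⟨T₀, rfl⟩⟩
  haveI : Nontrivial S := (Subgroup.nontrivial_iff_ne_bot _).2 hbot
  have lift : ∀ (p : ℕ) (P : Subgroup S), p.Prime → P.Normal → P ≠ ⊥ → (∀ x ∈ P, x ^ p = 1) →
      (p = 2 → 4 ≤ Nat.card P) → D.Local S := by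
    intro p P hp hPn hne hpp h4
    refine D.local_of_elementary R (P := P.map S.subtype) (fun s hs => ?_) hp ?_ ?_ ?_
    · haveI : Finite ((P.map S.subtype : Subgroup Γ) : Set Γ) := (Set.toFinite _).to_subtype
      refine Subgroup.mem_normalizer_fintype ?_
      rintro _ ⟨x, hx, rfl⟩
      exact ⟨⟨s, hs⟩ * x * ⟨s, hs⟩⁻¹, hPn.conj_mem x hx _, rfl⟩
    · rw [ne_eq, Subgroup.map_eq_bot_iff_of_injective _ (Subgroup.subtype_injective _)]; exact hne
    · rintro _ ⟨x, hx, rfl⟩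
      rw [← map_pow, hpp x hx, map_one]
    · intro e
      rw [Nat.card_congr (Subgroup.equivMapOfInjective P _ (Subgroup.subtype_injective _)).toEquiv.symm]
      exact h4 e
  obtain ⟨p, P, hp, hPn, hne, hpp, hPc⟩ := exists_elementary hS
  by_cases hgood : p = 2 → 4 ≤ Nat.card P
  · exact lift p P hp hPn hne hpp hgood
  push_neg at hgood
  obtain ⟨rfl, hlt⟩ := hgood
  haveI := hPn
  have hP2 : Nat.card P = 2 := by
    obtain ⟨n, hn⟩ := IsPGroup.iff_card.1 (show IsPGroup 2 P from fun x => ⟨1, by rw [pow_one]; exact Subtype.ext (hpp x x.2)⟩)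
    have := P.one_lt_card_iff_ne_bot.2 hne
    rw [hn] at hlt this ⊢
    rcases n with _ | _ | n
    · norm_num at this
    · rfl
    · have : 2 ^ 2 ≤ 2 ^ (n + 1 + 1) := Nat.pow_le_pow_right two_pos (by omega)
      omega
  have hsq : ∀ x : S, ∀ a : ℕ, orderOf x = 2 ^ a → x * x = 1 := by
    intro x a ha
    obtain ⟨T, hT⟩ := (IsPGroup.of_card (G := Subgroup.zpowers (x : Γ)) (p := 2) (n := a)
      (by rw [Nat.card_zpowers, Subgroup.orderOf_coe, ha])).exists_le_sylow
    exact Subtype.ext ((D.sylow_two T).2 _ (hT (Subgroup.mem_zpowers _)))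
  by_cases htop : P = ⊤
  · obtain ⟨T, hT⟩ := (IsPGroup.of_card (G := S) (p := 2) (n := 1) (by
      rw [← Subgroup.card_top, ← htop, hP2, pow_one])).exists_le_sylow
    exact ⟨T, hT.trans Subgroup.le_normalizer, Or.inl ⟨T, rfl⟩⟩
  obtain ⟨q, Q, hq, hQn, hQne, hQp, -, hQ4⟩ := exists_lift hS P (fun z hz g => by
      by_cases hz1 : z = 1
      · rw [hz1]; exact Commute.one_left _
      have h := hPn.conj_mem z hz g
      have h2 : g * z * g⁻¹ = z := by
        by_contra hcon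
        have hle : ({⟨1, one_mem _⟩, ⟨z, hz⟩, ⟨g * z * g⁻¹, h⟩} : Finset P).card ≤ 2 := by
          haveI := Fintype.ofFinite P
          exact (Finset.card_le_univ _).trans (by rw [← Nat.card_eq_fintype_card, hP2])
        simp [Finset.card_insert_of_notMem, Ne.symm hz1, Ne.symm hcon,
          show (1 : S) ≠ g * z * g⁻¹ from fun e => hz1 (conj_eq_one_iff.1 e.symm)] at hle
      exact (mul_inv_eq_iff_eq_mul.1 h2).symm)
    (fun z hz => by rw [← pow_two]; exact hpp z hz) htop hne hsq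
  exact lift q Q hq hQn hQne hQp hQ4

end Dat

end Cfsg.Agent.Ree
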