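import Cfsg.Agent.Lib.Ree.Tori
import Cfsg.Agent.Lib.Ree.Bridge
import Cfsg.Agent.Lib.Ree.Perfect

/-!
The four families of tori of a small Ree group, their element orders, centralisers and element counts.
-/

set_option autoImplicit false
set_option linter.unusedSectionVars false

namespace Cfsg.Agent.Ree

open scoped MatrixGroups
open Cfsg.Agent

universe u v

/-- A power of an element has any order dividing its order. -/
theorem exists_orderOf_of_dvd {G : Type*} [Monoid G] {g : G} {n d : ℕ} (hg : orderOf g = n) (hn : 0 < n)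
    (hd : d ∣ n) : ∃ h : G, orderOf h = d := by
  refine ⟨g ^ (n / d), ?_⟩
  rw [orderOf_pow_of_dvd (Nat.div_pos (Nat.le_of_dvd hn hd) (Nat.pos_of_dvd_of_pos hd hn)).ne'
    (by rw [hg]; exact Nat.div_dvd_of_dvd hd), hg, Nat.div_div_self hd hn.ne']

/-- The subgroup generated by a conjugate. -/
theorem zpowers_conj {G : Type*} [Group G] (g x : G) :
    (Subgroup.zpowers x).map (MulAut.conj g).toMonoidHom = Subgroup.zpowers (g * x * g⁻¹) :=
  MonoidHom.map_zpowers _ _

variable {K : Type u} [Field K] [Fintype K] {Γ : Type v} [Group Γ] {m : ℕ} (D : Dat K Γ m)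

namespace Dat

/-- A cyclic torus of order `k` with all its non-trivial subgroups sharing its normaliser. -/
structure IsTorus (D : Dat K Γ m) (T : Subgroup Γ) (k : ℕ) : Prop where
  cyclic : IsCyclic T
  card : Nat.card T = k
  conj : ∀ g : Γ, g ≠ 1 → orderOf g ∣ k → ∃ a, a⁻¹ * g * a ∈ T
  norm : ∀ A₀ : Subgroup Γ, A₀ ≤ T → A₀ ≠ ⊥ → Subgroup.normalizer (A₀ : Set Γ) = Subgroup.normalizer (T : Set Γ)

include D

theorem isTorus_oddTorus (R : Reg D) : D.IsTorus D.oddTorus ((Fintype.card K - 1) / 2) := by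
  classical
  haveI := D.finite
  have hc := D.card_oddTorus
  refine ⟨D.isCyclic_oddTorus, by omega, fun g hg hgk => ?_,
    fun A₀ h1 h2 => (D.card_normalizer_oddTorus h1 h2).2⟩
  obtain ⟨k, hk, hq⟩ := D.exists_odd_half
  have hk' : (Fintype.card K - 1) / 2 = k := by omega
  rw [hk'] at hgk
  obtain ⟨p, hp, hpg⟩ := Nat.exists_prime_and_dvd (show orderOf g ≠ 1 from fun h => hg (orderOf_eq_one_iff.1 h))
  haveI := Fact.mk hp
  have hpk : p ∣ k := hpg.trans hgk
  have hp2 : p ≠ 2 := fun e => by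
    rw [e] at hpk
    have := Nat.odd_iff.1 hk
    omega
  have hpq : p ∣ Fintype.card K - 1 := hpk.trans ⟨2, by omega⟩
  obtain ⟨a, z, hz, h1, h2⟩ := D.exists_conj_H hp2 hpq (orderOf_pow_orderOf_div (orderOf_pos g).ne' hpg)
  have hmem : a⁻¹ * g * a ∈ D.H.range := by
    rw [← D.centralizer_H h1 h2, Subgroup.mem_centralizer_singleton_iff, ← hz]
    exact (commute_conj (Commute.self_pow g _)).eq
  obtain ⟨z', hz'⟩ := hmem
  have hzk : z' ^ k = 1 := D.H_inj (by
    rw [map_pow, hz', map_one]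
    exact orderOf_dvd_iff_pow_eq_one.1 (by rw [orderOf_conj]; exact hgk))
  obtain ⟨i, hi⟩ := hk
  refine ⟨a, z', ⟨z' ^ (i + 1), ?_⟩, hz'⟩
  show (z' ^ (i + 1)) ^ 2 = z'
  rw [← pow_mul, show (i + 1) * 2 = k + 1 by omega, pow_succ, hzk, one_mul]

theorem isTorus_AP (R : Reg D) : D.IsTorus D.AP ((Fintype.card K + 1) / 4) := by
  haveI := D.finite
  obtain ⟨ρ, hρ⟩ := R.hρ
  refine ⟨D.isCyclic_AP, D.card_AP, fun g hg hgk => ?_,
    fun A₀ h1 h2 => D.normalizer_AP_sub R.hm R.hperf ρ hρ h1 h2⟩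
  obtain ⟨p, hp, hpg⟩ := Nat.exists_prime_and_dvd (show orderOf g ≠ 1 from fun h => hg (orderOf_eq_one_iff.1 h))
  haveI := Fact.mk hp
  have hpk : p ∣ D.kp := hpg.trans hgk
  obtain ⟨h3, -, -⟩ := D.prime_kp hp hpk
  obtain ⟨a, ha, ha1⟩ := D.exists_conj_AP (by omega) (hpk.trans ⟨4, by rw [← D.four_kp]; ring⟩)
    (orderOf_pow_orderOf_div (orderOf_pos g).ne' hpg)
  refine ⟨a, ?_, ?_⟩
  · rw [← D.centralizer_AP' R ha ha1, Subgroup.mem_centralizer_singleton_iff]
    exact (commute_conj (Commute.self_pow g _)).eq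
  · exact orderOf_dvd_iff_pow_eq_one.1 (by rw [orderOf_conj]; exact hgk)

theorem PhiTorus.isTorus {A : Subgroup Γ} (R : Reg D) (hA : D.PhiTorus A) : D.IsTorus A (Nat.card A) := by
  haveI := D.finite
  haveI := hA.cyclic
  refine ⟨hA.cyclic, rfl, fun g hg hgk => ?_, fun A₀ h1 h2 => ?_⟩
  · obtain ⟨p, hp, hpg⟩ := Nat.exists_prime_and_dvd (show orderOf g ≠ 1 from fun h => hg (orderOf_eq_one_iff.1 h))
    obtain ⟨a, x, ⟨hx, -⟩, rfl⟩ := hA.mem_conj D R hp (hpg.trans hgk) hpg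
    exact ⟨a, by rw [show a⁻¹ * (a * x * a⁻¹) * a = x by group]; exact hx⟩
  · refine le_antisymm (fun g hg => ?_) (normalizer_le_of_cyclic h1)
    obtain ⟨⟨x, hx⟩, hx1⟩ := (nontrivial_iff_exists_ne (1 : A₀)).1 ((Subgroup.nontrivial_iff_ne_bot _).2 h2)
    exact hA.conj_mem D (h1 hx) (fun e => hx1 (Subtype.ext e)) (h1 ((Subgroup.mem_normalizer_iff.1 hg x).1 hx))

theorem IsTorus.conj_cyclic {T : Subgroup Γ} {k : ℕ} (hT : D.IsTorus T k) {A : Subgroup Γ} (hA : IsCyclic A)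
    (hd : Nat.card A ∣ k) : ∃ a : Γ, A.map (MulAut.conj a⁻¹).toMonoidHom ≤ T := by
  haveI := D.finite
  obtain ⟨⟨c, hc⟩, hgen⟩ := IsCyclic.exists_generator (α := A)
  have hA' : Subgroup.zpowers c = A := by
    refine le_antisymm (Subgroup.zpowers_le.2 hc) fun x hx => ?_
    obtain ⟨i, hi⟩ := Subgroup.mem_zpowers_iff.1 (hgen ⟨x, hx⟩)
    exact Subgroup.mem_zpowers_iff.2 ⟨i, congrArg Subtype.val hi⟩
  by_cases hc1 : c = 1
  · refine ⟨1, ?_⟩
    rw [← hA', hc1, zpowers_conj]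
    simp
  obtain ⟨a, ha⟩ := hT.conj c hc1 (by rw [← Nat.card_zpowers, hA']; exact hd)
  refine ⟨a, ?_⟩
  rw [← hA', zpowers_conj, inv_inv]
  exact Subgroup.zpowers_le.2 ha

theorem IsTorus.cyclic_conjugate {T : Subgroup Γ} {k : ℕ} (hT : D.IsTorus T k) {A B : Subgroup Γ}
    (hA : IsCyclic A) (hB : IsCyclic B) (hd : Nat.card A ∣ k) (hAB : Nat.card A = Nat.card B) :
    ∃ g : Γ, B = A.map (MulAut.conj g).toMonoidHom := by
  haveI := D.finite
  haveI := hT.cyclic
  obtain ⟨a, ha⟩ := hT.conj_cyclic D hA hd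
  obtain ⟨b, hb⟩ := hT.conj_cyclic D hB (hAB ▸ hd)
  have e := eq_of_card_cyclic ha hb (by
    rw [Nat.card_congr (Subgroup.equivMapOfInjective A _ (MulAut.conj a⁻¹).injective).toEquiv.symm,
      Nat.card_congr (Subgroup.equivMapOfInjective B _ (MulAut.conj b⁻¹).injective).toEquiv.symm, hAB])
  refine ⟨b * a⁻¹, ?_⟩
  have h := congrArg (fun S : Subgroup Γ => S.map (MulAut.conj b).toMonoidHom) e
  simp only [Subgroup.map_map] at h
  have hcomp : ∀ x y : Γ, ((MulAut.conj x).toMonoidHom.comp (MulAut.conj y).toMonoidHom) =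
      (MulAut.conj (x * y)).toMonoidHom := fun x y => MonoidHom.ext fun z => by simp [mul_assoc]
  rw [hcomp, hcomp, mul_inv_cancel, map_one] at h
  exact (h.trans (Subgroup.map_id B)).symm

theorem IsTorus.count {T : Subgroup Γ} {k : ℕ} (hT : D.IsTorus T k) {i : ℕ} (hi : 1 < i) (hik : i ∣ k) :
    Nat.card {g : Γ // orderOf g = i} * Nat.card (Subgroup.normalizer (T : Set Γ)) =
      Nat.card Γ * Nat.totient i := by
  classical
  haveI := D.finite
  haveI := hT.cyclic
  haveI := Fintype.ofFinite T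
  have hconj : ∀ a x : Γ, orderOf (a * x * a⁻¹) = orderOf x := fun a x => by
    rw [← MulAut.conj_apply, MulEquiv.orderOf_eq]
  have e : conjSet {x : Γ | x ∈ T ∧ orderOf x = i} = {g : Γ | orderOf g = i} := by
    ext g
    constructor
    · rintro ⟨a, x, ⟨-, hx⟩, rfl⟩
      show orderOf (a * x * a⁻¹) = i
      rw [hconj, hx]
    · intro hg
      have hg' : orderOf g = i := hg
      obtain ⟨a, ha⟩ := hT.conj g (fun e => by rw [e, orderOf_one] at hg'; omega) (hg'.symm ▸ hik)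
      exact ⟨a, a⁻¹ * g * a, ⟨ha, by rw [orderOf_conj, hg']⟩, by group⟩
  have h := card_conjSet {x : Γ | x ∈ T ∧ orderOf x = i} (Subgroup.normalizer (T : Set Γ)) ?_ ?_
  · rw [e] at h
    refine h.trans (congrArg (Nat.card Γ * ·) ?_)
    rw [← IsCyclic.card_orderOf_eq_totient (α := T) (d := i) (by rwa [← Nat.card_eq_fintype_card, hT.card]),
      ← Fintype.card_subtype, ← Nat.card_eq_fintype_card]
    exact Nat.card_congr
      { toFun := fun x => ⟨⟨x.1, x.2.1⟩, by rw [← Subgroup.orderOf_coe]; exact x.2.2⟩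
        invFun := fun x => ⟨x.1.1, x.1.2, by rw [Subgroup.orderOf_coe]; exact x.2⟩
        left_inv := fun x => rfl
        right_inv := fun x => rfl }
  · rintro n hn x ⟨hx, hxi⟩
    exact ⟨(Subgroup.mem_normalizer_iff.1 hn x).1 hx, by rw [hconj, hxi]⟩
  · rintro g x ⟨hx, hxi⟩ ⟨hx', -⟩
    have hne : Subgroup.zpowers x ≠ ⊥ := by
      rw [ne_eq, Subgroup.zpowers_eq_bot]
      intro e; rw [e, orderOf_one] at hxi; omega
    have heq : Subgroup.zpowers (g * x * g⁻¹) = Subgroup.zpowers x :=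
      eq_of_card_cyclic (C := T) (Subgroup.zpowers_le.2 hx') (Subgroup.zpowers_le.2 hx)
        (by rw [Nat.card_zpowers, Nat.card_zpowers, hconj])
    rw [← hT.norm _ (Subgroup.zpowers_le.2 hx) hne]
    haveI : Finite (Subgroup.zpowers x : Set Γ) := (Set.toFinite _).to_subtype
    refine Subgroup.mem_normalizer_fintype fun y hy => ?_
    obtain ⟨j, rfl⟩ := Subgroup.mem_zpowers_iff.1 hy
    rw [← conj_zpow, ← heq]
    exact Subgroup.zpow_mem _ (Subgroup.mem_zpowers _) j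

theorem count_split (R : Reg D) {i : ℕ} (hi : 2 < i) (hiq : i ∣ Fintype.card K - 1) :
    Nat.card {g : Γ // orderOf g = i} * (2 * (Fintype.card K - 1)) = Nat.card Γ * Nat.totient i := by
  classical
  haveI := D.finite
  have hconj : ∀ a x : Γ, orderOf (a * x * a⁻¹) = orderOf x := fun a x => by
    rw [← MulAut.conj_apply, MulEquiv.orderOf_eq]
  set X : Set Γ := {x | x ∈ D.H.range ∧ orderOf x = i} with hX
  have e : conjSet X = {g : Γ | orderOf g = i} := by
    ext g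
    constructor
    · rintro ⟨a, x, ⟨-, hx⟩, rfl⟩
      show orderOf (a * x * a⁻¹) = i
      rw [hconj, hx]
    · intro hg
      have hg' : orderOf g = i := hg
      obtain ⟨p, hp, hp2, hpi⟩ : ∃ p, p.Prime ∧ p ≠ 2 ∧ p ∣ i := by
        obtain ⟨k, hk, hq⟩ := D.exists_odd_half
        by_contra hcon
        push_neg at hcon
        have he := Nat.eq_prime_pow_of_unique_prime_dvd (show i ≠ 0 by omega)
          fun {d} hd hdd => (by by_contra h; exact hcon d hd h hdd : d = 2)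
        have h4 : 2 ^ 2 ∣ i := by
          rw [he]
          refine pow_dvd_pow 2 ?_
          by_contra hlt
          interval_cases h : i.primeFactorsList.length <;> omega
        have := h4.trans hiq
        rw [hq, Nat.add_sub_cancel] at this
        have := Nat.odd_iff.1 hk
        omega
      haveI := Fact.mk hp
      obtain ⟨a, z, hz, h1, h2⟩ := D.exists_conj_H hp2 (hpi.trans hiq)
        (orderOf_pow_orderOf_div (orderOf_pos g).ne' (hg'.symm ▸ hpi))
      refine ⟨a, a⁻¹ * g * a, ⟨?_, by rw [orderOf_conj, hg']⟩, by group⟩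
      rw [← D.centralizer_H h1 h2, Subgroup.mem_centralizer_singleton_iff, ← hz]
      exact (commute_conj (Commute.self_pow g _)).eq
  have hsub : X ⊆ D.XH := by
    rintro _ ⟨⟨z, rfl⟩, hz⟩
    refine ⟨z, rfl, fun e => ?_, fun e => ?_⟩
    · rw [show z = 1 from Units.ext e, map_one, orderOf_one] at hz; omega
    · have h : orderOf (D.H z) ∣ 2 := orderOf_dvd_of_pow_eq_one (by
        rw [show z = -1 from Units.ext e, pow_two, D.jI_sq])
      rw [hz] at h
      have := Nat.le_of_dvd two_pos h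
      omega
  have h := card_conjSet X (Subgroup.normalizer (D.oddTorus : Set Γ)) ?_ ?_
  · rw [e, (D.card_normalizer_oddTorus le_rfl (D.oddTorus_ne_bot R.hm)).1] at h
    refine h.trans (congrArg (Nat.card Γ * ·) ?_)
    rw [← IsCyclic.card_orderOf_eq_totient (α := Kˣ) (d := i) (by rwa [Fintype.card_units]),
      ← Fintype.card_subtype, ← Nat.card_eq_fintype_card]
    refine (Nat.card_eq_of_bijective
      (fun z : {z : Kˣ // orderOf z = i} => (⟨D.H z.1, ⟨z.1, rfl⟩, by rw [orderOf_injective D.H D.H_inj]; exact z.2⟩ : X))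
      ⟨fun a b h => Subtype.ext (D.H_inj (congrArg Subtype.val h)), ?_⟩).symm
    rintro ⟨_, ⟨z, rfl⟩, hz⟩
    exact ⟨⟨z, by rwa [orderOf_injective D.H D.H_inj] at hz⟩, rfl⟩
  · rintro n hn x ⟨⟨z, rfl⟩, hxi⟩
    exact ⟨D.normalizer_oddTorus_cases R.hm hn z, by rw [hconj, hxi]⟩
  · rintro g x hx hgx
    obtain ⟨z, rfl, h1, h2⟩ := hsub hx
    obtain ⟨z', hz'⟩ := hgx.1
    haveI : Finite (D.oddTorus : Set Γ) := (Set.toFinite _).to_subtype
    refine Subgroup.mem_normalizer_fintype fun y hy => ?_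
    obtain ⟨c, hc, rfl⟩ := hy
    rcases D.conj_H h1 h2 (show g * D.H z = D.H z' * g by rw [hz']; group) with ⟨y, rfl, -⟩ | ⟨y, rfl, -⟩
    · refine ⟨c, hc, ?_⟩
      rw [← map_mul, ← map_inv, ← map_mul, mul_comm y c, mul_inv_cancel_right]
    · refine ⟨c⁻¹, inv_mem hc, ?_⟩
      rw [show D.H y * D.w * D.H c * (D.H y * D.w)⁻¹ = D.H y * (D.w * D.H c * D.w⁻¹) * (D.H y)⁻¹ by group,
        D.w_conj, map_inv, ← map_inv, ← map_inv, ← map_mul, ← map_mul, mul_comm y c⁻¹, mul_inv_cancel_right]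

theorem count_double (R : Reg D) {i : ℕ} (hi : 1 < i) (hik : i ∣ (Fintype.card K + 1) / 4) :
    Nat.card {g : Γ // orderOf g = 2 * i} * (6 * (Fintype.card K + 1)) = Nat.card Γ * (3 * Nat.totient i) := by
  classical
  haveI := D.finite
  haveI := D.isCyclic_AP
  haveI := Fintype.ofFinite D.AP
  obtain ⟨F⟩ := D.nonempty_four
  have hconj : ∀ a x : Γ, orderOf (a * x * a⁻¹) = orderOf x := fun a x => by
    rw [← MulAut.conj_apply, MulEquiv.orderOf_eq]
  have hiodd : Odd i := Odd.of_dvd_nat D.kp_odd hik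
  set X : Set Γ := {x | x ∈ D.C0 ∧ orderOf x = 2 * i} with hX
  have hsq : ∀ x ∈ X, x * x ∈ D.AP ∧ x * x ≠ 1 := by
    rintro x ⟨hx, hxo⟩
    refine ⟨D.sq_mem_AP hx, fun e => ?_⟩
    have hd : orderOf x ∣ 2 := orderOf_dvd_of_pow_eq_one (by rw [pow_two, e])
    rw [hxo] at hd
    have := Nat.le_of_dvd two_pos hd
    omega
  have e : conjSet X = {g : Γ | orderOf g = 2 * i} := by
    ext g
    constructor
    · rintro ⟨a, x, ⟨-, hx⟩, rfl⟩
      show orderOf (a * x * a⁻¹) = 2 * i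
      rw [hconj, hx]
    · intro hg
      have hg' : orderOf g = 2 * i := hg
      have ho : orderOf (g ^ 2) = i := by
        rw [orderOf_pow_of_dvd two_ne_zero (hg' ▸ dvd_mul_right 2 i), hg']; omega
      have hg1 : g ^ 2 ≠ 1 := fun e => by rw [e, orderOf_one] at ho; omega
      obtain ⟨a, ha⟩ := (D.isTorus_AP R).conj (g ^ 2) hg1 (ho.symm ▸ hik)
      refine ⟨a, a⁻¹ * g * a, ⟨?_, by rw [orderOf_conj, hg']⟩, by group⟩
      rw [← D.centralizer_AP' R ha (fun e => hg1 (by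
        calc g ^ 2 = a * (a⁻¹ * g ^ 2 * a) * a⁻¹ := by group
          _ = 1 := by rw [e]; group)), Subgroup.mem_centralizer_singleton_iff]
      exact (commute_conj (Commute.self_pow g 2)).eq
  have hN := (D.normalizer_AP' R)
  have h := card_conjSet X (Subgroup.normalizer (D.AP : Set Γ)) ?_ ?_
  · rw [e, hN.1] at h
    refine h.trans (congrArg (Nat.card Γ * ·) ?_)
    have hE : Nat.card {x : Γ // x ∈ D.E4 F ∧ x ≠ 1} = 3 := by
      have : ({x | x ∈ D.E4 F ∧ x ≠ 1} : Set Γ) = (D.E4 F : Set Γ) \ {1} := by ext; simp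
      show Nat.card ({x | x ∈ D.E4 F ∧ x ≠ 1} : Set Γ) = 3
      rw [this, Nat.card_coe_set_eq, Set.ncard_sdiff (by simpa using one_mem _), Set.ncard_singleton,
        ← Nat.card_coe_set_eq]
      exact congrArg (· - 1) (D.card_E4 F)
    rw [← IsCyclic.card_orderOf_eq_totient (α := D.AP) (d := i) (by rw [← Nat.card_eq_fintype_card, D.card_AP]; exact hik),
      ← Fintype.card_subtype, ← Nat.card_eq_fintype_card, ← hE, ← Nat.card_prod]
    have hord : ∀ (s : {x : Γ // x ∈ D.E4 F ∧ x ≠ 1}) (a : {a : D.AP // orderOf a = i}),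
        s.1 * (a.1 : Γ) ∈ X := by
      rintro ⟨s, hs, hs1⟩ ⟨⟨a, ha⟩, hao⟩
      rw [← Subgroup.orderOf_coe] at hao
      refine ⟨mul_mem (D.E4_le F hs) ha.1, ?_⟩
      have h2 : orderOf s = 2 := haveI := Fact.mk Nat.prime_two; orderOf_eq_prime (by rw [pow_two, D.E4_sq F hs]) hs1
      show orderOf (s * a) = 2 * i
      rw [(D.C0_comm (D.E4_le F hs) ha.1).orderOf_mul_eq_mul_orderOf_of_coprime
        (by rw [h2, hao]; exact Nat.coprime_two_left.2 hiodd), h2, hao]
    refine (Nat.card_eq_of_bijective (fun p : _ × _ => (⟨_, hord p.1 p.2⟩ : X)) ⟨?_, ?_⟩).symm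
    · rintro ⟨⟨s, hs, hs1⟩, ⟨⟨a, ha⟩, hao⟩⟩ ⟨⟨s', hs', hs1'⟩, ⟨⟨a', ha'⟩, hao'⟩⟩ heq
      have heq' : s * a = s' * a' := congrArg Subtype.val heq
      have hm1 : s'⁻¹ * s ∈ D.E4 F := mul_mem (inv_mem hs') hs
      have hm2 : s'⁻¹ * s = a' * a⁻¹ := by
        rw [eq_mul_inv_iff_mul_eq, mul_assoc, heq', inv_mul_cancel_left]
      have hk1 : (s'⁻¹ * s) ^ D.kp = 1 := by rw [hm2]; exact (mul_mem ha' (inv_mem ha)).2
      obtain ⟨j, hj⟩ := D.kp_odd
      rw [hj, pow_succ, pow_mul, pow_two, D.E4_sq F hm1, one_pow, one_mul] at hk1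
      obtain rfl : s = s' := (inv_mul_eq_one.1 hk1).symm
      obtain rfl : a = a' := mul_left_cancel heq'
      rfl
    · rintro ⟨x, hx, hxo⟩
      obtain ⟨j, hj⟩ := hiodd
      have hxi1 : x ^ i ≠ 1 := fun e => by
        have hd := orderOf_dvd_of_pow_eq_one e
        rw [hxo] at hd
        have := Nat.le_of_dvd (by omega) hd
        omega
      have hsq2 : x ^ i * x ^ i = 1 := by
        rw [← pow_add, show i + i = 2 * i by ring, ← hxo, pow_orderOf_eq_one]
      have hmem : x ^ i ∈ D.E4 F := by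
        rcases D.C0_sq F (pow_mem hx i) hsq2 with e | e | e | e
        · exact absurd e hxi1
        · rw [e]; exact Subgroup.mem_sup_left (Subgroup.mem_zpowers _)
        · rw [e]; exact Subgroup.mem_sup_right (Subgroup.mem_zpowers _)
        · rw [e]; exact mul_mem (Subgroup.mem_sup_left (Subgroup.mem_zpowers _)) (Subgroup.mem_sup_right (Subgroup.mem_zpowers _))
      have hy : orderOf (x ^ (i + 1)) = i := by
        rw [(orderOf_pos_iff.1 (by omega : 0 < orderOf x)).orderOf_pow, hxo]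
        have : Nat.gcd (2 * i) (i + 1) = 2 := by
          rw [show i + 1 = 2 * (j + 1) by omega, Nat.gcd_mul_left, (Nat.coprime_of_dvd fun p hp h1 h2 => hp.not_dvd_one
            (by
              have := Nat.dvd_sub (h2.mul_left 2) h1
              rwa [show 2 * (j + 1) - i = 1 by omega] at this) : Nat.Coprime i (j + 1)).gcd_eq_one, mul_one]
        rw [this, Nat.mul_div_cancel_left _ two_pos]
      have hmem2 : x ^ (i + 1) ∈ D.AP := ⟨pow_mem hx _, orderOf_dvd_iff_pow_eq_one.1 (hy.symm ▸ hik)⟩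
      refine ⟨(⟨x ^ i, hmem, hxi1⟩, ⟨⟨_, hmem2⟩, by rw [← Subgroup.orderOf_coe]; exact hy⟩), Subtype.ext ?_⟩
      show x ^ i * x ^ (i + 1) = x
      rw [pow_succ, ← mul_assoc, hsq2, one_mul]
  · rintro n hn x ⟨hx, hxo⟩
    rw [hN.2] at hn
    exact ⟨(Subgroup.mem_normalizer_iff.1 hn x).1 hx, by rw [hconj, hxo]⟩
  · rintro g x hx hgx
    refine D.mem_normalizer_AP' R (hsq x hx).1 (hsq x hx).2 ?_
    rw [show g * (x * x) * g⁻¹ = g * x * g⁻¹ * (g * x * g⁻¹) by group]
    exact (hsq _ hgx).1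

end Dat

/-- The data for the small Ree groups. -/
theorem exists_reg {K : Type*} [Field K] [Fintype K] {m : ℕ} (hm : 1 ≤ m)
    (hK : Fintype.card K = 3 ^ (2 * m + 1)) :
    ∃ D : Dat K ↥(Cfsg.Lie.twistedG2 K (3 ^ m)) m, Reg D := by
  obtain ⟨D, -, -, -⟩ := exists_dat hK
  exact ⟨D, hm, (perfect_and_simple hm hK).1, exists_seven hm hK⟩

end Cfsg.Agent.Ree
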