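import Cfsg.Agent.Lib.Ree.TorusPhi

/-!
The class sizes of a small Ree group and the orders `q ± r + 1` of the tori in `q² - q + 1`.
-/

set_option autoImplicit false
set_option linter.unusedSectionVars false

namespace Cfsg.Agent.Ree

open scoped MatrixGroups
open Cfsg.Agent

universe u v

theorem no_one_class {G s c q F : ℚ} (hG : 0 < G) (hq : 27 ≤ q) (hF : F = q ^ 2 - q + 1) (hc : c = 1 ∨ 2 ≤ c)
    (h1 : s * 6 = G * (c * (1 - 1 / F))) (h2 : s * (3 * F) = G * (q ^ 2 - 2 * q)) : False := by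
  have hF0 : F ≠ 0 := by rw [hF]; nlinarith
  have h1' : s * 6 * F = G * (c * (F - 1)) := by rw [h1]; field_simp
  have e : c * (F - 1) = 2 * (q ^ 2 - 2 * q) :=
    mul_left_cancel₀ hG.ne' (by linear_combination -h1' + 2 * h2)
  rw [hF] at e
  rcases hc with rfl | hc
  · nlinarith
  · nlinarith [mul_le_mul_of_nonneg_right hc (show (0 : ℚ) ≤ q ^ 2 - q by nlinarith)]

theorem no_three_classes {G s₁ s₂ s₃ w₁ w₂ w₃ q F : ℚ} (hG : 0 < G) (hq : 27 ≤ q) (hF : F = q ^ 2 - q + 1)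
    (h₁ : s₁ * 6 = G * w₁) (h₂ : s₂ * 6 = G * w₂) (h₃ : s₃ * 6 = G * w₃) (b₁ : 4 / 5 ≤ w₁) (b₂ : 4 / 5 ≤ w₂)
    (b₃ : 4 / 5 ≤ w₃) (h : (s₁ + s₂ + s₃) * (3 * F) ≤ G * (q ^ 2 - 2 * q)) : False := by
  have hF0 : 0 < F := by rw [hF]; nlinarith
  have e : G * ((w₁ + w₂ + w₃) * F) ≤ G * (2 * (q ^ 2 - 2 * q)) := by
    have e0 : G * ((w₁ + w₂ + w₃) * F) = 2 * ((s₁ + s₂ + s₃) * (3 * F)) := by
      linear_combination -F * h₁ - F * h₂ - F * h₃
    rw [e0]; linarith
  have e' := le_of_mul_le_mul_left e hG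
  nlinarith

theorem two_classes {G s₁ s₂ c₁ c₂ a b q F : ℚ} (hG : 0 < G) (hq : 27 ≤ q) (hF : F = q ^ 2 - q + 1) (ha : 5 ≤ a)
    (hb : 5 ≤ b) (hab : a * b = F) (hc₁ : 1 ≤ c₁) (hc₂ : 1 ≤ c₂) (h₁ : s₁ * 6 = G * (c₁ * (1 - 1 / a)))
    (h₂ : s₂ * 6 = G * (c₂ * (1 - 1 / b))) (h : (s₁ + s₂) * (3 * F) = G * (q ^ 2 - 2 * q)) :
    c₁ + c₂ < 3 ∧ (c₁ = 1 → c₂ = 1 → a + b = 2 * (q + 1)) := by
  have ha0 : a ≠ 0 := by linarith
  have hb0 : b ≠ 0 := by linarith
  have h₁' : s₁ * 6 * a = G * (c₁ * (a - 1)) := by rw [h₁]; field_simp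
  have h₂' : s₂ * 6 * b = G * (c₂ * (b - 1)) := by rw [h₂]; field_simp
  rw [← hab] at h
  have e : c₁ * (a - 1) * b + c₂ * (b - 1) * a = 2 * (q ^ 2 - 2 * q) :=
    mul_left_cancel₀ hG.ne' (by linear_combination -b * h₁' - a * h₂' + 2 * h)
  refine ⟨?_, fun e1 e2 => ?_⟩
  · by_contra hge
    have k1 : (4 / 5 : ℚ) * c₁ * (a * b) ≤ c₁ * (a - 1) * b := by
      nlinarith [mul_nonneg (mul_nonneg (by linarith : (0 : ℚ) ≤ c₁) (by linarith : (0 : ℚ) ≤ b))
        (by linarith : (0 : ℚ) ≤ a - 5)]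
    have k2 : (4 / 5 : ℚ) * c₂ * (a * b) ≤ c₂ * (b - 1) * a := by
      nlinarith [mul_nonneg (mul_nonneg (by linarith : (0 : ℚ) ≤ c₂) (by linarith : (0 : ℚ) ≤ a))
        (by linarith : (0 : ℚ) ≤ b - 5)]
    have k3 : 0 ≤ (c₁ + c₂ - 3) * (a * b) := mul_nonneg (by linarith) (by nlinarith)
    nlinarith
  · subst e1 e2
    linear_combination -e + 2 * hab + 2 * hF

variable {K : Type u} [Field K] [Fintype K] {Γ : Type v} [Group Γ] {m : ℕ} (D : Dat K Γ m)

namespace Dat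

include D

theorem card_XH : Nat.card D.XH = Fintype.card K - 3 := by
  classical
  let f : {z : Kˣ // z ∉ ({1, -1} : Finset Kˣ)} → D.XH := fun z => ⟨D.H z.1, z.1, rfl,
    fun e => z.2 (by rw [show z.1 = 1 from Units.ext e]; simp),
    fun e => z.2 (by rw [show z.1 = -1 from Units.ext e]; simp)⟩
  have hf : Function.Bijective f := by
    constructor
    · intro a b h
      exact Subtype.ext (D.H_inj (congrArg Subtype.val h))
    · rintro ⟨_, z, rfl, h1, h2⟩
      refine ⟨⟨z, ?_⟩, rfl⟩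
      simp only [Finset.mem_insert, Finset.mem_singleton, not_or]
      exact ⟨fun e => h1 (by rw [e]; rfl), fun e => h2 (by rw [e]; rfl)⟩
  rw [← Nat.card_eq_of_bijective f hf, Nat.card_eq_fintype_card, Fintype.card_subtype_compl,
    Fintype.card_units, Fintype.card_coe, Finset.card_insert_of_notMem, Finset.card_singleton]
  · omega
  · simp only [Finset.mem_singleton]
    exact fun e => D.neg_one_ne e.symm

theorem card_X0 : Nat.card D.X0 = Fintype.card K - 3 := by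
  classical
  haveI := D.finite
  obtain ⟨F⟩ := D.nonempty_four
  have h : D.X0 = (D.C0 : Set Γ) \ (D.E4 F : Set Γ) := by
    ext g
    constructor
    · exact fun ⟨h1, h2⟩ => ⟨h1, fun h => h2 (D.E4_sq F h)⟩
    · rintro ⟨h1, h2⟩
      refine ⟨h1, fun h => h2 ?_⟩
      rcases D.C0_sq F h1 h with rfl | rfl | rfl | rfl
      · exact one_mem _
      · exact Subgroup.mem_sup_left (Subgroup.mem_zpowers _)
      · exact Subgroup.mem_sup_right (Subgroup.mem_zpowers _)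
      · exact mul_mem (Subgroup.mem_sup_left (Subgroup.mem_zpowers _)) (Subgroup.mem_sup_right (Subgroup.mem_zpowers _))
  rw [h, Nat.card_coe_set_eq, Set.ncard_sdiff (D.E4_le F), ← Nat.card_coe_set_eq, ← Nat.card_coe_set_eq]
  show Nat.card D.C0 - Nat.card (D.E4 F) = _
  rw [D.card_C0, D.card_E4]
  omega

theorem oddTorus_ne_bot (hm : 1 ≤ m) : D.oddTorus ≠ ⊥ := fun h => by
  have := D.card_oddTorus
  rw [h, Subgroup.card_bot] at this
  have := D.q_ge hm
  omega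

theorem normalizer_oddTorus_cases (hm : 1 ≤ m) {g : Γ} (hg : g ∈ Subgroup.normalizer (D.oddTorus : Set Γ))
    (z : Kˣ) : g * D.H z * g⁻¹ ∈ D.H.range := by
  haveI := D.finite
  obtain ⟨⟨a, ha⟩, hne⟩ := (nontrivial_iff_exists_ne (1 : D.oddTorus)).1
    ((Subgroup.nontrivial_iff_ne_bot _).2 (D.oddTorus_ne_bot hm))
  obtain ⟨w, rfl, h1, h2⟩ := D.mem_oddTorus_ne ha fun e => hne (Subtype.ext e)
  have hb := (Subgroup.mem_normalizer_iff.1 hg _).1 ha
  obtain ⟨w', hw', h1', h2'⟩ := D.mem_oddTorus_ne hb fun e =>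
    hne (Subtype.ext (conj_eq_one_iff.1 e))
  rw [← D.centralizer_H h1' h2', Subgroup.mem_centralizer_singleton_iff, ← hw']
  calc g * D.H z * g⁻¹ * (g * D.H w * g⁻¹) = g * (D.H z * D.H w) * g⁻¹ := by group
    _ = g * (D.H w * D.H z) * g⁻¹ := by rw [← map_mul, ← map_mul, mul_comm]
    _ = _ := by group

theorem card_conj_XH (hm : 1 ≤ m) :
    Nat.card (conjSet D.XH) * (2 * (Fintype.card K - 1)) = Nat.card Γ * (Fintype.card K - 3) := by
  classical
  haveI := D.finite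
  rw [← (D.card_normalizer_oddTorus le_rfl (D.oddTorus_ne_bot hm)).1, ← D.card_XH]
  refine card_conjSet D.XH _ ?_ ?_
  · rintro n hn _ ⟨z, rfl, h1, h2⟩
    obtain ⟨z', hz'⟩ := D.normalizer_oddTorus_cases hm hn z
    have key : ∀ y : Kˣ, y ^ 2 = 1 → z' ≠ y := fun y hy e => by
      have : (n * D.H z * n⁻¹) ^ 2 = 1 := by rw [← hz', e, ← map_pow, hy, map_one]
      rw [conj_pow, conj_eq_one_iff, ← map_pow] at this
      have h3 := congrArg Units.val (D.H_inj (this.trans (map_one D.H).symm))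
      push_cast at h3
      exact (sq_eq_one_iff.1 h3).elim h1 h2
    exact ⟨z', hz'.symm, fun e => key 1 (one_pow _) (Units.ext e), fun e => key (-1) (by simp) (Units.ext e)⟩
  · rintro g _ ⟨z, rfl, h1, h2⟩ ⟨z', hz', -, -⟩
    have hcase := D.conj_H h1 h2 (show g * D.H z = D.H z' * g by rw [← hz']; group)
    haveI : Finite (D.oddTorus : Set Γ) := (Set.toFinite _).to_subtype
    refine Subgroup.mem_normalizer_fintype fun x hx => ?_
    obtain ⟨c, hc, rfl⟩ := hx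
    rcases hcase with ⟨y, rfl, -⟩ | ⟨y, rfl, -⟩
    · refine ⟨c, hc, ?_⟩
      rw [← map_mul, ← map_inv, ← map_mul, mul_comm y c, mul_inv_cancel_right]
    · refine ⟨c⁻¹, inv_mem hc, ?_⟩
      rw [show D.H y * D.w * D.H c * (D.H y * D.w)⁻¹ = D.H y * (D.w * D.H c * D.w⁻¹) * (D.H y)⁻¹ by group,
        D.w_conj, map_inv, ← map_inv, ← map_inv, ← map_mul, ← map_mul, mul_comm y c⁻¹, mul_inv_cancel_right]

theorem sq_mem_AP {g : Γ} (hg : g ∈ D.C0) : g * g ∈ D.AP := by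
  haveI := D.finite
  refine ⟨mul_mem hg hg, ?_⟩
  rw [← pow_two, ← pow_mul]
  rcases hg with h | h
  · exact congrArg Subtype.val (show (⟨g, h⟩ : D.TP) ^ (2 * D.kp) = 1 by
      rw [← D.card_TP]; exact pow_card_eq_one')
  · have e : g = D.jI * (D.jI * g) := by rw [← mul_assoc, D.jI_sq, one_mul]
    rw [e, (D.jI_comm_TP h).mul_pow, pow_mul, pow_two, D.jI_sq, one_pow, one_mul]
    exact congrArg Subtype.val (show (⟨D.jI * g, h⟩ : D.TP) ^ (2 * D.kp) = 1 by
      rw [← D.card_TP]; exact pow_card_eq_one')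

theorem card_conj_X0 (R : Reg D) :
    Nat.card (conjSet D.X0) * (6 * (Fintype.card K + 1)) = Nat.card Γ * (Fintype.card K - 3) := by
  haveI := D.finite
  rw [← (D.normalizer_AP' R).1, ← D.card_X0]
  refine card_conjSet D.X0 _ ?_ ?_
  · rintro n hn x ⟨hx, hx2⟩
    rw [(D.normalizer_AP' R).2] at hn
    refine ⟨(Subgroup.mem_normalizer_iff.1 hn x).1 hx, fun e => hx2 ?_⟩
    rwa [show n * x * n⁻¹ * (n * x * n⁻¹) = n * (x * x) * n⁻¹ by group, conj_eq_one_iff] at e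
  · rintro g x ⟨hx, hx2⟩ ⟨hx', -⟩
    refine D.mem_normalizer_AP' R (D.sq_mem_AP hx) hx2 ?_
    rw [show g * (x * x) * g⁻¹ = g * x * g⁻¹ * (g * x * g⁻¹) by group]
    exact D.sq_mem_AP hx'

theorem orderOf_dvd_of_X0 {g : Γ} (hg : g ∈ conjSet D.X0) :
    2 * orderOf g ∣ Fintype.card K + 1 ∧ 2 < orderOf g := by
  haveI := D.finite
  obtain ⟨a, x, ⟨hx, hx2⟩, rfl⟩ := hg
  rw [← MulAut.conj_apply, MulEquiv.orderOf_eq]
  constructor
  · rw [← D.four_kp, show 4 * D.kp = 2 * (2 * D.kp) by ring]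
    refine Nat.mul_dvd_mul_left 2 (orderOf_dvd_of_pow_eq_one ?_)
    rw [pow_mul, pow_two]
    exact (D.sq_mem_AP hx).2
  · by_contra hle
    apply hx2
    rw [← pow_two]
    rcases (show orderOf x = 1 ∨ orderOf x = 2 by have := orderOf_pos x; omega) with e | e
    · rw [orderOf_eq_one_iff.1 e, one_pow]
    · rw [← e, pow_orderOf_eq_one]

/-- The elements of order divisible by a prime divisor of `q² - q + 1`. -/
def PS : Set Γ := {g | ∃ p, p.Prime ∧ p ∣ D.phi ∧ p ∣ orderOf g}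

theorem three_not_dvd_pred : ¬ 3 ∣ Fintype.card K - 1 := by
  have hq : (3 : ℕ) ∣ Fintype.card K := by rw [D.card_eq]; exact dvd_pow_self 3 (by omega)
  have := Fintype.one_lt_card (α := K)
  omega

theorem sub_cases : ∀ g : Γ, g ∈ D.PS → orderOf g ≠ 2 ∧ ¬ 3 ∣ orderOf g ∧ g ∉ conjSet D.XH ∧
    g ∉ conjSet D.X0 ∧ g ≠ 1 := by
  haveI := D.finite
  rintro g ⟨p, hp, hpd, hpg⟩
  obtain ⟨h3, hq, hq1, hq2⟩ := D.prime_phi hp hpd
  refine ⟨fun e => ?_, fun e => ?_, fun e => hq1 (hpg.trans (D.orderOf_dvd_of_XH e).1),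
    fun e => hq2 ((hpg.trans (dvd_mul_left _ 2)).trans (D.orderOf_dvd_of_X0 e).1), fun e => ?_⟩
  · rw [e] at hpg
    have := (Nat.prime_dvd_prime_iff_eq hp Nat.prime_two).1 hpg
    omega
  · obtain ⟨a, -, ha⟩ := D.three_dvd_cases e
    have hd : p ∣ 2 * 3 ^ 2 := by rcases ha with ha | ha | ha <;> rw [ha] at hpg <;> exact hpg.trans (by norm_num)
    rcases hp.dvd_mul.1 hd with h | h
    · have := (Nat.prime_dvd_prime_iff_eq hp Nat.prime_two).1 h
      omega
    · have := (Nat.prime_dvd_prime_iff_eq hp Nat.prime_three).1 (hp.dvd_of_dvd_pow h)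
      omega
  · rw [e, orderOf_one] at hpg
    exact hp.not_dvd_one hpg

/-- The counting identity for the elements outside the tori of order prime to `q² - q + 1`. -/
theorem count_PS (R : Reg D) :
    (Nat.card D.PS : ℚ) * (3 * D.phi) = Nat.card Γ * ((Fintype.card K : ℚ) ^ 2 - 2 * Fintype.card K) := by
  classical
  haveI := D.finite
  haveI := Fintype.ofFinite Γ
  set T : Set Γ := {g | 3 ∣ orderOf g} with hT
  set I : Set Γ := {g | orderOf g = 2} with hI
  have hTsplit : T.ncard = Nat.card {g : Γ // orderOf g = 3} + Nat.card {g : Γ // orderOf g = 6} +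
      Nat.card {g : Γ // orderOf g = 9} := by
    have e : T = ({g | orderOf g = 3} ∪ {g | orderOf g = 6}) ∪ {g | orderOf g = 9} := by
      ext g
      constructor
      · intro h
        obtain ⟨a, -, ha⟩ := D.three_dvd_cases h
        rcases ha with ha | ha | ha <;> simp [ha]
      · rintro ((h | h) | h) <;> show 3 ∣ orderOf g <;> rw [show orderOf g = _ from h] <;> norm_num
    rw [e, Set.ncard_union_eq, Set.ncard_union_eq]
    · simp only [← Nat.card_coe_set_eq]; rfl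
    · exact Set.disjoint_left.2 fun g h1 h2 => by
        simp only [Set.mem_setOf_eq] at h1 h2; omega
    · exact Set.disjoint_left.2 fun g h1 h2 => by
        simp only [Set.mem_setOf_eq, Set.mem_union] at h1 h2; omega
  have hU : (Set.univ : Set Γ) = ((((({1} : Set Γ) ∪ I) ∪ T) ∪ conjSet D.XH) ∪ conjSet D.X0) ∪ D.PS := by
    refine (Set.eq_univ_of_forall fun g => ?_).symm
    by_cases hg : g = 1
    · simp [hg]
    rcases D.classify R hg with h | h | h | h | h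
    · simp [hI, h]
    · simp [hT, h]
    · simp [h]
    · simp [h]
    · exact Or.inr h
  have hsum := congrArg Set.ncard hU
  have d3 : ∀ g : Γ, g ∈ conjSet D.XH → orderOf g ≠ 2 ∧ ¬ 3 ∣ orderOf g ∧ g ≠ 1 := fun g h =>
    ⟨fun e => by have := (D.orderOf_dvd_of_XH h).2; omega,
      fun e => D.three_not_dvd_pred (e.trans (D.orderOf_dvd_of_XH h).1),
      fun e => by have := (D.orderOf_dvd_of_XH h).2; rw [e, orderOf_one] at this; omega⟩
  have d4 : ∀ g : Γ, g ∈ conjSet D.X0 → orderOf g ≠ 2 ∧ ¬ 3 ∣ orderOf g ∧ g ∉ conjSet D.XH ∧ g ≠ 1 := by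
    intro g h
    obtain ⟨hd, h2⟩ := D.orderOf_dvd_of_X0 h
    refine ⟨by omega, fun e => ?_, fun e => ?_, fun e => by rw [e, orderOf_one] at h2; omega⟩
    · have h3 : 3 ∣ Fintype.card K + 1 := (e.trans (dvd_mul_left _ 2)).trans hd
      have hq : (3 : ℕ) ∣ Fintype.card K := by rw [D.card_eq]; exact dvd_pow_self 3 (by omega)
      omega
    · have h5 : orderOf g ∣ (Fintype.card K + 1) - (Fintype.card K - 1) :=
        Nat.dvd_sub ((dvd_mul_left _ 2).trans hd) (D.orderOf_dvd_of_XH e).1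
      have := Fintype.one_lt_card (α := K)
      have := Nat.le_of_dvd (by omega) h5
      omega
  rw [Set.ncard_univ, Set.ncard_union_eq, Set.ncard_union_eq, Set.ncard_union_eq, Set.ncard_union_eq,
    Set.ncard_union_eq, Set.ncard_singleton, hTsplit] at hsum
  rotate_left
  · exact Set.disjoint_left.2 fun g h1 h2 => by
      rw [Set.mem_singleton_iff] at h1; simp only [hI, Set.mem_setOf_eq] at h2
      rw [h1, orderOf_one] at h2; omega
  · exact Set.disjoint_left.2 fun g h1 h2 => by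
      simp only [hI, hT, Set.mem_setOf_eq, Set.mem_union, Set.mem_singleton_iff] at h1 h2
      rcases h1 with h1 | h1
      · rw [h1, orderOf_one] at h2; omega
      · omega
  · exact Set.disjoint_left.2 fun g h1 h2 => by
      simp only [hI, hT, Set.mem_setOf_eq, Set.mem_union, Set.mem_singleton_iff] at h1
      have := d3 g h2; tauto
  · exact Set.disjoint_left.2 fun g h1 h2 => by
      simp only [hI, hT, Set.mem_setOf_eq, Set.mem_union, Set.mem_singleton_iff] at h1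
      have := d4 g h2; tauto
  · exact Set.disjoint_left.2 fun g h1 h2 => by
      simp only [hI, hT, Set.mem_setOf_eq, Set.mem_union, Set.mem_singleton_iff] at h1
      have := D.sub_cases g h2; tauto
  have hq := D.q_ge R.hm
  set q := Fintype.card K with hqd
  have e3 := D.card_unipotent_class 3 (Or.inl rfl)
  rw [D.card_UG_three] at e3
  have e9 := D.card_unipotent_class 9 (Or.inr rfl)
  rw [D.card_UG_nine] at e9
  have e6 := D.card_order_six
  have e2 := D.card_involutions R.hperf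
  rw [D.card_CJ] at e2
  have eH := D.card_conj_XH R.hm
  have e0 := D.card_conj_X0 R
  have eG := D.card_eq_phi
  rw [show I.ncard = Nat.card {g : Γ // orderOf g = 2} from (Nat.card_coe_set_eq I).symm,
    show (conjSet D.XH).ncard = Nat.card (conjSet D.XH) from (Nat.card_coe_set_eq _).symm,
    show (conjSet D.X0).ncard = Nat.card (conjSet D.X0) from (Nat.card_coe_set_eq _).symm,
    show D.PS.ncard = Nat.card D.PS from (Nat.card_coe_set_eq _).symm] at hsum
  simp only [← hqd] at e2 e3 e6 e9 eH e0 eG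
  generalize Nat.card {g : Γ // orderOf g = 2} = nI at hsum e2
  generalize Nat.card {g : Γ // orderOf g = 3} = n3 at hsum e3
  generalize Nat.card {g : Γ // orderOf g = 6} = n6 at hsum e6
  generalize Nat.card {g : Γ // orderOf g = 9} = n9 at hsum e9
  generalize Nat.card (conjSet D.XH) = nH at hsum eH
  generalize Nat.card (conjSet D.X0) = n0 at hsum e0
  generalize Nat.card D.PS = nP at hsum ⊢
  generalize Nat.card Γ = G at hsum e2 e3 e6 e9 eH e0 eG ⊢
  obtain ⟨F', hF'⟩ : ∃ F' : ℚ, F' = (D.phi : ℚ) := ⟨_, rfl⟩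
  have hF : F' = (q : ℚ) ^ 2 - q + 1 := by
    rw [hF']
    exact_mod_cast D.phi_int
  rw [← hF']
  have s1 : ((q - 1 : ℕ) : ℚ) = (q : ℚ) - 1 := by rw [Nat.cast_sub (by omega), Nat.cast_one]
  have s3 : ((q - 3 : ℕ) : ℚ) = (q : ℚ) - 3 := by rw [Nat.cast_sub (by omega)]; norm_num
  have sq2 : ((q ^ 2 - 1 : ℕ) : ℚ) = (q : ℚ) ^ 2 - 1 := by
    rw [Nat.cast_sub (Nat.one_le_pow _ _ (by omega))]; push_cast; ring
  have cG : (G : ℚ) = (q : ℚ) ^ 3 * ((q : ℚ) - 1) * ((q : ℚ) + 1) * F' := by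
    rw [eG, hF']; push_cast [s1]; ring
  have hq0 : (q : ℚ) ≠ 0 := by positivity
  have hq1 : (q : ℚ) - 1 ≠ 0 := by rw [← s1]; exact_mod_cast (by omega : q - 1 ≠ 0)
  have hq2 : (q : ℚ) + 1 ≠ 0 := by positivity
  have cI : (nI : ℚ) = (q : ℚ) ^ 2 * F' := by
    have h : (nI : ℚ) * ((q : ℚ) * ((q : ℚ) - 1) * ((q : ℚ) + 1)) = G := by
      rw [← s1]; exact_mod_cast e2
    rw [cG] at h
    exact mul_right_cancel₀ (by simp [hq0, hq1, hq2]) (h.trans (by ring))
  have c3 : (n3 : ℚ) = ((q : ℚ) ^ 2 - 1) * ((q : ℚ) + 1) * F' := by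
    have h : (n3 : ℚ) * ((q : ℚ) ^ 3 * ((q : ℚ) - 1)) = G * ((q : ℚ) ^ 2 - 1) := by
      rw [← s1, ← sq2]; exact_mod_cast e3
    rw [cG] at h
    exact mul_right_cancel₀ (by simp [hq0, hq1]) (h.trans (by ring))
  have c6 : (n6 : ℚ) = (q : ℚ) ^ 2 * ((q : ℚ) - 1) * ((q : ℚ) + 1) * F' := by
    have h : (n6 : ℚ) * ((q : ℚ) ^ 3 * ((q : ℚ) - 1)) = G * ((q : ℚ) ^ 2 * ((q : ℚ) - 1)) := by
      rw [← s1]; exact_mod_cast e6
    rw [cG] at h
    exact mul_right_cancel₀ (by simp [hq0, hq1]) (h.trans (by ring))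
  have c9 : (n9 : ℚ) = (q : ℚ) ^ 2 * ((q : ℚ) - 1) * ((q : ℚ) + 1) * F' := by
    have h : (n9 : ℚ) * ((q : ℚ) ^ 3 * ((q : ℚ) - 1)) = G * ((q : ℚ) ^ 2 * ((q : ℚ) - 1)) := by
      rw [← s1]; exact_mod_cast e9
    rw [cG] at h
    exact mul_right_cancel₀ (by simp [hq0, hq1]) (h.trans (by ring))
  have cH : 2 * (nH : ℚ) = (q : ℚ) ^ 3 * ((q : ℚ) + 1) * F' * ((q : ℚ) - 3) := by
    have h : (nH : ℚ) * (2 * ((q : ℚ) - 1)) = G * ((q : ℚ) - 3) := by
      rw [← s1, ← s3]; exact_mod_cast eH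
    rw [cG] at h
    exact mul_right_cancel₀ hq1 ((by ring : (2 * (nH : ℚ)) * ((q : ℚ) - 1) = nH * (2 * ((q : ℚ) - 1))).trans
      (h.trans (by ring)))
  have c0 : 6 * (n0 : ℚ) = (q : ℚ) ^ 3 * ((q : ℚ) - 1) * F' * ((q : ℚ) - 3) := by
    have h : (n0 : ℚ) * (6 * ((q : ℚ) + 1)) = G * ((q : ℚ) - 3) := by
      rw [← s3]; exact_mod_cast e0
    rw [cG] at h
    exact mul_right_cancel₀ hq2 ((by ring : (6 * (n0 : ℚ)) * ((q : ℚ) + 1) = n0 * (6 * ((q : ℚ) + 1))).trans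
      (h.trans (by ring)))
  have cs : (G : ℚ) = 1 + nI + (n3 + n6 + n9) + nH + n0 + nP := by exact_mod_cast hsum
  have cP : 6 * (nP : ℚ) = 6 * G - 6 - 6 * nI - 6 * (n3 + n6 + n9) - 3 * (2 * nH) - 6 * n0 := by
    rw [cs]; ring
  refine mul_left_cancel₀ (show (6 : ℚ) ≠ 0 by norm_num) ?_
  rw [show (6 : ℚ) * (nP * (3 * F')) = (6 * (nP : ℚ)) * (3 * F') by ring, cP, cI, c3, c6, c9, cH, c0, cG, hF]
  ring

theorem class_ratio {A : Subgroup Γ} (R : Reg D) (hA : D.PhiTorus A) :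
    ∃ c : ℕ, 1 ≤ c ∧ Nat.card (Subgroup.normalizer (A : Set Γ)) * c = 6 * Nat.card A ∧
      (Nat.card (conjSet ((A : Set Γ) \ {1})) : ℚ) * 6 = Nat.card Γ * (c * (1 - 1 / (Nat.card A : ℚ))) := by
  haveI := D.finite
  obtain ⟨n, ⟨c, hc⟩, hN⟩ := hA.exists_index D R
  have hc1 : 1 ≤ c := Nat.pos_of_ne_zero fun e => by rw [e, mul_zero] at hc; omega
  refine ⟨c, hc1, by rw [hN, hc]; ring, ?_⟩
  have h := hA.card_conj D
  rw [hN] at h
  have hq : (Nat.card (conjSet ((A : Set Γ) \ {1})) : ℚ) * ((n : ℚ) * Nat.card A) =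
      Nat.card Γ * ((Nat.card A : ℚ) - 1) := by
    have h' := congrArg (fun x : ℕ => (x : ℚ)) h
    push_cast [Nat.cast_sub hA.nt.le] at h'
    exact h'
  have ha : (Nat.card A : ℚ) ≠ 0 := by exact_mod_cast Nat.card_pos.ne'
  have h6 : (n : ℚ) * c = 6 := by exact_mod_cast hc.symm
  refine mul_right_cancel₀ ha ?_
  rw [← h6, mul_assoc (Nat.card Γ : ℚ), mul_assoc (c : ℚ), sub_mul, one_mul, div_mul_cancel₀ _ ha]
  linear_combination (c : ℚ) * hq

/-- The two tori of order `q ± r + 1`. -/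
theorem exists_two_tori (R : Reg D) : ∃ A B, D.PhiTorus A ∧ D.PhiTorus B ∧
    Nat.card A = Fintype.card K - 3 ^ (m + 1) + 1 ∧ Nat.card B = Fintype.card K + 3 ^ (m + 1) + 1 ∧
    Nat.card (Subgroup.normalizer (A : Set Γ)) = 6 * Nat.card A ∧
    Nat.card (Subgroup.normalizer (B : Set Γ)) = 6 * Nat.card B ∧
    Nat.card A * Nat.card B = D.phi := by
  classical
  haveI := D.finite
  have hq := D.q_ge R.hm
  have hphi1 : 1 < D.phi := by
    have : 27 * Fintype.card K ≤ Fintype.card K ^ 2 := by nlinarith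
    unfold phi; omega
  have hcount := D.count_PS R
  have hGpos : (0 : ℚ) < Nat.card Γ := by exact_mod_cast Nat.card_pos
  have hFpos : (0 : ℚ) < D.phi := by exact_mod_cast (by omega : 0 < D.phi)
  have hphi : (D.phi : ℚ) = (Fintype.card K : ℚ) ^ 2 - Fintype.card K + 1 := by exact_mod_cast D.phi_int
  have hqQ : (27 : ℚ) ≤ Fintype.card K := by exact_mod_cast hq
  have hlow : ∀ A, D.PhiTorus A → (5 : ℚ) ≤ Nat.card A := fun A hA => by
    obtain ⟨p, hp, hpA⟩ := Nat.exists_prime_and_dvd (show Nat.card A ≠ 1 by have := hA.nt; omega)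
    have h3 := (D.prime_phi hp (hpA.trans hA.dvd)).1
    have hle : p ≤ Nat.card A := Nat.le_of_dvd Nat.card_pos hpA
    have h4 : p ≠ 4 := fun e => by rw [e] at hp; norm_num at hp
    exact_mod_cast (show 5 ≤ Nat.card A by omega)
  -- the classes of tori with coprime orders are disjoint
  have hdis : ∀ A B, D.PhiTorus A → D.PhiTorus B → (Nat.card A).Coprime (Nat.card B) →
      Disjoint (conjSet ((A : Set Γ) \ {1})) (conjSet ((B : Set Γ) \ {1})) := by
    intro A B hA hB hcop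
    refine Set.disjoint_left.2 ?_
    rintro _ ⟨g, x, ⟨hx, hx1⟩, rfl⟩ ⟨g', x', ⟨hx', -⟩, he⟩
    refine hx1 (orderOf_eq_one_iff.1 (Nat.eq_one_of_dvd_coprimes hcop (Subgroup.orderOf_dvd_natCard _ hx) ?_))
    have : orderOf x' = orderOf x := by
      rw [← MulEquiv.orderOf_eq (MulAut.conj g') x', ← MulEquiv.orderOf_eq (MulAut.conj g) x,
        MulAut.conj_apply, MulAut.conj_apply, he]
    exact this ▸ Subgroup.orderOf_dvd_natCard _ hx'
  have hsub : ∀ A, D.PhiTorus A → conjSet ((A : Set Γ) \ {1}) ⊆ D.PS := by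
    rintro A hA _ ⟨g, x, ⟨hx, hx1⟩, rfl⟩
    obtain ⟨p, hp, hpx⟩ := Nat.exists_prime_and_dvd (show orderOf x ≠ 1 from fun h => hx1 (orderOf_eq_one_iff.1 h))
    refine ⟨p, hp, (hpx.trans (Subgroup.orderOf_dvd_natCard _ hx)).trans hA.dvd, ?_⟩
    rwa [← MulAut.conj_apply, MulEquiv.orderOf_eq]
  have hnext : ∀ A, D.PhiTorus A → ∀ p, p.Prime → p ∣ D.phi → ¬ p ∣ Nat.card A →
      ∃ B, D.PhiTorus B ∧ p ∣ Nat.card B ∧ (Nat.card A).Coprime (Nat.card B) := by
    intro A hA p hp hpd hpA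
    obtain ⟨B, hB, hpB⟩ := D.exists_phiTorus R hp hpd
    refine ⟨B, hB, hpB, Nat.coprime_of_dvd fun l hl hlA hlB => ?_⟩
    haveI := Fact.mk hl
    obtain ⟨z, hz⟩ := exists_prime_orderOf_dvd_card' l hlB
    have hz1 : (z : Γ) ≠ 1 := fun e => by
      rw [show z = 1 from Subtype.ext e, orderOf_one] at hz; exact hl.ne_one hz.symm
    obtain ⟨g, x, ⟨hx, hx1⟩, he⟩ := hA.mem_conj D R (g := (z : Γ)) hl hlA (by rw [Subgroup.orderOf_coe, hz])
    have e : B = A.map (MulAut.conj g).toMonoidHom := by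
      rw [← hB.cent z z.2 hz1, ← hA.cent x hx hx1, ← he]
      ext c
      rw [Subgroup.mem_map_equiv, MulAut.conj_symm_apply, Subgroup.mem_centralizer_singleton_iff,
        Subgroup.mem_centralizer_singleton_iff]
      constructor
      · intro h
        calc g⁻¹ * c * g * x = g⁻¹ * (c * (g * x * g⁻¹)) * g := by group
          _ = _ := by rw [h]; group
      · intro h
        calc c * (g * x * g⁻¹) = g * (g⁻¹ * c * g * x) * g⁻¹ := by group
          _ = _ := by rw [h]; group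
    refine hpA ?_
    rw [e, Nat.card_congr (Subgroup.equivMapOfInjective A _ (MulAut.conj g).injective).toEquiv.symm] at hpB
    exact hpB
  obtain ⟨p₁, hp₁, hd₁⟩ := Nat.exists_prime_and_dvd (show D.phi ≠ 1 by omega)
  obtain ⟨A, hA, hpA⟩ := D.exists_phiTorus R hp₁ hd₁
  obtain ⟨c₁, hc₁, hN₁, hR₁⟩ := D.class_ratio R hA
  by_cases hall : ∀ p, p.Prime → p ∣ D.phi → p ∣ Nat.card A
  · exfalso
    have hPS : D.PS = conjSet ((A : Set Γ) \ {1}) :=
      Set.Subset.antisymm (fun g ⟨p, hp, hpd, hpg⟩ => hA.mem_conj D R hp (hall p hp hpd) hpg) (hsub A hA)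
    have hfull : Nat.card A = D.phi := by
      refine Nat.dvd_antisymm hA.dvd ?_
      refine (Nat.Coprime.dvd_of_dvd_mul_right ?_ (A.card_mul_index.symm ▸
        (D.card_eq_phi ▸ dvd_mul_left _ _) : D.phi ∣ Nat.card A * A.index))
      exact Nat.coprime_of_dvd fun l hl hl1 hl2 => hA.not_dvd_index D R hl (hall l hl hl1) hl2
    rw [hPS] at hcount
    rw [hfull] at hR₁
    exact no_one_class hGpos hqQ hphi ((show c₁ = 1 ∨ 2 ≤ c₁ by omega).imp (fun e => by rw [e, Nat.cast_one])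
      fun e => by exact_mod_cast e) hR₁ hcount
  push_neg at hall
  obtain ⟨p₂, hp₂, hd₂, hp₂A⟩ := hall
  obtain ⟨B, hB, hpB, hcop⟩ := hnext A hA p₂ hp₂ hd₂ hp₂A
  obtain ⟨c₂, hc₂, hN₂, hR₂⟩ := D.class_ratio R hB
  have hle : ∀ s : Set Γ, s ⊆ D.PS → (s.ncard : ℚ) * (3 * D.phi) ≤
      Nat.card Γ * ((Fintype.card K : ℚ) ^ 2 - 2 * Fintype.card K) := fun s hs => by
    rw [← hcount]
    refine mul_le_mul_of_nonneg_right ?_ (by positivity)
    rw [Nat.card_coe_set_eq D.PS]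
    exact Nat.cast_le.2 (Set.ncard_le_ncard hs (Set.toFinite _))
  have hsmall : ∀ C, D.PhiTorus C → ∀ c : ℕ, 1 ≤ c → (4 / 5 : ℚ) * c ≤ c * (1 - 1 / (Nat.card C : ℚ)) := by
    intro C hC c _
    have h5 := hlow C hC
    have h15 : 1 / (Nat.card C : ℚ) ≤ 1 / 5 := one_div_le_one_div_of_le (by norm_num) h5
    nlinarith
  by_cases hall2 : ∀ p, p.Prime → p ∣ D.phi → p ∣ Nat.card A ∨ p ∣ Nat.card B
  swap
  · exfalso
    push_neg at hall2
    obtain ⟨p₃, hp₃, hd₃, h3A, h3B⟩ := hall2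
    obtain ⟨C, hC, hpC, hcopAC⟩ := hnext A hA p₃ hp₃ hd₃ h3A
    obtain ⟨C', hC', hpC', hcopBC⟩ := hnext B hB p₃ hp₃ hd₃ h3B
    obtain ⟨c₃, hc₃, -, hR₃⟩ := D.class_ratio R hC
    have hcopBC2 : (Nat.card B).Coprime (Nat.card C) := by
      refine Nat.coprime_of_dvd fun l hl hlB hlC => ?_
      haveI := Fact.mk hp₃
      obtain ⟨z, hz⟩ := exists_prime_orderOf_dvd_card' p₃ hpC
      haveI := Fact.mk hl
      obtain ⟨w, hw⟩ := exists_prime_orderOf_dvd_card' l hlC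
      have hw1 : (w : Γ) ≠ 1 := fun e => by
        rw [show w = 1 from Subtype.ext e, orderOf_one] at hw; exact hl.ne_one hw.symm
      obtain ⟨g, x, ⟨hx, hx1⟩, he⟩ := hB.mem_conj D R (g := (w : Γ)) hl hlB (by rw [Subgroup.orderOf_coe, hw])
      have hzm : g⁻¹ * (z : Γ) * g ∈ B := by
        rw [← hB.cent x hx hx1, Subgroup.mem_centralizer_singleton_iff]
        have hcw : Commute (z : Γ) (w : Γ) := by
          have this : (z : Γ) ∈ Subgroup.centralizer {(w : Γ)} := by rw [hC.cent _ w.2 hw1]; exact z.2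
          exact Subgroup.mem_centralizer_singleton_iff.1 this
        have := commute_conj (g := g) hcw
        rwa [← he, show g⁻¹ * (g * x * g⁻¹) * g = x by group] at this
      refine h3B ?_
      have := Subgroup.orderOf_dvd_natCard _ hzm
      rwa [orderOf_conj, Subgroup.orderOf_coe, hz] at this
    have h := hle (conjSet ((A : Set Γ) \ {1}) ∪ conjSet ((B : Set Γ) \ {1}) ∪ conjSet ((C : Set Γ) \ {1}))
      (Set.union_subset (Set.union_subset (hsub A hA) (hsub B hB)) (hsub C hC))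
    rw [Set.ncard_union_eq (Set.disjoint_union_left.2 ⟨hdis A C hA hC hcopAC, hdis B C hB hC hcopBC2⟩),
      Set.ncard_union_eq (hdis A B hA hB hcop), ← Nat.card_coe_set_eq, ← Nat.card_coe_set_eq,
      ← Nat.card_coe_set_eq] at h
    rw [Nat.cast_add, Nat.cast_add] at h
    have g : ∀ C, D.PhiTorus C → ∀ c : ℕ, 1 ≤ c → (4 / 5 : ℚ) ≤ c * (1 - 1 / (Nat.card C : ℚ)) :=
      fun C hC c hc => le_trans (by have : (1 : ℚ) ≤ c := Nat.one_le_cast.2 hc; linarith) (hsmall C hC c hc)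
    exact no_three_classes hGpos hqQ hphi hR₁ hR₂ hR₃ (g A hA c₁ hc₁) (g B hB c₂ hc₂) (g C hC c₃ hc₃) h
  have hPS : D.PS = conjSet ((A : Set Γ) \ {1}) ∪ conjSet ((B : Set Γ) \ {1}) := by
    refine Set.Subset.antisymm (fun g ⟨p, hp, hpd, hpg⟩ => ?_) (Set.union_subset (hsub A hA) (hsub B hB))
    rcases hall2 p hp hpd with h | h
    exacts [Or.inl (hA.mem_conj D R hp h hpg), Or.inr (hB.mem_conj D R hp h hpg)]
  have hprod : Nat.card A * Nat.card B = D.phi := by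
    refine Nat.dvd_antisymm (hcop.mul_dvd_of_dvd_of_dvd hA.dvd hB.dvd) ?_
    rw [Nat.dvd_iff_prime_pow_dvd_dvd]
    intro p e hp hpe
    rcases Nat.eq_zero_or_pos e with rfl | he
    · simp
    have key : ∀ C, D.PhiTorus C → p ∣ Nat.card C → p ^ e ∣ Nat.card C := by
      intro C hC hpC
      refine (Nat.Coprime.pow_left e ?_).dvd_of_dvd_mul_right
        (show p ^ e ∣ Nat.card C * C.index from C.card_mul_index.symm ▸ D.card_eq_phi ▸ hpe.trans (dvd_mul_left _ _))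
      exact hp.coprime_iff_not_dvd.2 (hC.not_dvd_index D R hp hpC)
    rcases hall2 p hp ((dvd_pow_self p he.ne').trans hpe) with h | h
    exacts [(key A hA h).trans (dvd_mul_right _ _), (key B hB h).trans (dvd_mul_left _ _)]
  rw [hPS, show Nat.card ↥(conjSet ((A : Set Γ) \ {1}) ∪ conjSet ((B : Set Γ) \ {1})) =
      Nat.card (conjSet ((A : Set Γ) \ {1})) + Nat.card (conjSet ((B : Set Γ) \ {1})) by
    rw [Nat.card_coe_set_eq, Set.ncard_union_eq (hdis A B hA hB hcop), ← Nat.card_coe_set_eq,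
      ← Nat.card_coe_set_eq]] at hcount
  rw [Nat.cast_add] at hcount
  have haQ : (Nat.card A : ℚ) * Nat.card B = D.phi := by rw [← Nat.cast_mul, hprod]
  obtain ⟨hlt, hone⟩ := two_classes hGpos hqQ hphi (hlow A hA) (hlow B hB) haQ (Nat.one_le_cast.2 hc₁)
    (Nat.one_le_cast.2 hc₂) hR₁ hR₂ hcount
  have hlt' : c₁ + c₂ < 3 := by exact_mod_cast hlt
  obtain ⟨rfl, rfl⟩ : c₁ = 1 ∧ c₂ = 1 := by omega
  have hsum := hone Nat.cast_one Nat.cast_one
  have hsumN : Nat.card A + Nat.card B = 2 * (Fintype.card K + 1) := by exact_mod_cast hsum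
  set q := Fintype.card K with hqd
  set r := 3 ^ (m + 1) with hrd
  have hr2 : (r : ℤ) ^ 2 = 3 * q := by
    have : r ^ 2 = 3 * q := by rw [hrd, hqd, D.card_eq, ← pow_mul]; ring
    exact_mod_cast this
  have hsq : ((Nat.card A : ℤ) - (q + 1)) ^ 2 = (r : ℤ) ^ 2 := by
    have h1 : (Nat.card A : ℤ) + Nat.card B = 2 * ((q : ℤ) + 1) := by exact_mod_cast hsumN
    have h2 : (Nat.card A : ℤ) * Nat.card B = (q : ℤ) ^ 2 - q + 1 := by
      rw [← D.phi_int]; exact_mod_cast hprod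
    rw [hr2]
    linear_combination (Nat.card A : ℤ) * h1 - h2
  have hN : ∀ (C : Subgroup Γ), Nat.card (Subgroup.normalizer (C : Set Γ)) * 1 = 6 * Nat.card C →
      Nat.card (Subgroup.normalizer (C : Set Γ)) = 6 * Nat.card C := fun C h => by simpa using h
  have hrle : r ≤ q := by
    rw [hrd, hqd, D.card_eq]; exact Nat.pow_le_pow_right (by norm_num) (by omega)
  rcases sq_eq_sq_iff_eq_or_eq_neg.1 hsq with h | h
  · refine ⟨B, A, hB, hA, ?_, ?_, hN B hN₂, hN A hN₁, by rw [mul_comm, hprod]⟩ <;> omega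
  · refine ⟨A, B, hA, hB, ?_, ?_, hN A hN₁, hN B hN₂, hprod⟩ <;> omega

end Dat

end Cfsg.Agent.Ree
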