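import Cfsg.Agent.Lib.Ree.BorelClasses
import Cfsg.Agent.Lib.Ree.Eigen

/-!
The centralisers of the elements whose order involves a prime divisor of `q² - q + 1`, and the
classification of the elements of a small Ree group.
-/

set_option autoImplicit false
set_option linter.unusedSectionVars false

namespace Cfsg.Agent.Ree

open scoped MatrixGroups
open Cfsg.Agent

universe u v

variable {K : Type u} [Field K] [Fintype K] {Γ : Type v} [Group Γ] {m : ℕ}

/-- The standing hypotheses for the fine structure of a small Ree group. -/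
structure Reg (D : Dat K Γ m) : Prop where
  hm : 1 ≤ m
  hperf : commutator Γ = ⊤
  hρ : ∃ ρ : Γ →* GL (Fin 7) K, Function.Injective ρ

variable (D : Dat K Γ m)

namespace Dat

/-- The cyclotomic number `q² - q + 1`. -/
abbrev phi (_ : Dat K Γ m) : ℕ := Fintype.card K ^ 2 - Fintype.card K + 1

/-- A self-centralising cyclic torus of order dividing `q² - q + 1`. -/
structure PhiTorus (D : Dat K Γ m) (A : Subgroup Γ) : Prop where
  cyclic : IsCyclic A
  dvd : Nat.card A ∣ D.phi
  nt : 1 < Nat.card A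
  cent : ∀ z ∈ A, z ≠ 1 → Subgroup.centralizer {z} = A

/-- The elements of the centraliser of the smaller torus outside the four-group. -/
def X0 (D : Dat K Γ m) : Set Γ := {g | g ∈ D.C0 ∧ g * g ≠ 1}

include D

theorem q_ge (hm : 1 ≤ m) : 27 ≤ Fintype.card K :=
  D.card_eq ▸ (show 27 = 3 ^ 3 by norm_num) ▸ Nat.pow_le_pow_right (by norm_num) (by omega)

theorem q_le_sq : Fintype.card K ≤ Fintype.card K ^ 2 := Nat.le_self_pow two_ne_zero _

theorem phi_int : (D.phi : ℤ) = (Fintype.card K : ℤ) ^ 2 - Fintype.card K + 1 := by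
  unfold phi
  push_cast [Nat.cast_sub D.q_le_sq]
  ring

theorem cube_add_one : Fintype.card K ^ 3 + 1 = (Fintype.card K + 1) * D.phi := by
  have h := D.phi_int
  have : ((Fintype.card K ^ 3 + 1 : ℕ) : ℤ) = (((Fintype.card K + 1) * D.phi : ℕ) : ℤ) := by
    push_cast [Nat.cast_sub D.q_le_sq]
    ring
  exact_mod_cast this

theorem card_eq_phi : Nat.card Γ =
    Fintype.card K ^ 3 * (Fintype.card K - 1) * (Fintype.card K + 1) * D.phi := by
  rw [D.card_Γ, D.cube_add_one]; ring

theorem prime_phi {p : ℕ} (hp : p.Prime) (h : p ∣ D.phi) :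
    3 < p ∧ ¬ p ∣ Fintype.card K ∧ ¬ p ∣ Fintype.card K - 1 ∧ ¬ p ∣ Fintype.card K + 1 := by
  have hz : ((Fintype.card K : ℤ) ^ 2 - Fintype.card K + 1 : ℤ) = D.phi := D.phi_int.symm
  have hd : (p : ℤ) ∣ (Fintype.card K : ℤ) ^ 2 - Fintype.card K + 1 := hz ▸ Int.natCast_dvd_natCast.2 h
  have hq : ¬ p ∣ Fintype.card K := fun e => by
    have e' : (p : ℤ) ∣ Fintype.card K := Int.natCast_dvd_natCast.2 e
    have := dvd_sub hd (Dvd.dvd.mul_left e' ((Fintype.card K : ℤ) - 1))
    rw [show (Fintype.card K : ℤ) ^ 2 - Fintype.card K + 1 - ((Fintype.card K : ℤ) - 1) * Fintype.card K =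
      ((1 : ℕ) : ℤ) by push_cast; ring] at this
    exact hp.not_dvd_one (Int.natCast_dvd_natCast.1 this)
  have h3 : p ≠ 3 := fun e => hq (by rw [e, D.card_eq]; exact dvd_pow_self 3 (by omega))
  have hq1 : ¬ p ∣ Fintype.card K - 1 := fun e => by
    have e' : (p : ℤ) ∣ (Fintype.card K : ℤ) - 1 := by
      have := Int.natCast_dvd_natCast.2 e
      rwa [Nat.cast_sub Fintype.card_pos, Nat.cast_one] at this
    have := dvd_sub hd (Dvd.dvd.mul_left e' (Fintype.card K : ℤ))
    rw [show (Fintype.card K : ℤ) ^ 2 - Fintype.card K + 1 - (Fintype.card K : ℤ) * ((Fintype.card K : ℤ) - 1) =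
      ((1 : ℕ) : ℤ) by push_cast; ring] at this
    exact hp.not_dvd_one (Int.natCast_dvd_natCast.1 this)
  have hq2 : ¬ p ∣ Fintype.card K + 1 := fun e => by
    have e' : (p : ℤ) ∣ (Fintype.card K : ℤ) + 1 := by exact_mod_cast e
    have := dvd_sub hd (Dvd.dvd.mul_left e' ((Fintype.card K : ℤ) - 2))
    rw [show (Fintype.card K : ℤ) ^ 2 - Fintype.card K + 1 - ((Fintype.card K : ℤ) - 2) * ((Fintype.card K : ℤ) + 1) =
      ((3 : ℕ) : ℤ) by push_cast; ring] at this
    exact h3 ((Nat.prime_dvd_prime_iff_eq hp Nat.prime_three).1 (Int.natCast_dvd_natCast.1 this))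
  refine ⟨?_, hq, hq1, hq2⟩
  have h2 : p ≠ 2 := fun e => by
    have := D.q_mod_eight
    exact hq2 (by rw [e]; omega)
  have := hp.two_le
  omega

theorem coprime_split {d : ℕ} (h : d ∣ D.phi) :
    Nat.Coprime d (Fintype.card K ^ 3 * (Fintype.card K - 1) * (Fintype.card K + 1)) := by
  refine Nat.coprime_of_dvd fun p hp h1 h2 => ?_
  obtain ⟨-, a, b, c⟩ := D.prime_phi hp (h1.trans h)
  rcases hp.dvd_mul.1 h2 with h2 | h2
  · rcases hp.dvd_mul.1 h2 with h2 | h2
    exacts [a (hp.dvd_of_dvd_pow h2), b h2]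
  · exact c h2

theorem exists_conj_AP {p : ℕ} [Fact p.Prime] (hp2 : p ≠ 2) (hpq : p ∣ Fintype.card K + 1) {y : Γ}
    (hy : orderOf y = p) : ∃ a : Γ, a⁻¹ * y * a ∈ D.AP ∧ a⁻¹ * y * a ≠ 1 := by
  haveI := D.finite
  have hp : p.Prime := Fact.out
  have hidx : ¬ p ∣ D.AP.index := by
    intro h
    have hi := D.AP.card_mul_index
    rw [D.card_AP, D.card_eq_phi, ← D.four_kp] at hi
    have hk : 0 < D.kp := D.kp_odd.pos
    have e : D.AP.index = Fintype.card K ^ 3 * (Fintype.card K - 1) * 4 * D.phi :=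
      Nat.eq_of_mul_eq_mul_left hk (hi.trans (by ring))
    rw [e] at h
    rcases hp.dvd_mul.1 h with h | h
    · rcases hp.dvd_mul.1 h with h | h
      · rcases hp.dvd_mul.1 h with h | h
        · have := hp.dvd_of_dvd_pow h
          exact hp.not_dvd_one ((Nat.dvd_add_right this).1 hpq)
        · have hq1 : 1 ≤ Fintype.card K := Fintype.card_pos
          have : p ∣ (Fintype.card K + 1) - (Fintype.card K - 1) := Nat.dvd_sub hpq h
          rw [show Fintype.card K + 1 - (Fintype.card K - 1) = 2 by omega] at this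
          exact hp2 ((Nat.prime_dvd_prime_iff_eq hp Nat.prime_two).1 this)
      · exact hp2 ((Nat.prime_dvd_prime_iff_eq hp Nat.prime_two).1 (hp.dvd_of_dvd_pow (show p ∣ 2 ^ 2 from h)))
    · exact (D.prime_phi hp h).2.2.2 hpq
  obtain ⟨a, ha⟩ := exists_conj_mem D.AP hidx hy
  refine ⟨a, ha, fun e => ?_⟩
  rw [← orderOf_conj a y, e, orderOf_one] at hy
  exact hp.ne_one hy.symm

theorem centralizer_AP' (R : Reg D) {x : Γ} (hx : x ∈ D.AP) (h1 : x ≠ 1) : Subgroup.centralizer {x} = D.C0 :=
  let ⟨ρ, hρ⟩ := R.hρ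
  D.centralizer_AP_elt R.hperf ρ hρ hx h1

theorem mem_normalizer_AP' (R : Reg D) {g x : Γ} (hx : x ∈ D.AP) (h1 : x ≠ 1) (h : g * x * g⁻¹ ∈ D.AP) :
    g ∈ Subgroup.normalizer (D.AP : Set Γ) :=
  let ⟨ρ, hρ⟩ := R.hρ
  D.mem_normalizer_AP_of_conj R.hperf ρ hρ hx h1 h

theorem normalizer_AP' (R : Reg D) :
    Nat.card (Subgroup.normalizer (D.AP : Set Γ)) = 6 * (Fintype.card K + 1) ∧
      Subgroup.normalizer (D.AP : Set Γ) = Subgroup.normalizer (D.C0 : Set Γ) :=
  let ⟨ρ, hρ⟩ := R.hρ
  D.normalizer_AP R.hm R.hperf ρ hρ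

theorem exists_phiTorus (R : Reg D) {p : ℕ} (hp : p.Prime) (hpd : p ∣ D.phi) :
    ∃ A, D.PhiTorus A ∧ p ∣ Nat.card A := by
  classical
  haveI := D.finite
  haveI : CharP K 3 := (CharP.charP_iff_prime_eq_zero Nat.prime_three).2 (by exact_mod_cast D.three)
  obtain ⟨ρ, hρ⟩ := R.hρ
  haveI := Fact.mk hp
  have hbig : ∀ l : ℕ, l.Prime → l ∣ D.phi → ∀ y : Γ, orderOf y = l →
      Nat.card (Subgroup.centralizer {y}) ∣ D.phi ∧
      ∀ c d : Γ, Commute c y → Commute d y → Commute c d := by
    intro l hl hld y hy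
    obtain ⟨hl3, hlq, hlq1, hlq2⟩ := D.prime_phi hl hld
    haveI := Fact.mk hl
    constructor
    · have hdvd := Subgroup.card_subgroup_dvd_card (Subgroup.centralizer {y})
      rw [D.card_eq_phi] at hdvd
      refine (Nat.Coprime.dvd_of_dvd_mul_left ?_ hdvd)
      refine Nat.coprime_of_dvd fun s hs h1 h2 => ?_
      haveI := Fact.mk hs
      obtain ⟨c, hc⟩ := exists_prime_orderOf_dvd_card' s h1
      have hco : orderOf (c : Γ) = s := by rw [Subgroup.orderOf_coe, hc]
      have hcy : Commute (c : Γ) y := Subgroup.mem_centralizer_singleton_iff.1 c.2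
      by_cases hs2 : s = 2
      · subst hs2
        obtain ⟨g, hg⟩ := D.conj_jI R.hperf (x := (c : Γ))
          (fun e => by rw [e, orderOf_one] at hco; omega) (by rw [← pow_two, ← hco, pow_orderOf_eq_one])
        have hmem : g⁻¹ * y * g ∈ D.CJ := by
          rw [D.mem_CJ]
          have := commute_conj (g := g) hcy
          rwa [← hg, show g⁻¹ * (g * D.jI * g⁻¹) * g = D.jI by group] at this
        have hd := Subgroup.orderOf_dvd_natCard _ hmem
        rw [orderOf_conj, hy, D.card_CJ] at hd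
        rcases hl.dvd_mul.1 hd with hd | hd
        · rcases hl.dvd_mul.1 hd with hd | hd
          exacts [hlq hd, hlq1 hd]
        · exact hlq2 hd
      · rcases hs.dvd_mul.1 h2 with h2 | h2
        · rcases hs.dvd_mul.1 h2 with h2 | h2
          · have h3 := hs.dvd_of_dvd_pow h2
            rw [D.card_eq] at h3
            have h33 := (Nat.prime_dvd_prime_iff_eq hs Nat.prime_three).1 (hs.dvd_of_dvd_pow h3)
            subst h33
            refine hlq1 ?_
            have := D.three_not_commute (x := (c : Γ)) (y := y) hco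
              (fun e => by rw [e, orderOf_one] at hy; omega) hcy.symm
              (by rw [hy]; intro h; have := (Nat.prime_dvd_prime_iff_eq Nat.prime_three hl).1 h; omega)
            rwa [hy] at this
          · refine hlq1 ?_
            have := D.orderOf_dvd_of_split hs2 h2 hco hcy.symm
            rwa [hy] at this
        · obtain ⟨g, hg, hg1⟩ := D.exists_conj_AP hs2 h2 hco
          have hmem : g⁻¹ * y * g ∈ D.C0 := by
            rw [← D.centralizer_AP' R hg hg1, Subgroup.mem_centralizer_singleton_iff]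
            exact (commute_conj hcy.symm).eq
          have := Subgroup.orderOf_dvd_natCard _ hmem
          rw [orderOf_conj, hy, D.card_C0] at this
          exact hlq2 this
    · intro c d hc hd
      have hoρ : orderOf (ρ y) = l := by rw [orderOf_injective ρ hρ, hy]
      have := centralizer_commute (y := ρ y) (by rw [hoρ]; exact hl.one_lt)
        (by rw [hoρ]; intro s hs hsd; rw [(Nat.prime_dvd_prime_iff_eq hs hl).1 hsd]; omega)
        (by rw [hoρ]; exact hld) (hc.map ρ) (hd.map ρ)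
      exact hρ (by rw [map_mul, map_mul]; exact this)
  have hpΓ : p ∣ Nat.card Γ := by rw [D.card_eq_phi]; exact hpd.trans (dvd_mul_left _ _)
  obtain ⟨y, hy⟩ := exists_prime_orderOf_dvd_card' p hpΓ
  set A := Subgroup.centralizer {y} with hA
  obtain ⟨hAd, hAc⟩ := hbig p hp hpd y hy
  have hyA : y ∈ A := Subgroup.mem_centralizer_singleton_iff.2 rfl
  have hmem : ∀ {c}, c ∈ A → Commute c y := fun h => Subgroup.mem_centralizer_singleton_iff.1 h
  have hpA : p ∣ Nat.card A := hy ▸ Subgroup.orderOf_dvd_natCard _ hyA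
  refine ⟨A, ⟨?_, hAd, ?_, ?_⟩, hpA⟩
  · letI : CommGroup A := { (inferInstance : Group A) with
      mul_comm := fun a b => Subtype.ext (hAc a b (hmem a.2) (hmem b.2)) }
    haveI : IsZGroup A := ⟨fun s hs P => by
      haveI := Fact.mk hs
      by_cases hsA : s ∣ Nat.card A
      · obtain ⟨T, hT⟩ := (P.2.map A.subtype).exists_le_sylow
        haveI := D.sylow_cyclic ρ hρ (p := s) (D.prime_phi hs (hsA.trans hAd)).1 T
        exact isCyclic_of_injective ((A.subtype.comp (P : Subgroup A).subtype).codRestrict (T : Subgroup Γ)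
          fun a => hT ⟨a.1, a.2, rfl⟩) fun a b h => Subtype.ext (Subtype.ext (congrArg Subtype.val h :))
      · refine @isCyclic_of_subsingleton _ _ (Finite.card_le_one_iff_subsingleton.1 ?_)
        obtain ⟨n, hn⟩ := IsPGroup.iff_card.1 P.2
        rcases Nat.eq_zero_or_pos n with rfl | hpos
        · rw [pow_zero] at hn; exact hn.le
        · exact absurd ((dvd_pow_self s hpos.ne').trans (hn ▸ Subgroup.card_subgroup_dvd_card _)) hsA⟩
    infer_instance
  · exact lt_of_lt_of_le hp.one_lt (Nat.le_of_dvd Nat.card_pos hpA)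
  · intro z hz hz1
    obtain ⟨l, hl, hlz⟩ := Nat.exists_prime_and_dvd (show orderOf z ≠ 1 from fun h => hz1 (orderOf_eq_one_iff.1 h))
    have hzo := orderOf_pow_orderOf_div (orderOf_pos z).ne' hlz
    set z' := z ^ (orderOf z / l) with hz'
    obtain ⟨-, hc'⟩ := hbig l hl ((hlz.trans (Subgroup.orderOf_dvd_natCard _ hz)).trans hAd) z' hzo
    have hzz : Commute z z' := Commute.self_pow z _
    have hyz : Commute y z' := (hmem hz).symm.pow_right _
    have hAz : ∀ c ∈ A, Commute c z' := fun c hc => (hAc c z (hmem hc) (hmem hz)).pow_right _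
    ext c
    rw [Subgroup.mem_centralizer_singleton_iff]
    constructor
    · intro hc
      refine Subgroup.mem_centralizer_singleton_iff.2 ?_
      exact (hc' c y ((show Commute c z from hc).pow_right _) hyz).eq
    · intro hc
      exact (hc' c z (hAz c hc) hzz).eq

theorem PhiTorus.conj_mem {A : Subgroup Γ} (hA : D.PhiTorus A) {g z : Γ} (hz : z ∈ A) (h1 : z ≠ 1)
    (h : g * z * g⁻¹ ∈ A) : g ∈ Subgroup.normalizer (A : Set Γ) := by
  rw [Subgroup.mem_normalizer_iff]
  intro a
  conv_lhs => rw [← hA.cent z hz h1]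
  conv_rhs => rw [← hA.cent _ h fun e => h1 (conj_eq_one_iff.1 e)]
  rw [Subgroup.mem_centralizer_singleton_iff, Subgroup.mem_centralizer_singleton_iff]
  constructor
  · intro e
    calc g * a * g⁻¹ * (g * z * g⁻¹) = g * (a * z) * g⁻¹ := by group
      _ = _ := by rw [e]; group
  · intro e
    calc a * z = g⁻¹ * (g * a * g⁻¹ * (g * z * g⁻¹)) * g := by group
      _ = _ := by rw [e]; group

theorem PhiTorus.exists_index {A : Subgroup Γ} (R : Reg D) (hA : D.PhiTorus A) :
    ∃ n : ℕ, n ∣ 6 ∧ Nat.card (Subgroup.normalizer (A : Set Γ)) = n * Nat.card A := by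
  classical
  haveI := D.finite
  haveI := hA.cyclic
  haveI : CharP K 3 := (CharP.charP_iff_prime_eq_zero Nat.prime_three).2 (by exact_mod_cast D.three)
  obtain ⟨ρ, hρ⟩ := R.hρ
  obtain ⟨⟨c, hc⟩, hgen⟩ := IsCyclic.exists_generator (α := A)
  have hco : orderOf c = Nat.card A := by
    rw [← orderOf_eq_card_of_forall_mem_zpowers hgen, Subgroup.orderOf_mk]
  have hc1 : c ≠ 1 := fun e => by
    have := hA.nt
    rw [← hco, e, orderOf_one] at this
    omega
  set N := Subgroup.normalizer (A : Set Γ) with hN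
  have hex : ∀ g : N, ∃ k : ℕ, (g : Γ) * c * (g : Γ)⁻¹ = c ^ k := by
    intro g
    obtain ⟨k, hk⟩ := (Submonoid.mem_powers_iff _ _).1
      (mem_powers_iff_mem_zpowers.2 (hgen ⟨_, (Subgroup.mem_normalizer_iff.1 g.2 c).1 hc⟩))
    exact ⟨k, (congrArg Subtype.val hk).symm⟩
  choose k hk using hex
  have hfo : IsOfFinOrder c := isOfFinOrder_of_finite c
  have heq : ∀ (i j : ℕ), c ^ i = c ^ j → (i : ZMod (Nat.card A)) = j := by
    intro i j h
    rw [hfo.pow_eq_pow_iff_modEq, hco, ← ZMod.natCast_eq_natCast_iff] at h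
    exact h
  let χ : N →* ZMod (Nat.card A) :=
    { toFun := fun g => (k g : ZMod (Nat.card A))
      map_one' := by
        rw [← Nat.cast_one]
        exact heq _ _ (by rw [← hk]; simp)
      map_mul' := fun g h => by
        show (k (g * h) : ZMod (Nat.card A)) = (k g : ZMod (Nat.card A)) * (k h : ZMod (Nat.card A))
        rw [← Nat.cast_mul]
        refine heq _ _ ?_
        rw [← hk, pow_mul, ← hk g, conj_pow, ← hk h]
        push_cast
        group }
  set χu := χ.toHomUnits with hχu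
  have hker : χu.ker = A.subgroupOf N := by
    ext g
    have hiff : (g : Γ) ∈ A ↔ (g : Γ) ∈ Subgroup.centralizer {c} := by rw [hA.cent c hc hc1]
    rw [MonoidHom.mem_ker, Units.ext_iff, Subgroup.mem_subgroupOf, hiff,
      Subgroup.mem_centralizer_singleton_iff, MonoidHom.coe_toHomUnits, Units.val_one, ← mul_inv_eq_iff_eq_mul]
    show (k g : ZMod (Nat.card A)) = 1 ↔ _
    rw [hk g]
    constructor
    · intro h
      rw [← Nat.cast_one, ZMod.natCast_eq_natCast_iff, ← hco, ← hfo.pow_eq_pow_iff_modEq, pow_one] at h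
      exact h
    · intro h
      rw [← Nat.cast_one]
      exact heq _ _ (by rw [h, pow_one])
  have h1 := χu.ker.card_mul_index
  rw [Subgroup.index_ker, hker, Nat.card_congr (Subgroup.subgroupOfEquivOfLe (Subgroup.le_normalizer)).toEquiv] at h1
  refine ⟨Nat.card χu.range, ?_, by rw [← h1]; ring⟩
  have hphi : ((D.phi : ℕ) : ZMod (Nat.card A)) = 0 := (ZMod.natCast_eq_zero_iff _ _).2 hA.dvd
  have hq6 : (Fintype.card K : ZMod (Nat.card A)) ^ 6 = 1 := by
    have h3 : (Fintype.card K : ZMod (Nat.card A)) ^ 3 = -1 := by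
      have := congrArg (fun x : ℕ => (x : ZMod (Nat.card A))) D.cube_add_one
      simp only [Nat.cast_add, Nat.cast_pow, Nat.cast_one, Nat.cast_mul, hphi, mul_zero] at this
      exact eq_neg_of_add_eq_zero_left this
    rw [show (6 : ℕ) = 3 * 2 from rfl, pow_mul, h3, neg_one_sq]
  let qu : (ZMod (Nat.card A))ˣ := Units.ofPowEqOne _ 6 hq6 (by norm_num)
  have hrange : χu.range ≤ Subgroup.zpowers qu := by
    rintro _ ⟨g, rfl⟩
    have hρo : orderOf (ρ c) = Nat.card A := by rw [orderOf_injective ρ hρ, hco]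
    obtain ⟨e, -, he⟩ := conj_pow_eq_frob (y := ρ c) (g := ρ (g : Γ)) (k := k g) (by rw [hρo]; exact hA.nt)
      (by rw [hρo]; exact fun s hs h => (D.prime_phi hs (h.trans hA.dvd)).1) (by rw [hρo]; exact hA.dvd)
      (by rw [← map_inv, ← map_mul, ← map_mul, hk g, map_pow])
    rw [hρo] at he
    have : χu g = (qu ^ e)⁻¹ := by
      rw [eq_inv_iff_mul_eq_one, Units.ext_iff]
      push_cast
      exact he
    rw [this]
    exact inv_mem (Subgroup.pow_mem _ (Subgroup.mem_zpowers _) e)
  refine (Subgroup.card_dvd_of_le hrange).trans ?_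
  rw [Nat.card_zpowers]
  exact orderOf_dvd_of_pow_eq_one (Units.ext (by simpa [qu] using hq6))

theorem PhiTorus.card_conj {A : Subgroup Γ} (hA : D.PhiTorus A) :
    Nat.card (conjSet ((A : Set Γ) \ {1})) * Nat.card (Subgroup.normalizer (A : Set Γ)) =
      Nat.card Γ * (Nat.card A - 1) := by
  haveI := D.finite
  rw [card_conjSet ((A : Set Γ) \ {1}) (Subgroup.normalizer (A : Set Γ))
    (fun n hn x hx => ⟨(Subgroup.mem_normalizer_iff.1 hn x).1 hx.1, fun e => hx.2 (conj_eq_one_iff.1 e)⟩)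
    (fun g x hx hgx => hA.conj_mem D hx.1 hx.2 hgx.1), Nat.card_coe_set_eq,
    Set.ncard_sdiff (by simpa using one_mem A), Set.ncard_singleton, ← Nat.card_coe_set_eq]
  rfl

theorem PhiTorus.not_dvd_index {A : Subgroup Γ} (R : Reg D) (hA : D.PhiTorus A) {p : ℕ} (hp : p.Prime)
    (hpA : p ∣ Nat.card A) : ¬ p ∣ A.index := by
  classical
  haveI := D.finite
  haveI := Fact.mk hp
  obtain ⟨ρ, hρ⟩ := R.hρ
  obtain ⟨y, hy⟩ := exists_prime_orderOf_dvd_card' p hpA
  have hyo : orderOf (y : Γ) = p := by rw [Subgroup.orderOf_coe, hy]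
  obtain ⟨S, hS⟩ := (IsPGroup.of_card (G := Subgroup.zpowers (y : Γ)) (p := p) (n := 1)
    (by rw [Nat.card_zpowers, hyo, pow_one])).exists_le_sylow
  haveI := D.sylow_cyclic ρ hρ (D.prime_phi hp (hpA.trans hA.dvd)).1 S
  letI : CommGroup (S : Subgroup Γ) := IsCyclic.commGroup
  have hSA : (S : Subgroup Γ) ≤ A := by
    intro s hs
    rw [← hA.cent y y.2 fun e => by rw [e, orderOf_one] at hyo; exact hp.ne_one hyo.symm,
      Subgroup.mem_centralizer_singleton_iff]
    exact congrArg Subtype.val (mul_comm (⟨s, hs⟩ : (S : Subgroup Γ)) ⟨y, hS (Subgroup.mem_zpowers _)⟩)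
  exact fun h => S.not_dvd_index (h.trans (Subgroup.index_dvd_of_le hSA))

theorem PhiTorus.mem_conj {A : Subgroup Γ} (R : Reg D) (hA : D.PhiTorus A) {g : Γ} {p : ℕ} (hp : p.Prime)
    (hpA : p ∣ Nat.card A) (hg : p ∣ orderOf g) : g ∈ conjSet ((A : Set Γ) \ {1}) := by
  haveI := D.finite
  haveI := Fact.mk hp
  have hy := orderOf_pow_orderOf_div (orderOf_pos g).ne' hg
  obtain ⟨a, ha⟩ := exists_conj_mem A (hA.not_dvd_index D R hp hpA) hy
  have hne : a⁻¹ * g ^ (orderOf g / p) * a ≠ 1 := fun e => by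
    rw [← orderOf_conj a, e, orderOf_one] at hy
    exact hp.ne_one hy.symm
  refine ⟨a, a⁻¹ * g * a, ⟨?_, fun e => ?_⟩, by group⟩
  · rw [← hA.cent _ ha hne, SetLike.mem_coe, Subgroup.mem_centralizer_singleton_iff]
    exact (commute_conj (Commute.self_pow g _)).eq
  · rw [Set.mem_singleton_iff] at e
    rw [← orderOf_conj a g, e, orderOf_one] at hg
    exact hp.not_dvd_one hg

/-- Every non-trivial element is an involution, or has order divisible by three, or lies in a conjugate
of one of the tori. -/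
theorem classify (R : Reg D) {g : Γ} (hg : g ≠ 1) :
    orderOf g = 2 ∨ 3 ∣ orderOf g ∨ g ∈ conjSet D.XH ∨ g ∈ conjSet D.X0 ∨
      ∃ p, p.Prime ∧ p ∣ D.phi ∧ p ∣ orderOf g := by
  classical
  haveI := D.finite
  by_cases hodd : ∃ p, p.Prime ∧ p ≠ 2 ∧ p ∣ orderOf g
  · obtain ⟨p, hp, hp2, hpg⟩ := hodd
    haveI := Fact.mk hp
    by_cases hp3 : p = 3
    · exact Or.inr (Or.inl (hp3 ▸ hpg))
    have hy := orderOf_pow_orderOf_div (orderOf_pos g).ne' hpg
    have hpΓ : p ∣ Nat.card Γ := hpg.trans (orderOf_dvd_natCard g)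
    rw [D.card_eq_phi] at hpΓ
    have hcm : Commute g (g ^ (orderOf g / p)) := Commute.self_pow g _
    rcases hp.dvd_mul.1 hpΓ with h | h
    · rcases hp.dvd_mul.1 h with h | h
      · rcases hp.dvd_mul.1 h with h | h
        · rw [D.card_eq] at h
          exact absurd ((Nat.prime_dvd_prime_iff_eq hp Nat.prime_three).1
            (hp.dvd_of_dvd_pow (hp.dvd_of_dvd_pow h))) hp3
        · obtain ⟨a, z, hz, h1, h2⟩ := D.exists_conj_H hp2 h hy
          have hmem : a⁻¹ * g * a ∈ D.H.range := by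
            rw [← D.centralizer_H h1 h2, Subgroup.mem_centralizer_singleton_iff, ← hz]
            exact (commute_conj hcm).eq
          obtain ⟨z', hz'⟩ := hmem
          have hne : ∀ z'' : Kˣ, z'' ^ 2 = 1 → z' ≠ z'' := fun z'' h e => by
            have hd : orderOf (a⁻¹ * g * a) ∣ 2 := orderOf_dvd_of_pow_eq_one (by
              rw [← hz', e, ← map_pow, h, map_one])
            rw [orderOf_conj] at hd
            exact hp2 ((Nat.prime_dvd_prime_iff_eq hp Nat.prime_two).1 (hpg.trans hd))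
          refine Or.inr (Or.inr (Or.inl ⟨a, _, ⟨z', hz'.symm, fun e => ?_, fun e => ?_⟩, by group⟩))
          · exact hne 1 (one_pow _) (Units.ext e)
          · exact hne (-1) (by simp) (Units.ext e)
      · obtain ⟨a, ha, ha1⟩ := D.exists_conj_AP hp2 h hy
        refine Or.inr (Or.inr (Or.inr (Or.inl ⟨a, a⁻¹ * g * a, ⟨?_, fun e => ?_⟩, by group⟩)))
        · rw [← D.centralizer_AP' R ha ha1, Subgroup.mem_centralizer_singleton_iff]
          exact (commute_conj hcm).eq
        · have hd : orderOf (a⁻¹ * g * a) ∣ 2 := orderOf_dvd_of_pow_eq_one (by rw [pow_two, e])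
          rw [orderOf_conj] at hd
          exact hp2 ((Nat.prime_dvd_prime_iff_eq hp Nat.prime_two).1 (hpg.trans hd))
    · exact Or.inr (Or.inr (Or.inr (Or.inr ⟨p, hp, h, hpg⟩)))
  · left
    push_neg at hodd
    haveI := Fact.mk Nat.prime_two
    obtain ⟨n, -, hn⟩ : ∃ n, n ≤ orderOf g ∧ orderOf g = 2 ^ n := by
      refine ⟨(orderOf g).primeFactorsList.length, ?_, Nat.eq_prime_pow_of_unique_prime_dvd (orderOf_pos g).ne'
        fun {d} hd hdd => ?_⟩
      · have := Nat.eq_prime_pow_of_unique_prime_dvd (orderOf_pos g).ne'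
          (fun {d} hd hdd => (by by_contra h; exact hodd d hd h hdd : d = 2))
        exact (Nat.lt_two_pow_self).le.trans this.symm.le
      · by_contra h
        exact hodd d hd h hdd
    obtain ⟨S, hS⟩ := (IsPGroup.of_card (G := Subgroup.zpowers g) (p := 2) (n := n)
      (by rw [Nat.card_zpowers, hn])).exists_le_sylow
    exact orderOf_eq_prime (by rw [pow_two]; exact (D.sylow_two S).2 g (hS (Subgroup.mem_zpowers g))) hg

end Dat

end Cfsg.Agent.Ree
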