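import Cfsg.Agent.Lib.Ree.NormTwo
import Cfsg.Agent.Lib.Ree.TorusH
import Cfsg.Agent.Lib.Ree.SylowOdd
import Cfsg.Agent.Lib.Ree.Conj

/-!
The torus of order `(q + 1) / 4` of a small Ree group and the associated four-group.
-/

set_option autoImplicit false
set_option linter.unusedSectionVars false

namespace Cfsg.Agent.Ree

open scoped MatrixGroups
open Cfsg.Agent

universe u v

variable {K : Type u} [Field K] [Fintype K] {Γ : Type v} [Group Γ] {m : ℕ} (D : Dat K Γ m)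

namespace Dat

/-- The order of the smaller torus. -/
abbrev kp (_ : Dat K Γ m) : ℕ := (Fintype.card K + 1) / 4

include D

theorem q_mod_eight : Fintype.card K % 8 = 3 := by
  rw [D.card_eq, pow_succ, pow_mul]; simp [Nat.mul_mod, Nat.pow_mod]

theorem four_kp : 4 * D.kp = Fintype.card K + 1 := by
  have := D.q_mod_eight; unfold kp; omega

theorem kp_odd : Odd D.kp := by
  rw [Nat.odd_iff]
  have := D.q_mod_eight; unfold kp; omega

theorem kp_one_lt (hm : 1 ≤ m) : 1 < D.kp := by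
  have h : 3 ^ 3 ≤ Fintype.card K := D.card_eq ▸ Nat.pow_le_pow_right (by norm_num) (by omega)
  unfold kp; omega

theorem prime_kp {p : ℕ} (hp : p.Prime) (h : p ∣ D.kp) :
    3 < p ∧ ¬ p ∣ Fintype.card K ∧ ¬ p ∣ Fintype.card K - 1 := by
  have h1 : p ∣ Fintype.card K + 1 := h.trans ⟨4, by rw [← D.four_kp]; ring⟩
  have h2 : p ≠ 2 := fun e => by
    have := Nat.odd_iff.1 D.kp_odd
    rw [e] at h; omega
  have hq : ¬ p ∣ Fintype.card K := fun hd => hp.not_dvd_one ((Nat.dvd_add_right hd).1 h1)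
  refine ⟨?_, hq, fun hd => h2 ((Nat.prime_dvd_prime_iff_eq hp Nat.prime_two).1 ?_)⟩
  · have h3 : p ≠ 3 := fun e => hq (by rw [e, D.card_eq]; exact dvd_pow_self 3 (by omega))
    have := hp.two_le; omega
  · have := Fintype.one_lt_card (α := K)
    exact (Nat.dvd_add_right hd).1 (by rwa [show Fintype.card K - 1 + 2 = Fintype.card K + 1 by omega])

theorem qI_noEig : SL2.NoEig (qI : SL(2, K)) := by
  rw [SL2.noEig_iff]
  intro a ha
  have htr : SL2.tr (qI : SL(2, K)) = 0 := by simp [SL2.tr, coe_qI]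
  rw [htr] at ha
  have : IsSquare (-1 : K) := ⟨a, by linear_combination ha⟩
  rw [FiniteField.isSquare_neg_one_iff] at this
  have := D.q_mod_eight
  omega

theorem qI_tr : SL2.tr (qI : SL(2, K)) ^ 2 ≠ 4 := D.qI_noEig.tr_sq

theorem qI_inv : (qI : SL(2, K))⁻¹ = -qI := by
  apply inv_eq_of_mul_eq_one_right
  rw [mul_neg, D.qI_sq, neg_neg]

theorem ψ_card_range {S : Subgroup SL(2, K)} (hS : -1 ∈ S) : 2 * Nat.card (S.map D.ψ) = Nat.card S := by
  classical
  let f := D.ψ.subgroupMap S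
  have hf : Function.Surjective f := D.ψ.subgroupMap_surjective _
  have h1 := f.ker.card_mul_index
  rw [Subgroup.index_ker, MonoidHom.range_eq_top.2 hf, Subgroup.card_top] at h1
  have hne : (-1 : SL(2, K)) ≠ 1 := fun e => by
    have h0 := congrArg (fun g : SL(2, K) => g.1 0 0) e
    simp at h0
    exact D.two_ne (by linear_combination -h0)
  have h2 : Nat.card f.ker = 2 := by
    rw [Nat.card_eq_two_iff]
    refine ⟨⟨1, one_mem _⟩, ⟨⟨-1, hS⟩, MonoidHom.mem_ker.2 (Subtype.ext D.ψ_neg)⟩,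
      fun e => hne (congrArg (fun x : f.ker => x.1.1) e).symm, ?_⟩
    refine Set.eq_univ_of_forall fun x => ?_
    rcases D.ψ_eq_one_or_jI (Or.inl (congrArg Subtype.val x.2)) with e | e
    · exact Or.inl (Subtype.ext (Subtype.ext e))
    · exact Or.inr (Subtype.ext (Subtype.ext e))
  rw [h2] at h1
  exact h1

/-- The cyclic torus of order `(q + 1) / 2`. -/
def TP : Subgroup Γ := (SL2.cent (qI : SL(2, K))).map D.ψ

theorem card_TP : Nat.card D.TP = 2 * D.kp := by
  have h := D.ψ_card_range (S := SL2.cent (qI : SL(2, K))) (SL2.mem_cent.2 (by simp))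
  rw [(SL2.card_cent_noEig D.qI_noEig).1] at h
  have := D.four_kp
  change 2 * Nat.card D.TP = _ at h
  omega

theorem isCyclic_TP : IsCyclic D.TP := by
  haveI := SL2.isCyclic_cent D.qI_tr
  exact isCyclic_of_surjective (D.ψ.subgroupMap (SL2.cent qI)) (D.ψ.subgroupMap_surjective _)

theorem eI_mem_TP (F : D.Four) : D.eI F ∈ D.TP := ⟨qI, SL2.self_mem_cent _, rfl⟩

theorem TP_comm {g h : Γ} (hg : g ∈ D.TP) (hh : h ∈ D.TP) : Commute g h := by
  letI := D.isCyclic_TP
  letI : CommGroup D.TP := IsCyclic.commGroup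
  exact congrArg Subtype.val (mul_comm (⟨g, hg⟩ : D.TP) ⟨h, hh⟩)

theorem jI_comm_TP {g : Γ} (hg : g ∈ D.TP) : Commute D.jI g := by
  obtain ⟨x, -, rfl⟩ := hg
  exact D.ψ_comm x

/-- The centraliser of the smaller torus. -/
def C0 : Subgroup Γ where
  carrier := {g | g ∈ D.TP ∨ D.jI * g ∈ D.TP}
  one_mem' := Or.inl (one_mem _)
  mul_mem' := by
    rintro a b (ha | ha) (hb | hb)
    · exact Or.inl (mul_mem ha hb)
    · refine Or.inr ?_
      rw [← mul_assoc, (D.jI_comm_TP ha).eq, mul_assoc]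
      exact mul_mem ha hb
    · exact Or.inr (by rw [← mul_assoc]; exact mul_mem ha hb)
    · refine Or.inl ?_
      have hc : Commute D.jI a := by
        have := (Commute.refl D.jI).mul_right (D.jI_comm_TP ha)
        rwa [← mul_assoc, D.jI_sq, one_mul] at this
      rw [show a * b = a * (D.jI * D.jI) * b by rw [D.jI_sq, mul_one], ← mul_assoc a, ← hc.eq, mul_assoc]
      exact mul_mem ha hb
  inv_mem' := by
    rintro a (ha | ha)
    · exact Or.inl (inv_mem ha)
    · refine Or.inr ?_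
      have hc : Commute D.jI a := by
        have := (Commute.refl D.jI).mul_right (D.jI_comm_TP ha)
        rwa [← mul_assoc, D.jI_sq, one_mul] at this
      rw [show D.jI * a⁻¹ = (D.jI * a)⁻¹ by
        rw [mul_inv_rev, inv_eq_of_mul_eq_one_right D.jI_sq, hc.inv_right.eq]]
      exact inv_mem ha

theorem mem_C0 {g : Γ} : g ∈ D.C0 ↔ g ∈ D.TP ∨ D.jI * g ∈ D.TP := Iff.rfl

theorem jI_not_TP : D.jI ∉ D.TP := fun ⟨x, _, hx⟩ => D.ψ_ne_jI x hx

theorem jI_mem_C0 : D.jI ∈ D.C0 := Or.inr (by rw [D.jI_sq]; exact one_mem _)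

theorem card_C0 : Nat.card D.C0 = Fintype.card K + 1 := by
  classical
  haveI := D.finite
  let f : D.TP ⊕ D.TP → D.C0 := Sum.elim (fun g => ⟨g, Or.inl g.2⟩)
    (fun g => ⟨D.jI * g, Or.inr (by rw [← mul_assoc, D.jI_sq, one_mul]; exact g.2)⟩)
  have hf : Function.Bijective f := by
    constructor
    · rintro (a | a) (b | b) h <;> replace h := congrArg Subtype.val h <;>
        simp only [f, Sum.elim_inl, Sum.elim_inr] at h
      · rw [Subtype.ext h]
      · exact absurd ((Subgroup.mul_mem_cancel_right _ b.2).1 (h ▸ a.2)) D.jI_not_TP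
      · exact absurd ((Subgroup.mul_mem_cancel_right _ a.2).1 (h.symm ▸ b.2)) D.jI_not_TP
      · rw [Subtype.ext (mul_left_cancel h)]
    · rintro ⟨g, hg | hg⟩
      · exact ⟨Sum.inl ⟨g, hg⟩, rfl⟩
      · exact ⟨Sum.inr ⟨_, hg⟩, Subtype.ext (show D.jI * (D.jI * g) = g by rw [← mul_assoc, D.jI_sq, one_mul])⟩
  rw [← Nat.card_eq_of_bijective f hf, Nat.card_sum, D.card_TP, ← D.four_kp]
  ring

theorem C0_comm {g h : Γ} (hg : g ∈ D.C0) (hh : h ∈ D.C0) : Commute g h := by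
  have e : ∀ a : Γ, a = D.jI * (D.jI * a) := fun a => by rw [← mul_assoc, D.jI_sq, one_mul]
  rcases hg with hg | hg <;> rcases hh with hh | hh
  · exact D.TP_comm hg hh
  · rw [e h]; exact (D.jI_comm_TP hg).symm.mul_right (D.TP_comm hg hh)
  · rw [e g]; exact (D.jI_comm_TP hh).mul_left (D.TP_comm hg hh)
  · rw [e g, e h]
    exact ((Commute.refl _).mul_right (D.jI_comm_TP hh)).mul_left
      ((D.jI_comm_TP hg).symm.mul_right (D.TP_comm hg hh))

/-- The smaller torus. -/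
def AP : Subgroup Γ where
  carrier := {g | g ∈ D.C0 ∧ g ^ D.kp = 1}
  one_mem' := ⟨one_mem _, one_pow _⟩
  mul_mem' := fun ha hb => ⟨mul_mem ha.1 hb.1, by rw [(D.C0_comm ha.1 hb.1).mul_pow, ha.2, hb.2, one_mul]⟩
  inv_mem' := fun ha => ⟨inv_mem ha.1, by rw [inv_pow, ha.2, inv_one]⟩

theorem mem_AP {g : Γ} : g ∈ D.AP ↔ g ∈ D.C0 ∧ g ^ D.kp = 1 := Iff.rfl

theorem jI_pow_odd {n : ℕ} (hn : Odd n) : D.jI ^ n = D.jI := by
  obtain ⟨i, rfl⟩ := hn
  rw [pow_succ, pow_mul, pow_two, D.jI_sq, one_pow, one_mul]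

theorem AP_le_TP : D.AP ≤ D.TP := by
  rintro g ⟨hg | hg, hk⟩
  · exact hg
  · exfalso
    refine D.jI_not_TP ?_
    have h := pow_mem hg D.kp
    rwa [(D.C0_comm D.jI_mem_C0 (Or.inr hg)).mul_pow, hk, mul_one, D.jI_pow_odd D.kp_odd] at h

theorem isCyclic_AP : IsCyclic D.AP :=
  haveI := D.isCyclic_TP
  isCyclic_of_injective (Subgroup.inclusion D.AP_le_TP) (Subgroup.inclusion_injective _)

theorem card_AP : Nat.card D.AP = D.kp := by
  classical
  haveI := D.finite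
  haveI := D.isCyclic_TP
  obtain ⟨⟨c, hc⟩, hgen⟩ := IsCyclic.exists_generator (α := D.TP)
  have ho : orderOf c = 2 * D.kp := by
    rw [← D.card_TP, ← orderOf_eq_card_of_forall_mem_zpowers hgen, Subgroup.orderOf_mk]
  have hle : Subgroup.zpowers (c ^ 2) = D.AP := by
    refine le_antisymm (Subgroup.zpowers_le.2 ⟨Or.inl (pow_mem hc 2), ?_⟩) fun g hg => ?_
    · rw [← pow_mul, ← ho, pow_orderOf_eq_one]
    · obtain ⟨i, hi⟩ := (Submonoid.mem_powers_iff _ _).1
        (mem_powers_iff_mem_zpowers.2 (hgen ⟨g, D.AP_le_TP hg⟩))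
      have hi' : c ^ i = g := congrArg Subtype.val hi
      have h := hg.2
      rw [← hi', ← pow_mul, ← orderOf_dvd_iff_pow_eq_one, ho,
        Nat.mul_dvd_mul_iff_right (by have := D.kp_odd; exact this.pos)] at h
      obtain ⟨l, rfl⟩ := h
      exact Subgroup.mem_zpowers_iff.2 ⟨l, by rw [zpow_natCast, ← pow_mul, hi']⟩
  rw [← hle, Nat.card_zpowers, orderOf_pow_of_dvd (by norm_num) (ho ▸ dvd_mul_right _ _), ho]
  omega

/-- The four-group of the torus involution and `eI`. -/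
def E4 (F : D.Four) : Subgroup Γ := ((Subgroup.zpowers D.jI) ⊔ (Subgroup.zpowers (D.eI F)))

theorem E4_le (F : D.Four) : D.E4 F ≤ D.C0 :=
  sup_le (Subgroup.zpowers_le.2 D.jI_mem_C0) (Subgroup.zpowers_le.2 (Or.inl (D.eI_mem_TP F)))

theorem card_E4 (F : D.Four) : Nat.card (D.E4 F) = 4 := by
  classical
  haveI := D.finite
  have h : D.E4 F = ((D.f8 F).comp (MonoidHom.prodMap (MonoidHom.id _)
      (MonoidHom.inl (Multiplicative (ZMod 2)) (Multiplicative (ZMod 2))))).range := by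
    refine le_antisymm (sup_le (Subgroup.zpowers_le.2 ⟨(Multiplicative.ofAdd 1, 1), ?_⟩)
      (Subgroup.zpowers_le.2 ⟨(1, Multiplicative.ofAdd 1), ?_⟩)) ?_
    · show D.f8 F (Multiplicative.ofAdd 1, 1, 1) = _
      rw [D.f8_apply, hom2_one, map_one, map_one, mul_one, mul_one]
    · show D.f8 F (1, Multiplicative.ofAdd 1, 1) = _
      rw [D.f8_apply, hom2_one, map_one, map_one, one_mul, mul_one]
    · rintro _ ⟨⟨a, b⟩, rfl⟩
      show D.f8 F (a, b, 1) ∈ _
      rw [D.f8_apply, map_one, mul_one]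
      refine mul_mem (Subgroup.mem_sup_left ?_) (Subgroup.mem_sup_right ?_)
      · rcases hom2_cases D.jI D.jI_sq a with ⟨-, e⟩ | ⟨-, e⟩ <;> rw [e]
        exacts [one_mem _, Subgroup.mem_zpowers _]
      · rcases hom2_cases (D.eI F) (D.eI_sq F) b with ⟨-, e⟩ | ⟨-, e⟩ <;> rw [e]
        exacts [one_mem _, Subgroup.mem_zpowers _]
  rw [h, ← Nat.card_congr (MonoidHom.ofInjective ?_).toEquiv]
  · rw [Nat.card_prod, Nat.card_congr Multiplicative.toAdd, Nat.card_zmod]
  · rintro ⟨a, b⟩ ⟨a', b'⟩ e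
    have e1 := D.f8_inj F e
    simp only [MonoidHom.prodMap_def, MonoidHom.prod_apply, MonoidHom.coe_comp, MonoidHom.coe_fst,
      MonoidHom.coe_snd, Function.comp_apply, MonoidHom.id_apply, MonoidHom.inl_apply, Prod.mk.injEq] at e1
    rw [e1.1, e1.2.1]

theorem E4_cases (F : D.Four) {g : Γ} (hg : g ∈ D.E4 F) :
    g = 1 ∨ g = D.jI ∨ g = D.eI F ∨ g = D.jI * D.eI F := by
  haveI := D.finite
  rw [E4, ← Subgroup.closure_eq (Subgroup.zpowers D.jI), ← Subgroup.closure_eq (Subgroup.zpowers (D.eI F)),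
    ← Subgroup.closure_union] at hg
  refine Subgroup.closure_induction (p := fun g _ => g = 1 ∨ g = D.jI ∨ g = D.eI F ∨ g = D.jI * D.eI F)
    ?_ (Or.inl rfl) ?_ ?_ hg
  · rintro x (hx | hx)
    · obtain ⟨i, rfl⟩ := (Submonoid.mem_powers_iff _ _).1 (mem_powers_iff_mem_zpowers.2 hx)
      obtain ⟨l, rfl | rfl⟩ := Nat.even_or_odd' i
      · rw [pow_mul, pow_two, D.jI_sq, one_pow]; simp
      · rw [D.jI_pow_odd ⟨l, rfl⟩]; simp
    · obtain ⟨i, rfl⟩ := (Submonoid.mem_powers_iff _ _).1 (mem_powers_iff_mem_zpowers.2 hx)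
      obtain ⟨l, rfl | rfl⟩ := Nat.even_or_odd' i
      · rw [pow_mul, pow_two, D.eI_sq, one_pow]; simp
      · rw [pow_succ, pow_mul, pow_two, D.eI_sq, one_pow, one_mul]; simp
  · have hc : Commute D.jI (D.eI F) := D.ψ_comm _
    have e1 := D.jI_sq; have e2 := D.eI_sq F
    have e3 : ∀ a : Γ, D.jI * (D.jI * a) = a := fun a => by rw [← mul_assoc, e1, one_mul]
    have e4 : D.eI F * D.jI = D.jI * D.eI F := hc.eq.symm
    have e5 : D.eI F * (D.jI * D.eI F) = D.jI := by rw [← mul_assoc, e4, mul_assoc, e2, mul_one]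
    have e6 : D.jI * D.eI F * D.jI = D.eI F := by rw [mul_assoc, e4, e3]
    have e7 : D.jI * D.eI F * (D.jI * D.eI F) = 1 := by rw [← mul_assoc, e6, e2]
    have e8 : D.jI * D.eI F * D.eI F = D.jI := by rw [mul_assoc, e2, mul_one]
    rintro x y - - (rfl | rfl | rfl | rfl) (rfl | rfl | rfl | rfl) <;>
      simp [e1, e2, e3, e4, e5, e6, e7, e8]
  · have e7 : (D.jI * D.eI F)⁻¹ = D.jI * D.eI F := by
      rw [mul_inv_rev, inv_eq_of_mul_eq_one_right (D.eI_sq F), inv_eq_of_mul_eq_one_right D.jI_sq]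
      exact (D.ψ_comm _).eq.symm
    rintro x - (rfl | rfl | rfl | rfl)
    · simp
    · rw [inv_eq_of_mul_eq_one_right D.jI_sq]; simp
    · rw [inv_eq_of_mul_eq_one_right (D.eI_sq F)]; simp
    · rw [e7]; simp

theorem E4_sq (F : D.Four) {g : Γ} (hg : g ∈ D.E4 F) : g * g = 1 := by
  have hc : Commute D.jI (D.eI F) := D.ψ_comm _
  rcases D.E4_cases F hg with rfl | rfl | rfl | rfl
  · exact mul_one _
  · exact D.jI_sq
  · exact D.eI_sq F
  · rw [← pow_two, hc.mul_pow, pow_two, pow_two, D.jI_sq, D.eI_sq, one_mul]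

/-- An element centralising the four-group lies in the centraliser of the torus or squares to one. -/
theorem cent_E4_cases (F : D.Four) {g : Γ} (h1 : Commute D.jI g) (h2 : Commute (D.eI F) g) :
    ∃ x, (x * qI * x⁻¹ = qI ∨ x * qI * x⁻¹ = (qI : SL(2, K))⁻¹) ∧ (g = D.ψ x ∨ g = D.jI * D.ψ x) ∧
      (g ∈ D.C0 ∨ g * g = 1) := by
  obtain ⟨x, hx⟩ := D.CJ_cases h1
  have hI : D.eI F * D.ψ x = D.ψ x * D.eI F := by
    rcases hx with rfl | rfl
    · exact h2.eq
    · have := h2.eq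
      rwa [← mul_assoc, ← (D.ψ_comm qI).eq, mul_assoc, mul_assoc, mul_right_inj] at this
  rw [eI, ← map_mul, ← map_mul, D.ψ_eq_iff] at hI
  refine ⟨x, ?_, hx, ?_⟩
  · rcases hI with e | e
    · left; rw [e, mul_inv_cancel_right]
    · right; rw [e, neg_mul, mul_inv_cancel_right, D.qI_inv]
  rcases hI with e | e
  · left
    have hm : D.ψ x ∈ D.TP := ⟨x, SL2.mem_cent.2 e.symm, rfl⟩
    rcases hx with rfl | rfl
    · exact Or.inl hm
    · exact Or.inr (by rwa [← mul_assoc, D.jI_sq, one_mul])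
  · right
    have hsq : x * x = -1 := by
      have e00 := congrArg (fun g : SL(2, K) => g.1 0 1) e
      simp [Matrix.SpecialLinearGroup.coe_mul, coe_qI, Matrix.mul_apply, Fin.sum_univ_two, Matrix.vecMul, dotProduct] at e00
      refine SL2.sq_neg_one_of_tr ?_
      rw [SL2.tr]
      linear_combination e00
    rcases hx with rfl | rfl
    · exact D.ψ_sq_neg hsq
    · rw [← pow_two, (D.ψ_comm x).mul_pow, pow_two, pow_two, D.jI_sq, D.ψ_sq_neg hsq, one_mul]

theorem mem_AP_iff (F : D.Four) {g : Γ} :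
    g ∈ D.AP ↔ Commute D.jI g ∧ Commute (D.eI F) g ∧ g ^ D.kp = 1 := by
  constructor
  · exact fun h => ⟨D.C0_comm D.jI_mem_C0 h.1, D.C0_comm (Or.inl (D.eI_mem_TP F)) h.1, h.2⟩
  · rintro ⟨h1, h2, h3⟩
    obtain ⟨x, -, -, h | h⟩ := D.cent_E4_cases F h1 h2
    · exact ⟨h, h3⟩
    · obtain ⟨i, hi⟩ := D.kp_odd
      rw [hi, pow_succ, pow_mul, pow_two, h, one_pow, one_mul] at h3
      rw [h3]; exact one_mem _

theorem AP_ne_bot (hm : 1 ≤ m) : D.AP ≠ ⊥ := fun h => by
  have := D.card_AP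
  rw [h, Subgroup.card_bot] at this
  have := D.kp_one_lt hm
  omega

theorem orderOf_dvd_kp {x : Γ} (hx : x ∈ D.AP) : orderOf x ∣ D.kp := orderOf_dvd_of_pow_eq_one hx.2


end Dat

end Cfsg.Agent.Ree
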