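import Cfsg.Agent.Lib.Ree.TorusPlus

/-!
Centralisers and normalisers in the torus of order `(q + 1) / 4` of a small Ree group.
-/

set_option autoImplicit false
set_option linter.unusedSectionVars false

namespace Cfsg.Agent.Ree

open scoped MatrixGroups
open Cfsg.Agent

universe u v

/-- A four-group of involutions, Sylow in a group of order prime to three, is central in its normaliser. -/
theorem normalizer_le_centralizer_of_four {G : Type*} [Group G] [Finite G] [Fact (Nat.Prime 2)]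
    (S : Sylow 2 G) (hS : IsMulCommutative (S : Subgroup G)) (hcard : Nat.card S = 4)
    (h3 : ¬ 3 ∣ Nat.card G) :
    Subgroup.normalizer ((S : Subgroup G) : Set G) ≤ Subgroup.centralizer ((S : Subgroup G) : Set G) := by
  classical
  intro n hn
  set φ := (S : Subgroup G).normalizerMonoidHom with hφ
  set nn : ↥(Subgroup.normalizer ((S : Subgroup G) : Set G)) := ⟨n, hn⟩
  have hdvd : ∀ k : ℕ, φ nn ^ k = 1 → n ^ k ∈ Subgroup.centralizer ((S : Subgroup G) : Set G) := by
    intro k hk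
    rw [Subgroup.mem_centralizer_iff]
    intro s hs
    have h := congrArg (fun e : MulAut ↥(S : Subgroup G) => ((e ⟨s, hs⟩ : ↥(S : Subgroup G)) : G))
      ((map_pow φ nn k).trans hk)
    have h' : n ^ k * s * (n ^ k)⁻¹ = s := h
    exact (mul_inv_eq_iff_eq_mul.1 h').symm
  have h24 : φ nn ^ 24 = 1 := by
    refine MulEquiv.ext fun s => ?_
    have hp : ((φ nn).toEquiv : Equiv.Perm ↥(S : Subgroup G)) ^ 24 = 1 := by
      have := pow_card_eq_one' (x := ((φ nn).toEquiv : Equiv.Perm ↥(S : Subgroup G)))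
      rwa [Nat.card_perm, show Nat.card ↥(S : Subgroup G) = 4 from hcard] at this
    have key : ∀ (k : ℕ) (t : ↥(S : Subgroup G)),
        (φ nn ^ k) t = (((φ nn).toEquiv : Equiv.Perm ↥(S : Subgroup G)) ^ k) t := by
      intro k
      induction k with
      | zero => intro t; rfl
      | succ k ih => intro t; rw [pow_succ, pow_succ, MulAut.mul_apply, Equiv.Perm.mul_apply, ih]; rfl
    rw [key, hp]; rfl
  obtain ⟨a, b, hb, hab⟩ := Nat.exists_eq_two_pow_mul_odd (orderOf_pos n).ne'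
  have hmem : n ^ b ∈ (S : Subgroup G) := by
    have hpg : IsPGroup 2 (Subgroup.zpowers (n ^ b)) := IsPGroup.of_card (n := a) (by
      rw [Nat.card_zpowers, orderOf_pow_of_dvd hb.pos.ne' (hab ▸ dvd_mul_left _ _),
        hab, Nat.mul_div_cancel _ hb.pos])
    have := (IsPGroup.inf_normalizer_sylow hpg S).le
      ⟨Subgroup.mem_zpowers _, pow_mem hn b⟩
    exact this.2
  have hc1 : n ^ b ∈ Subgroup.centralizer ((S : Subgroup G) : Set G) := by
    rw [Subgroup.mem_centralizer_iff]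
    exact fun s hs => congrArg Subtype.val (hS.is_comm.comm ⟨s, hs⟩ ⟨_, hmem⟩)
  have hc2 := hdvd 24 h24
  have hb3 : Nat.Coprime b 24 := by
    have e3 : ¬ 3 ∣ b := fun h => h3 (h.trans ((hab ▸ dvd_mul_left b (2 ^ a) : b ∣ orderOf n).trans
      (orderOf_dvd_natCard n)))
    rw [show (24 : ℕ) = 2 ^ 3 * 3 by norm_num]
    exact Nat.Coprime.mul_right (Nat.coprime_two_right.2 hb |>.pow_right 3)
      ((Nat.prime_three.coprime_iff_not_dvd.2 e3).symm)
  obtain ⟨i, j, hij⟩ : ∃ i j : ℤ, (b : ℤ) * i + 24 * j = 1 :=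
    ⟨Nat.gcdA b 24, Nat.gcdB b 24, by
      have := Nat.gcd_eq_gcd_ab b 24
      rw [hb3.gcd_eq_one] at this
      push_cast at this ⊢
      linarith⟩
  rw [show n = (n ^ b) ^ i * (n ^ 24) ^ j by
    rw [← zpow_natCast n b, ← zpow_natCast n 24, ← zpow_mul, ← zpow_mul, ← zpow_add]
    simp [hij]]
  exact mul_mem (Subgroup.zpow_mem _ hc1 i) (Subgroup.zpow_mem _ hc2 j)

/-- An involution centralises each odd cyclic group normalised by a four-group. -/
theorem exists_inv_commute {G : Type*} [Group G] {p e : ℕ} (hp : p.Prime) (hp2 : p ≠ 2) {y i₁ i₂ : G}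
    (hy : orderOf y = p ^ e) (h1 : i₁ * y * i₁⁻¹ ∈ Subgroup.zpowers y) (hi1 : i₁ * i₁ = 1)
    (h2 : i₂ * y * i₂⁻¹ ∈ Subgroup.zpowers y) (hi2 : i₂ * i₂ = 1) :
    Commute i₁ y ∨ Commute i₂ y ∨ Commute (i₁ * i₂) y := by
  rcases Nat.eq_zero_or_pos e with rfl | he
  · rw [pow_zero, orderOf_eq_one_iff] at hy
    exact Or.inl (hy ▸ Commute.one_right _)
  have key : ∀ i : G, i * i = 1 → i * y * i⁻¹ ∈ Subgroup.zpowers y → Commute i y ∨ i * y * i⁻¹ = y⁻¹ := by
    intro i hi h
    obtain ⟨s, hs⟩ := Subgroup.mem_zpowers_iff.1 h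
    have h' : y ^ (s * s) = y := by
      rw [zpow_mul, hs, conj_zpow, hs,
        show i * (i * y * i⁻¹) * i⁻¹ = (i * i) * y * (i * i)⁻¹ by group, hi]
      simp
    have hd : ((p ^ e : ℕ) : ℤ) ∣ (s - 1) * (s + 1) := by
      rw [← hy, orderOf_dvd_iff_zpow_eq_one, show (s - 1) * (s + 1) = s * s - 1 by ring, zpow_sub, h',
        zpow_one, mul_inv_cancel]
    have hnd : ¬ ((p : ℤ) ∣ s - 1 ∧ (p : ℤ) ∣ s + 1) := fun ⟨a, b⟩ => by
      have hd2 : (p : ℤ) ∣ ((2 : ℕ) : ℤ) := by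
        have hab := dvd_sub b a
        rw [show (s + 1) - (s - 1) = ((2 : ℕ) : ℤ) by push_cast; ring] at hab
        exact hab
      exact hp2 ((Nat.prime_dvd_prime_iff_eq hp Nat.prime_two).1 (Int.natCast_dvd_natCast.1 hd2))
    have hpi : Prime (p : ℤ) := Nat.prime_iff_prime_int.1 hp
    push_cast at hd
    by_cases ha : (p : ℤ) ∣ s - 1
    · have := ((hpi.coprime_iff_not_dvd.2 fun hb => hnd ⟨ha, hb⟩).pow_left (m := e)).dvd_of_dvd_mul_right hd
      left
      have hy1 : y ^ (s - 1) = 1 := orderOf_dvd_iff_zpow_eq_one.1 (by rw [hy]; push_cast; exact this)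
      rw [zpow_sub, zpow_one, mul_inv_eq_one, hs, mul_inv_eq_iff_eq_mul] at hy1
      exact hy1
    · have := ((hpi.coprime_iff_not_dvd.2 ha).pow_left (m := e)).dvd_of_dvd_mul_left hd
      right
      have hy1 : y ^ (s + 1) = 1 := orderOf_dvd_iff_zpow_eq_one.1 (by rw [hy]; push_cast; exact this)
      rw [zpow_add, zpow_one, mul_eq_one_iff_eq_inv, hs] at hy1
      exact hy1
  rcases key i₁ hi1 h1 with c1 | c1
  · exact Or.inl c1
  rcases key i₂ hi2 h2 with c2 | c2
  · exact Or.inr (Or.inl c2)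
  refine Or.inr (Or.inr ?_)
  show i₁ * i₂ * y = y * (i₁ * i₂)
  rw [← mul_inv_eq_iff_eq_mul, show i₁ * i₂ * y * (i₁ * i₂)⁻¹ = i₁ * (i₂ * y * i₂⁻¹) * i₁⁻¹ by group, c2,
    show i₁ * y⁻¹ * i₁⁻¹ = (i₁ * y * i₁⁻¹)⁻¹ by group, c1, inv_inv]

variable {K : Type u} [Field K] [Fintype K] {Γ : Type v} [Group Γ] {m : ℕ} (D : Dat K Γ m)

namespace Dat

include D

theorem exists_conj_H {p : ℕ} [Fact p.Prime] (hp2 : p ≠ 2) (hpq : p ∣ Fintype.card K - 1) {y : Γ}
    (hy : orderOf y = p) : ∃ (g : Γ) (z : Kˣ), g⁻¹ * y * g = D.H z ∧ (z : K) ≠ 1 ∧ (z : K) ≠ -1 := by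
  classical
  haveI := D.finite
  have hp := (Fact.out : p.Prime)
  have hidx : ¬ p ∣ D.H.range.index := by
    intro h
    have hi := D.H.range.card_mul_index
    rw [D.card_range_H, D.card_Γ] at hi
    have hpos : 0 < Fintype.card K - 1 := Nat.sub_pos_of_lt Fintype.one_lt_card
    have e : D.H.range.index = Fintype.card K ^ 3 * (Fintype.card K ^ 3 + 1) :=
      Nat.eq_of_mul_eq_mul_left hpos (hi.trans (by ring))
    rw [e] at h
    have hq1 : 1 ≤ Fintype.card K := Fintype.card_pos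
    have hm := ((Nat.modEq_iff_dvd' hq1).2 hpq).symm
    rcases hp.dvd_mul.1 h with h | h
    · exact hp.not_dvd_one (((hm.pow 3).dvd_iff dvd_rfl).1 h)
    · exact hp2 ((Nat.prime_dvd_prime_iff_eq hp Nat.prime_two).1 ((((hm.pow 3).add_right 1).dvd_iff dvd_rfl).1 h))
  obtain ⟨g, z, hz⟩ := exists_conj_mem D.H.range hidx hy
  have hord : orderOf z = p := by
    rw [← orderOf_injective D.H D.H_inj, hz, orderOf_conj, hy]
  refine ⟨g, z, hz.symm, fun e => ?_, fun e => ?_⟩
  · rw [show z = 1 from Units.ext e, orderOf_one] at hord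
    exact hp.ne_one hord.symm
  · have h2 : z ^ 2 = 1 := Units.ext (by push_cast; rw [e]; ring)
    have := orderOf_dvd_of_pow_eq_one h2
    rw [hord] at this
    exact hp2 ((Nat.prime_dvd_prime_iff_eq hp Nat.prime_two).1 this)

/-- An element commuting with an element of prime order dividing `q - 1` has order dividing `q - 1`. -/
theorem orderOf_dvd_of_split {p : ℕ} [Fact p.Prime] (hp2 : p ≠ 2) (hpq : p ∣ Fintype.card K - 1) {y c : Γ}
    (hy : orderOf y = p) (hc : Commute c y) : orderOf c ∣ Fintype.card K - 1 := by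
  classical
  haveI := D.finite
  obtain ⟨g, z, hz, h1, h2⟩ := D.exists_conj_H hp2 hpq hy
  have hmem : g⁻¹ * c * g ∈ D.H.range := by
    rw [← D.centralizer_H h1 h2, Subgroup.mem_centralizer_singleton_iff, ← hz]
    exact (commute_conj hc).eq
  rw [← orderOf_conj g c, ← D.card_range_H]
  exact Subgroup.orderOf_dvd_natCard _ hmem

theorem centralizer_AP_elt (hperf : commutator Γ = ⊤) (ρ : Γ →* GL (Fin 7) K) (hρ : Function.Injective ρ)
    {x : Γ} (hx : x ∈ D.AP) (h1 : x ≠ 1) : Subgroup.centralizer {x} = D.C0 := by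
  classical
  haveI := D.finite
  haveI := Fact.mk Nat.prime_two
  obtain ⟨F⟩ := D.nonempty_four
  set C := Subgroup.centralizer {x} with hC
  have hle : D.C0 ≤ C := fun c hc => Subgroup.mem_centralizer_singleton_iff.2 (D.C0_comm hc hx.1).eq
  refine (Subgroup.eq_of_le_of_card_ge hle ?_).symm
  rw [D.card_C0]
  refine Nat.le_of_dvd (Nat.succ_pos _) ?_
  have hk1 : orderOf x ≠ 1 := fun h => h1 (orderOf_eq_one_iff.1 h)
  obtain ⟨l, hl, hlx⟩ := Nat.exists_prime_and_dvd hk1
  obtain ⟨hl3, hlq, hlq1⟩ := D.prime_kp hl (hlx.trans (D.orderOf_dvd_kp hx))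
  have hxk : ¬ orderOf x ∣ Fintype.card K - 1 := fun h => hlq1 (hlx.trans h)
  have hodd : ¬ 2 ∣ orderOf x := fun h =>
    absurd (h.trans (D.orderOf_dvd_kp hx)) (Nat.two_dvd_ne_zero.2 (Nat.odd_iff.1 D.kp_odd))
  have hcomm : ∀ c : C, Commute (c : Γ) x := fun c => Subgroup.mem_centralizer_singleton_iff.1 c.2
  have h3 : ¬ 3 ∣ Nat.card C := by
    intro h
    haveI := Fact.mk Nat.prime_three
    obtain ⟨y, hy⟩ := exists_prime_orderOf_dvd_card' 3 h
    refine hxk (D.three_not_commute (x := (y : Γ)) (y := x) (by rw [Subgroup.orderOf_coe, hy]) h1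
      (hcomm y).symm fun h' => ?_)
    have := (D.prime_kp Nat.prime_three (h'.trans (D.orderOf_dvd_kp hx))).1
    omega
  -- the Sylow 2-subgroup
  have hE : D.E4 F ≤ C := (D.E4_le F).trans hle
  obtain ⟨S, hS⟩ := (IsPGroup.of_card (n := 2) (G := (D.E4 F).subgroupOf C) (p := 2) (by
    rw [Nat.card_congr (Subgroup.subgroupOfEquivOfLe hE).toEquiv, D.card_E4]; rfl)).exists_le_sylow
  have hsub : ∀ s : C, s ∈ S → (s : Γ) * s = 1 := by
    intro s hs
    obtain ⟨T, hT⟩ := (S.2.map C.subtype).exists_le_sylow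
    exact (D.sylow_two T).2 _ (hT ⟨s, hs, rfl⟩)
  have hScard : Nat.card S = 4 := by
    obtain ⟨T, hT⟩ := (S.2.map C.subtype).exists_le_sylow
    have e1 : Nat.card ((S : Subgroup C).map C.subtype) = Nat.card S :=
      (Nat.card_congr (Subgroup.equivMapOfInjective _ _ (Subgroup.subtype_injective _)).toEquiv).symm
    have e8 : Nat.card S ∣ 8 := e1 ▸ (D.sylow_two T).1 ▸ Subgroup.card_dvd_of_le hT
    have e4 : 4 ∣ Nat.card S := by
      have := Subgroup.card_dvd_of_le hS
      rwa [Nat.card_congr (Subgroup.subgroupOfEquivOfLe hE).toEquiv, D.card_E4] at this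
    rcases (Nat.dvd_prime_pow Nat.prime_two).1 (show Nat.card S ∣ 2 ^ 3 from e8) with ⟨i, hi, e⟩
    interval_cases i <;> rw [e] at e4 ⊢ <;> norm_num at e4
    all_goals try norm_num
    exfalso
    have heq : ((S : Subgroup C).map C.subtype) = T :=
      Subgroup.eq_of_le_of_card_ge hT (by rw [e1, e]; exact (D.sylow_two T).1.le.trans (by norm_num))
    have hxT : x ∈ (T : Subgroup Γ) := by
      rw [← (D.sylow_two_normalizer hperf T).1, Subgroup.mem_centralizer_iff, ← heq]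
      rintro _ ⟨s, -, rfl⟩
      exact (hcomm s).eq
    exact hodd (dvd_of_eq (orderOf_eq_prime (by rw [pow_two]; exact (D.sylow_two T).2 x hxT) h1).symm)
  have hSc : IsMulCommutative (S : Subgroup C) := ⟨⟨fun a b => by
    have sq : ∀ c : (S : Subgroup C), c * c = 1 := fun c => Subtype.ext (Subtype.ext (hsub _ c.2))
    calc a * b = (a * b)⁻¹ := (inv_eq_of_mul_eq_one_right (sq _)).symm
      _ = b * a := by rw [mul_inv_rev, inv_eq_of_mul_eq_one_right (sq a), inv_eq_of_mul_eq_one_right (sq b)]⟩⟩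
  have hN := normalizer_le_centralizer_of_four S hSc hScard h3
  set Q := (MonoidHom.transferSylow S hN).ker with hQ
  have hQC : Nat.card Q * 4 = Nat.card C := by
    rw [← hScard]; exact (MonoidHom.ker_transferSylow_isComplement' S hN).card_mul
  have hQodd : ¬ 2 ∣ Nat.card Q := by
    intro h
    have h8 : 2 ^ 3 ∣ Nat.card C := by
      obtain ⟨j, hj⟩ := h
      exact ⟨j, by rw [← hQC, hj]; ring⟩
    obtain ⟨R, hR⟩ := Sylow.exists_subgroup_card_pow_prime 2 h8
    obtain ⟨R', hR'⟩ := (IsPGroup.of_card (G := R) (p := 2) (n := 3) hR).exists_le_sylow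
    have := Subgroup.card_dvd_of_le hR'
    rw [hR, show Nat.card (R' : Subgroup C) = Nat.card S from Nat.card_congr (R'.equiv S).toEquiv, hScard] at this
    norm_num at this
  have hdk : Nat.card Q ∣ D.kp := by
    rw [Nat.dvd_iff_prime_pow_dvd_dvd]
    intro p e hp hpe
    rcases Nat.eq_zero_or_pos e with rfl | he
    · simp
    haveI := Fact.mk hp
    have hpQ : p ∣ Nat.card Q := (dvd_pow_self p he.ne').trans hpe
    have hp2 : p ≠ 2 := fun h => hQodd (h ▸ hpQ)
    have hpC : p ∣ Nat.card C := hQC ▸ hpQ.trans (dvd_mul_right _ _)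
    have hp3 : p ≠ 3 := fun h => h3 (h ▸ hpC)
    have hpq1 : ¬ p ∣ Fintype.card K - 1 := by
      intro h
      obtain ⟨y, hy⟩ := exists_prime_orderOf_dvd_card' p hpC
      exact hxk (D.orderOf_dvd_of_split hp2 h (y := (y : Γ)) (by rw [Subgroup.orderOf_coe, hy]) (hcomm y).symm)
    obtain ⟨P⟩ : Nonempty (Sylow p Q) := inferInstance
    have hPe : p ^ e ∣ Nat.card P := P.pow_dvd_card_of_pow_dvd_card hpe
    set P' := (P : Subgroup Q).map Q.subtype with hP'
    have hfr := Sylow.normalizer_sup_eq_top P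
    rw [← hP'] at hfr
    set Np := Subgroup.normalizer (P' : Set C) with hNp
    have h4 : 2 ^ 2 ∣ Nat.card Np := by
      have h1 := Subgroup.relIndex_sup_left Np Q
      rw [sup_comm, hfr, Subgroup.relIndex_top_right] at h1
      have hi : Q.index = 4 := (MonoidHom.ker_transferSylow_isComplement' S hN).symm.index_eq_card.trans hScard
      exact (dvd_of_eq (hi.symm.trans h1)).trans (Subgroup.relIndex_dvd_card Q Np)
    obtain ⟨R, hR⟩ := Sylow.exists_subgroup_card_pow_prime 2 h4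
    obtain ⟨R', hR'⟩ := ((IsPGroup.of_card (G := R) (p := 2) (n := 2) hR).map
      ((C.subtype).comp Np.subtype)).exists_le_sylow
    have hRsq : ∀ r ∈ R, ((r : C) : Γ) * r = 1 := fun r hr => (D.sylow_two R').2 _ (hR' ⟨r, hr, rfl⟩)
    obtain ⟨y, hy⟩ : ∃ y : P', Subgroup.zpowers y = ⊤ := by
      haveI : IsCyclic P' := by
        obtain ⟨T, hT⟩ := ((P.2.map Q.subtype).map C.subtype).exists_le_sylow
        haveI := D.sylow_cyclic ρ hρ (p := p) (by
          have := hp.two_le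
          omega) T
        exact isCyclic_of_injective ((C.subtype.comp P'.subtype).codRestrict (T : Subgroup Γ)
          fun a => hT ⟨a.1, a.2, rfl⟩) fun a b h => Subtype.ext (Subtype.ext (congrArg Subtype.val h :))
      obtain ⟨y, hy⟩ := IsCyclic.exists_generator (α := P')
      exact ⟨y, Subgroup.eq_top_iff' _ |>.2 hy⟩
    have hycard : orderOf (((y : C)) : Γ) = Nat.card P := by
      rw [Subgroup.orderOf_coe, Subgroup.orderOf_coe, ← Nat.card_zpowers, hy, Subgroup.card_top]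
      exact (Nat.card_congr (Subgroup.equivMapOfInjective _ _ (Subgroup.subtype_injective _)).toEquiv).symm
    obtain ⟨n, hn⟩ := IsPGroup.iff_card.1 P.2
    obtain ⟨i₁, hi₁, i₂, hi₂, hne1, hne2, hne12⟩ : ∃ i₁ ∈ R, ∃ i₂ ∈ R, i₁ ≠ 1 ∧ i₂ ≠ 1 ∧ i₁ * i₂ ≠ 1 := by
      haveI : Nontrivial R := Finite.one_lt_card_iff_nontrivial.1 (by rw [hR]; norm_num)
      obtain ⟨⟨i₁, hi₁⟩, hne⟩ := exists_ne (1 : R)
      have hne1 : i₁ ≠ 1 := fun h => hne (Subtype.ext h)
      obtain ⟨i₂, hi₂, hi2⟩ : ∃ i₂ ∈ R, i₂ ≠ 1 ∧ i₂ ≠ i₁ := by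
        by_contra hcon
        push_neg at hcon
        have : Nat.card R ≤ 2 := by
          refine (Nat.card_le_card_of_injective (fun r : R => decide ((r : Np) = 1)) fun a b h => ?_).trans (by simp)
          have h' : (a : Np) = 1 ↔ (b : Np) = 1 := decide_eq_decide.1 h
          apply Subtype.ext
          by_cases ha : (a : Np) = 1
          · rw [ha, h'.1 ha]
          · rw [hcon _ a.2 ha, hcon _ b.2 fun hb => ha (h'.2 hb)]
        omega
      refine ⟨i₁, hi₁, i₂, hi₂, hne1, hi2.1, fun h => hi2.2 ?_⟩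
      have hi : i₁ * i₁ = 1 := Subtype.ext (Subtype.ext (hRsq _ hi₁))
      exact mul_left_cancel (h.trans hi.symm)
    have hconj : ∀ r ∈ R, ((r : C) : Γ) * (((y : C)) : Γ) * ((r : C) : Γ)⁻¹ ∈ Subgroup.zpowers (((y : C)) : Γ) := by
      intro r _
      have hmem := (Subgroup.mem_normalizer_iff.1 r.2 (y : C)).1 y.2
      obtain ⟨s, hs⟩ := Subgroup.mem_zpowers_iff.1 (hy ▸ Subgroup.mem_top (⟨_, hmem⟩ : P'))
      exact Subgroup.mem_zpowers_iff.2 ⟨s, by
        have := congrArg (fun a : P' => (((a : C)) : Γ)) hs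
        push_cast at this
        exact this⟩
    obtain ⟨i, hi, hne, hci⟩ : ∃ i ∈ R, i ≠ 1 ∧ Commute ((i : C) : Γ) (((y : C)) : Γ) := by
      rcases exists_inv_commute hp hp2 (hycard.trans hn) (hconj _ hi₁) (hRsq _ hi₁) (hconj _ hi₂) (hRsq _ hi₂)
        with h | h | h
      · exact ⟨i₁, hi₁, hne1, h⟩
      · exact ⟨i₂, hi₂, hne2, h⟩
      · exact ⟨i₁ * i₂, mul_mem hi₁ hi₂, hne12, h⟩
    obtain ⟨g, hg⟩ := D.conj_jI hperf (x := ((i : C) : Γ))
      (fun h => hne (Subtype.ext (Subtype.ext h))) (hRsq _ hi)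
    have hmem : g⁻¹ * (((y : C)) : Γ) * g ∈ D.CJ := by
      rw [D.mem_CJ]
      have := commute_conj (g := g) hci
      rwa [← hg, show g⁻¹ * (g * D.jI * g⁻¹) * g = D.jI by group] at this
    have hd := Subgroup.orderOf_dvd_natCard _ hmem
    rw [orderOf_conj, hycard, D.card_CJ] at hd
    have hd' : p ^ e ∣ Fintype.card K * (Fintype.card K - 1) * (Fintype.card K + 1) := hPe.trans hd
    have hpq : ¬ p ∣ Fintype.card K * (Fintype.card K - 1) := fun h => by
      rcases hp.dvd_mul.1 h with h | h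
      · rw [D.card_eq] at h
        exact hp3 ((Nat.prime_dvd_prime_iff_eq hp Nat.prime_three).1 (hp.dvd_of_dvd_pow h))
      · exact hpq1 h
    have hd2 := ((hp.coprime_iff_not_dvd.2 hpq).pow_left e).dvd_of_dvd_mul_left hd'
    rw [← D.four_kp] at hd2
    refine ((hp.coprime_iff_not_dvd.2 fun h => ?_).pow_left e).dvd_of_dvd_mul_left hd2
    exact hp2 ((Nat.prime_dvd_prime_iff_eq hp Nat.prime_two).1 (hp.dvd_of_dvd_pow (show p ∣ 2 ^ 2 from h)))
  rw [← hQC, ← D.four_kp, mul_comm]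
  exact Nat.mul_dvd_mul_left 4 hdk

end Dat

end Cfsg.Agent.Ree
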