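import Cfsg.Agent.Lib.Ree.TorusPlusCent

/-!
The normaliser of the torus of order `(q + 1) / 4` of a small Ree group.
-/

set_option autoImplicit false
set_option linter.unusedSectionVars false

namespace Cfsg.Agent.Ree

open scoped MatrixGroups
open Cfsg.Agent

universe u v

/-- Subgroups of equal order of a finite cyclic subgroup coincide. -/
theorem eq_of_card_cyclic {G : Type*} [Group G] [Finite G] {C A B : Subgroup G} [IsCyclic C] (hA : A ≤ C)
    (hB : B ≤ C) (h : Nat.card A = Nat.card B) : A = B := by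
  classical
  haveI := Fintype.ofFinite G
  have key : ∀ A : Subgroup G, A ≤ C → (A : Set G) = {x | x ∈ C ∧ x ^ Nat.card A = 1} := by
    intro A hA
    refine Set.eq_of_subset_of_ncard_le (fun x hx => ⟨hA hx, ?_⟩) ?_ (Set.toFinite _)
    · exact congrArg Subtype.val (pow_card_eq_one' (x := (⟨x, hx⟩ : A)))
    · have hle := IsCyclic.card_pow_eq_one_le (α := C) (n := Nat.card A) Nat.card_pos
      calc {x | x ∈ C ∧ x ^ Nat.card A = 1}.ncard
          = ((Finset.univ.filter fun x : C => x ^ Nat.card A = 1).image Subtype.val).card := by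
            rw [Set.ncard_eq_toFinset_card']
            congr 1
            ext x
            rw [Set.mem_toFinset, Finset.mem_image]
            constructor
            · rintro ⟨hx, h⟩
              exact ⟨⟨x, hx⟩, Finset.mem_filter.2 ⟨Finset.mem_univ _, Subtype.ext h⟩, rfl⟩
            · rintro ⟨⟨y, hy⟩, h, rfl⟩
              exact ⟨hy, congrArg Subtype.val (Finset.mem_filter.1 h).2⟩
        _ ≤ Nat.card A := Finset.card_image_le.trans hle
        _ = (A : Set G).ncard := (Nat.card_coe_set_eq _)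
  exact SetLike.coe_injective (by rw [key A hA, key B hB, h])

/-- A subgroup of a finite cyclic subgroup is normalised by the normaliser of the latter. -/
theorem normalizer_le_of_cyclic {G : Type*} [Group G] [Finite G] {C A : Subgroup G} [IsCyclic C] (hA : A ≤ C) :
    Subgroup.normalizer (C : Set G) ≤ Subgroup.normalizer (A : Set G) := by
  intro g hg
  have h : A.map (MulAut.conj g).toMonoidHom = A := by
    refine eq_of_card_cyclic ?_ hA ?_
    · rintro _ ⟨a, ha, rfl⟩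
      exact (Subgroup.mem_normalizer_iff.1 hg a).1 (hA ha)
    · exact (Nat.card_congr (Subgroup.equivMapOfInjective _ _ (MulAut.conj g).injective).toEquiv).symm
  rw [Subgroup.mem_normalizer_iff]
  intro a
  conv_rhs => rw [← h]
  constructor
  · exact fun ha => ⟨a, ha, rfl⟩
  · rintro ⟨b, hb, e⟩
    rwa [← (MulAut.conj g).injective e]

variable {K : Type u} [Field K] [Fintype K] {Γ : Type v} [Group Γ] {m : ℕ} (D : Dat K Γ m)

namespace Dat

include D

theorem eI_ne_one (F : D.Four) : D.eI F ≠ 1 := fun e => by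
  have h1 := D.f8_inj F (a₁ := (1, Multiplicative.ofAdd 1, 1)) (a₂ := (1, 1, 1))
    (by rw [D.f8_apply, D.f8_apply, hom2_one]; simpa using e)
  simp at h1

theorem C0_sq (F : D.Four) {g : Γ} (hg : g ∈ D.C0) (h2 : g * g = 1) :
    g = 1 ∨ g = D.jI ∨ g = D.eI F ∨ g = D.jI * D.eI F := by
  classical
  haveI := D.finite
  haveI := D.isCyclic_TP
  have key : ∀ g ∈ D.TP, g * g = 1 → g = 1 ∨ g = D.eI F := by
    intro g hg h2
    by_contra hcon
    push_neg at hcon
    haveI := Fintype.ofFinite D.TP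
    have hle := IsCyclic.card_pow_eq_one_le (α := D.TP) (n := 2) two_pos
    have hsub : ({⟨1, one_mem _⟩, ⟨D.eI F, D.eI_mem_TP F⟩, ⟨g, hg⟩} : Finset D.TP) ⊆
        Finset.univ.filter fun a : D.TP => a ^ 2 = 1 := by
      intro a ha
      simp only [Finset.mem_insert, Finset.mem_singleton] at ha
      rw [Finset.mem_filter]
      refine ⟨Finset.mem_univ _, Subtype.ext ?_⟩
      rw [pow_two]
      rcases ha with rfl | rfl | rfl
      exacts [mul_one _, D.eI_sq F, h2]
    have h3 := (Finset.card_le_card hsub).trans hle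
    rw [Finset.card_insert_of_notMem, Finset.card_insert_of_notMem, Finset.card_singleton] at h3
    · omega
    · simp [Ne.symm hcon.2]
    · simp [Ne.symm hcon.1, Ne.symm (D.eI_ne_one F)]
  rcases hg with hg | hg
  · rcases key g hg h2 with e | e <;> simp [e]
  · have hc : Commute D.jI g := D.C0_comm D.jI_mem_C0 (Or.inr hg)
    rcases key _ hg (by rw [← pow_two, hc.mul_pow, pow_two, pow_two, D.jI_sq, h2, one_mul]) with e | e
    · right; left
      rw [← mul_right_inj D.jI, e, D.jI_sq]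
    · right; right; right
      rw [← e, ← mul_assoc, D.jI_sq, one_mul]

/-- The centraliser of the four-group. -/
def CE (F : D.Four) : Subgroup Γ := D.CJ ⊓ Subgroup.centralizer {D.eI F}

theorem mem_CE (F : D.Four) {g : Γ} : g ∈ D.CE F ↔ Commute D.jI g ∧ Commute (D.eI F) g := by
  rw [CE, Subgroup.mem_inf, D.mem_CJ, Subgroup.mem_centralizer_singleton_iff]
  exact Iff.rfl.and ⟨fun h => h.symm, fun h => h.symm⟩

theorem card_CE (F : D.Four) : Nat.card (D.CE F) = 2 * (Fintype.card K + 1) := by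
  classical
  haveI := D.finite
  set NT := (Subgroup.normalizer (SL2.cent (qI : SL(2, K)) : Set SL(2, K))).map D.ψ with hNT
  have hcard : Nat.card NT = Fintype.card K + 1 := by
    have h := D.ψ_card_range (S := Subgroup.normalizer (SL2.cent (qI : SL(2, K)) : Set SL(2, K)))
      (Subgroup.le_normalizer (SL2.mem_cent.2 (by simp)))
    rw [SL2.card_normalizer_cent D.qI_tr, (SL2.card_cent_noEig D.qI_noEig).1] at h
    change 2 * Nat.card NT = _ at h
    omega
  have hjN : D.jI ∉ NT := fun ⟨x, _, hx⟩ => D.ψ_ne_jI x hx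
  have hmem : ∀ g ∈ NT, g ∈ D.CE F := by
    rintro _ ⟨x, hx, rfl⟩
    refine (D.mem_CE F).2 ⟨D.ψ_comm x, ?_⟩
    show D.ψ qI * D.ψ x = D.ψ x * D.ψ qI
    rw [← map_mul, ← map_mul, D.ψ_eq_iff]
    rcases (SL2.mem_normalizer_cent D.qI_tr).1 hx with e | e <;> rw [mul_inv_eq_iff_eq_mul] at e <;> rw [e]
    · exact Or.inl rfl
    · exact Or.inr (by rw [D.qI_inv, neg_mul])
  have hj : D.jI ∈ D.CE F := (D.mem_CE F).2 ⟨Commute.refl _, (D.ψ_comm _).symm⟩
  let f : NT ⊕ NT → D.CE F := Sum.elim (fun g => ⟨g, hmem _ g.2⟩)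
    (fun g => ⟨D.jI * g, mul_mem hj (hmem _ g.2)⟩)
  have hf : Function.Bijective f := by
    constructor
    · rintro (a | a) (b | b) h <;> replace h := congrArg Subtype.val h <;>
        simp only [f, Sum.elim_inl, Sum.elim_inr] at h
      · rw [Subtype.ext h]
      · exact absurd ((Subgroup.mul_mem_cancel_right _ b.2).1 (h ▸ a.2)) hjN
      · exact absurd ((Subgroup.mul_mem_cancel_right _ a.2).1 (h.symm ▸ b.2)) hjN
      · rw [Subtype.ext (mul_left_cancel h)]
    · rintro ⟨g, hg⟩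
      obtain ⟨h1, h2⟩ := (D.mem_CE F).1 hg
      obtain ⟨x, hx, hgx, -⟩ := D.cent_E4_cases F h1 h2
      have hN : D.ψ x ∈ NT := ⟨x, (SL2.mem_normalizer_cent D.qI_tr).2 hx, rfl⟩
      rcases hgx with rfl | rfl
      exacts [⟨Sum.inl ⟨_, hN⟩, rfl⟩, ⟨Sum.inr ⟨_, hN⟩, rfl⟩]
  rw [← Nat.card_eq_of_bijective f hf, Nat.card_sum, hcard]
  ring

theorem exists_cycle (hperf : commutator Γ = ⊤) (F : D.Four) :
    ∃ z : Γ, z * D.jI * z⁻¹ = D.eI F ∧ z * D.eI F * z⁻¹ = D.jI * D.eI F := by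
  have hI : D.eI F ∈ D.orb F := by rw [D.orb_eq F hperf]; exact ⟨D.eI_mem F, D.eI_ne_one F⟩
  obtain ⟨n₀, hn₀, e₀⟩ := hI
  set n := n₀⁻¹ with hn
  have en : n * D.eI F * n⁻¹ = D.jI := by rw [← e₀, hn]; group
  set s := n * D.eK F * n⁻¹ with hs
  set c := n * D.e3 F * n⁻¹ with hc
  obtain ⟨f1, f2, f3⟩ := D.e3_conj F
  have hmap : ∀ a b : Γ, D.e3 F * a * (D.e3 F)⁻¹ = b → c * (n * a * n⁻¹) * c⁻¹ = n * b * n⁻¹ := by
    intro a b h; rw [hc, ← h]; group
  have hprod : n * (D.eI F * D.eK F) * n⁻¹ = D.jI * s := by rw [← en, hs]; group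
  have c1 : c * D.jI * c⁻¹ = D.jI * s := by rw [← hprod, ← en]; exact hmap _ _ f1
  have c2 : c * s * c⁻¹ = D.jI := by rw [← en, hs]; exact hmap _ _ f2
  have c3 : c * (D.jI * s) * c⁻¹ = s := by rw [← hprod, hs]; exact hmap _ _ f3
  have hsS : s ∈ D.S8 F := (Subgroup.mem_normalizer_iff.1 (inv_mem hn₀) _).1 (D.eK_mem F)
  have hs1 : s ≠ 1 := fun h => by
    rw [h] at c2
    exact D.jI_ne (c2.symm.trans (by group))
  have hsj : s ≠ D.jI := fun h => by
    rw [h, D.jI_sq] at c1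
    exact D.jI_ne (conj_eq_one_iff.1 c1)
  have ej : ∀ a : Γ, D.jI * (D.jI * a) = a := fun a => by rw [← mul_assoc, D.jI_sq, one_mul]
  -- an element fixing the torus involution and moving a suitable involution to `eI`
  have mv : ∀ t : Γ, t = D.eI F ∨ t = D.eK F ∨ t = D.eI F * D.eK F →
      ∃ h : Γ, h * D.jI * h⁻¹ = D.jI ∧ h * t * h⁻¹ = D.eI F := by
    have h3 : D.e3 F * D.jI * (D.e3 F)⁻¹ = D.jI := by rw [← (D.ψ_comm _).eq, mul_inv_cancel_right]
    rintro t (rfl | rfl | rfl)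
    · exact ⟨1, by group, by group⟩
    · exact ⟨D.e3 F, h3, f2⟩
    · refine ⟨(D.e3 F)⁻¹, ?_, ?_⟩
      · calc (D.e3 F)⁻¹ * D.jI * ((D.e3 F)⁻¹)⁻¹ = (D.e3 F)⁻¹ * (D.e3 F * D.jI * (D.e3 F)⁻¹) * D.e3 F := by
              rw [h3]; group
          _ = D.jI := by group
      · rw [← f1]; group
  have main : ∀ t : Γ, t = D.eI F ∨ t = D.eK F ∨ t = D.eI F * D.eK F → ∀ d : Γ,
      d * D.jI * d⁻¹ = t → d * t * d⁻¹ = D.jI * t →
      ∃ z : Γ, z * D.jI * z⁻¹ = D.eI F ∧ z * D.eI F * z⁻¹ = D.jI * D.eI F := by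
    intro t ht d hd1 hd2
    obtain ⟨h, hh1, hh2⟩ := mv t ht
    have hh1' : h⁻¹ * D.jI * h = D.jI := by
      calc h⁻¹ * D.jI * h = h⁻¹ * (h * D.jI * h⁻¹) * h := by rw [hh1]
        _ = D.jI := by group
    refine ⟨h * d * h⁻¹, ?_, ?_⟩
    · calc h * d * h⁻¹ * D.jI * (h * d * h⁻¹)⁻¹ = h * (d * (h⁻¹ * D.jI * h) * d⁻¹) * h⁻¹ := by group
        _ = D.eI F := by rw [hh1', hd1, hh2]
    · rw [← hh2]
      calc h * d * h⁻¹ * (h * t * h⁻¹) * (h * d * h⁻¹)⁻¹ = (h * (d * t * d⁻¹) * h⁻¹) := by group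
        _ = (h * D.jI * h⁻¹) * (h * t * h⁻¹) := by rw [hd2]; group
        _ = D.jI * (h * t * h⁻¹) := by rw [hh1]
  rcases D.S8_cases F hsS with e | e | e | e
  · exact absurd e hs1
  · exact absurd e hsj
  · refine main s e c⁻¹ ?_ ?_
    · calc c⁻¹ * D.jI * (c⁻¹)⁻¹ = c⁻¹ * (c * s * c⁻¹) * c := by rw [c2]; group
        _ = s := by group
    · calc c⁻¹ * s * (c⁻¹)⁻¹ = c⁻¹ * (c * (D.jI * s) * c⁻¹) * c := by rw [c3]; group
        _ = D.jI * s := by group
  · refine main (D.jI * s) ?_ c c1 (by rw [c3, ej])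
    rcases e with e | e | e <;> rw [e, ej] <;> simp

theorem normalizes_C0 (hperf : commutator Γ = ⊤) (ρ : Γ →* GL (Fin 7) K) (hρ : Function.Injective ρ)
    {g x : Γ} (hx : x ∈ D.AP) (h1 : x ≠ 1) (h : g * x * g⁻¹ ∈ D.AP) :
    g ∈ Subgroup.normalizer (D.C0 : Set Γ) := by
  rw [Subgroup.mem_normalizer_iff]
  intro a
  have e1 := D.centralizer_AP_elt hperf ρ hρ hx h1
  have e2 := D.centralizer_AP_elt hperf ρ hρ h (fun e => h1 (conj_eq_one_iff.1 e))
  conv_lhs => rw [← e1]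
  conv_rhs => rw [← e2]
  rw [Subgroup.mem_centralizer_singleton_iff, Subgroup.mem_centralizer_singleton_iff]
  constructor
  · intro e
    calc g * a * g⁻¹ * (g * x * g⁻¹) = g * (a * x) * g⁻¹ := by group
      _ = _ := by rw [e]; group
  · intro e
    calc a * x = g⁻¹ * (g * a * g⁻¹ * (g * x * g⁻¹)) * g := by group
      _ = _ := by rw [e]; group

theorem normalizer_C0_le : Subgroup.normalizer (D.C0 : Set Γ) ≤ Subgroup.normalizer (D.AP : Set Γ) := by
  intro g hg
  rw [Subgroup.mem_normalizer_iff] at hg ⊢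
  intro a
  rw [D.mem_AP, D.mem_AP, ← hg, conj_pow, conj_eq_one_iff]

theorem mem_normalizer_AP_of_conj (hperf : commutator Γ = ⊤) (ρ : Γ →* GL (Fin 7) K)
    (hρ : Function.Injective ρ) {g x : Γ} (hx : x ∈ D.AP) (h1 : x ≠ 1) (h : g * x * g⁻¹ ∈ D.AP) :
    g ∈ Subgroup.normalizer (D.AP : Set Γ) :=
  D.normalizer_C0_le (D.normalizes_C0 hperf ρ hρ hx h1 h)

theorem normalizer_AP (hm : 1 ≤ m) (hperf : commutator Γ = ⊤) (ρ : Γ →* GL (Fin 7) K)
    (hρ : Function.Injective ρ) :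
    Nat.card (Subgroup.normalizer (D.AP : Set Γ)) = 6 * (Fintype.card K + 1) ∧
      Subgroup.normalizer (D.AP : Set Γ) = Subgroup.normalizer (D.C0 : Set Γ) := by
  classical
  haveI := D.finite
  obtain ⟨F⟩ := D.nonempty_four
  obtain ⟨⟨x, hx⟩, hx1⟩ := (nontrivial_iff_exists_ne (1 : D.AP)).1
    ((Subgroup.nontrivial_iff_ne_bot _).2 (D.AP_ne_bot hm))
  have h1 : x ≠ 1 := fun e => hx1 (Subtype.ext e)
  have hEq : Subgroup.normalizer (D.AP : Set Γ) = Subgroup.normalizer (D.C0 : Set Γ) :=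
    le_antisymm (fun g hg => D.normalizes_C0 hperf ρ hρ hx h1 ((Subgroup.mem_normalizer_iff.1 hg x).1 hx))
      D.normalizer_C0_le
  refine ⟨?_, hEq⟩
  set N := Subgroup.normalizer (D.AP : Set Γ) with hN
  set T : Set Γ := {D.jI, D.eI F, D.jI * D.eI F} with hT
  have hTcard : Nat.card T = 3 := by
    have hne : D.jI ≠ D.eI F := fun e => D.ψ_ne_jI qI e.symm
    rw [Nat.card_coe_set_eq, hT, Set.ncard_insert_of_notMem, Set.ncard_insert_of_notMem, Set.ncard_singleton]
    · simp only [Set.mem_singleton_iff]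
      exact fun e => D.jI_ne (mul_eq_right.1 e.symm)
    · simp only [Set.mem_insert_iff, Set.mem_singleton_iff, not_or]
      exact ⟨hne, fun e => D.eI_ne_one F (mul_eq_left.1 e.symm)⟩
  have hNT : ∀ g ∈ N, g * D.jI * g⁻¹ ∈ T := by
    intro g hg
    rw [hEq] at hg
    rcases D.C0_sq F ((Subgroup.mem_normalizer_iff.1 hg _).1 D.jI_mem_C0)
      (by rw [show g * D.jI * g⁻¹ * (g * D.jI * g⁻¹) = g * (D.jI * D.jI) * g⁻¹ by group, D.jI_sq]; group)
      with e | e
    · exact absurd (conj_eq_one_iff.1 e) D.jI_ne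
    · exact e
  have hstab : ∀ g, g ∈ N ∧ Commute D.jI g ↔ g ∈ D.CE F := by
    intro g
    rw [D.mem_CE]
    constructor
    · rintro ⟨hg, hj⟩
      refine ⟨hj, ?_⟩
      rw [hEq] at hg
      have hjfix : g * D.jI * g⁻¹ = D.jI := by rw [← hj.eq, mul_inv_cancel_right]
      rcases D.C0_sq F ((Subgroup.mem_normalizer_iff.1 hg _).1 (Or.inl (D.eI_mem_TP F)))
        (by rw [show g * D.eI F * g⁻¹ * (g * D.eI F * g⁻¹) = g * (D.eI F * D.eI F) * g⁻¹ by group, D.eI_sq]
            group) with e | e | e | e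
      · exact absurd (conj_eq_one_iff.1 e) (D.eI_ne_one F)
      · exact absurd (mul_left_cancel (mul_right_cancel (e.trans hjfix.symm))) fun e' => D.ψ_ne_jI qI e'
      · exact (mul_inv_eq_iff_eq_mul.1 e).symm
      · exfalso
        obtain ⟨y, hy⟩ := D.CJ_cases hj
        refine D.ψ_ne_jI (y * qI * y⁻¹ * qI⁻¹) ?_
        rw [map_mul, map_inv]
        have : g * D.eI F * g⁻¹ = D.ψ (y * qI * y⁻¹) := by
          rw [map_mul, map_mul, map_inv]
          rcases hy with rfl | rfl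
          · rfl
          · rw [show D.jI * D.ψ y * D.eI F * (D.jI * D.ψ y)⁻¹ =
              D.jI * (D.ψ y * D.eI F * (D.ψ y)⁻¹) * D.jI⁻¹ by group]
            rw [eI, ← map_inv, ← map_mul, ← map_mul, (D.ψ_comm _).eq, mul_inv_cancel_right]
        rw [← this, e, eI, mul_inv_cancel_right]
    · rintro ⟨hj, hI⟩
      refine ⟨?_, hj⟩
      rw [Subgroup.mem_normalizer_iff]
      intro a
      rw [D.mem_AP_iff F, D.mem_AP_iff F, conj_pow, conj_eq_one_iff]
      have key : ∀ t, Commute t g → (Commute t a ↔ Commute t (g * a * g⁻¹)) := fun t ht =>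
        ⟨fun h => (ht.mul_right h).mul_right ht.inv_right, fun h => by
          have := (ht.inv_right.mul_right h).mul_right ht
          rwa [show g⁻¹ * (g * a * g⁻¹) * g = a by group] at this⟩
      rw [key _ hj, key _ hI]
  obtain ⟨z, hz1, hz2⟩ := D.exists_cycle hperf F
  have hzN : z ∈ N := by
    refine D.mem_normalizer_AP_of_conj hperf ρ hρ hx h1 ((D.mem_AP_iff F).2 ?_)
    obtain ⟨a1, a2, a3⟩ := (D.mem_AP_iff F).1 hx
    have b1 : Commute (D.eI F) (z * x * z⁻¹) := by rw [← hz1]; exact (Commute.conj_iff z).2 a1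
    have b2 : Commute (D.jI * D.eI F) (z * x * z⁻¹) := by rw [← hz2]; exact (Commute.conj_iff z).2 a2
    refine ⟨?_, b1, by rw [conj_pow, a3]; group⟩
    have := b2.mul_left b1
    rwa [mul_assoc, D.eI_sq, mul_one] at this
  letI : MulAction ↥N Γ := MulAction.compHom Γ ((MulAut.conj (G := Γ)).comp N.subtype)
  have hs : MulAction.stabilizer ↥N D.jI = (D.CE F).subgroupOf N := by
    ext g
    rw [MulAction.mem_stabilizer_iff, Subgroup.mem_subgroupOf, ← hstab]
    show (g : Γ) * D.jI * (g : Γ)⁻¹ = D.jI ↔ _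
    rw [mul_inv_eq_iff_eq_mul]
    exact ⟨fun h => ⟨g.2, h.symm⟩, fun h => h.2.eq.symm⟩
  have ho : MulAction.orbit ↥N D.jI = T := by
    refine Set.Subset.antisymm (fun y ⟨g, hg⟩ => hg ▸ hNT _ g.2) ?_
    rintro y (rfl | rfl | rfl)
    · exact MulAction.mem_orbit_self _
    · exact ⟨⟨z, hzN⟩, hz1⟩
    · refine ⟨⟨z * z, mul_mem hzN hzN⟩, ?_⟩
      show z * z * D.jI * (z * z)⁻¹ = _
      rw [show z * z * D.jI * (z * z)⁻¹ = z * (z * D.jI * z⁻¹) * z⁻¹ by group, hz1, hz2]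
  have h := (MulAction.stabilizer ↥N D.jI).card_mul_index
  rw [MulAction.index_stabilizer, ho, hs,
    Nat.card_congr (Subgroup.subgroupOfEquivOfLe fun g hg => ((hstab g).2 hg).1).toEquiv, D.card_CE,
    ← Nat.card_coe_set_eq, hTcard] at h
  rw [← h]; ring

theorem normalizer_AP_sub (hm : 1 ≤ m) (hperf : commutator Γ = ⊤) (ρ : Γ →* GL (Fin 7) K)
    (hρ : Function.Injective ρ) {A₀ : Subgroup Γ} (hle : A₀ ≤ D.AP) (hne : A₀ ≠ ⊥) :
    Subgroup.normalizer (A₀ : Set Γ) = Subgroup.normalizer (D.AP : Set Γ) := by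
  haveI := D.finite
  haveI := D.isCyclic_AP
  refine le_antisymm (fun g hg => ?_) (normalizer_le_of_cyclic hle)
  obtain ⟨⟨x, hx⟩, hx1⟩ := (nontrivial_iff_exists_ne (1 : A₀)).1 ((Subgroup.nontrivial_iff_ne_bot _).2 hne)
  exact D.mem_normalizer_AP_of_conj hperf ρ hρ (hle hx) (fun e => hx1 (Subtype.ext e))
    (hle ((Subgroup.mem_normalizer_iff.1 hg x).1 hx))

end Dat

end Cfsg.Agent.Ree
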