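import Cfsg.Agent.Lib.Ree.TorusPlusNorm

/-!
A small Ree group is generated by two elements.
-/

set_option autoImplicit false
set_option linter.unusedSectionVars false

namespace Cfsg.Agent.Ree

universe u v

variable {K : Type u} [Field K] [Fintype K] {Γ : Type v} [Group Γ] {m : ℕ} (D : Dat K Γ m)

namespace Dat

include D

theorem exists_two_generators (hm : 1 ≤ m) : ∃ a b : Γ, Subgroup.closure {a, b} = ⊤ := by
  classical
  obtain ⟨ζ, hζ⟩ := IsCyclic.exists_generator (α := Kˣ)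
  refine ⟨D.H ζ, D.U 1 0 0 * D.w, ?_⟩
  set L := Subgroup.closure {D.H ζ, D.U 1 0 0 * D.w} with hL
  have hbL : D.U 1 0 0 * D.w ∈ L := Subgroup.subset_closure (by simp)
  have haL : D.H ζ ∈ L := Subgroup.subset_closure (by simp)
  have hHL : ∀ z : Kˣ, D.H z ∈ L := fun z => by
    obtain ⟨i, rfl⟩ := Subgroup.mem_zpowers_iff.1 (hζ z)
    rw [map_zpow]; exact zpow_mem haL i
  have hζ2 : (ζ : K) ≠ 1 ∧ (ζ : K) ≠ -1 := by
    have ho : orderOf ζ = Fintype.card K - 1 := by
      rw [orderOf_eq_card_of_forall_mem_zpowers hζ, Nat.card_eq_fintype_card, Fintype.card_units]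
    have hq : 3 ^ 3 ≤ Fintype.card K := D.card_eq ▸ Nat.pow_le_pow_right (by norm_num) (by omega)
    constructor <;> intro e
    · rw [show ζ = 1 from Units.ext e, orderOf_one] at ho; omega
    · have hd : orderOf ζ ∣ 2 := orderOf_dvd_of_pow_eq_one (Units.ext (by push_cast; rw [e]; ring))
      rw [ho] at hd
      have := Nat.le_of_dvd two_pos hd
      omega
  have hconj : ∀ z t u v, D.U t u v ∈ L → D.U (w1 D.σ (z : Kˣ) * t) (w2 D.σ (z : Kˣ) * u) ((z : K) * v) ∈ L :=
    fun z t u v h => by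
      rw [← D.H_U]; exact mul_mem (mul_mem (hHL z) h) (inv_mem (hHL z))
  have hw1 : w1 D.σ ((ζ⁻¹ : Kˣ) : K) ≠ 1 := fun h => hζ2.1 (by
    have := (D.w1_eq_one (Units.ne_zero _)).1 h
    rwa [Units.val_inv_eq_inv_val, inv_eq_one] at this)
  obtain ⟨t₀, ht0, u₀, v₀, h0⟩ : ∃ t₀, t₀ ≠ 0 ∧ ∃ u₀ v₀, D.U t₀ u₀ v₀ ∈ L := by
    have h : D.U 1 0 0 * ((D.H ζ⁻¹) * (D.U 1 0 0)⁻¹ * (D.H ζ⁻¹)⁻¹) ∈ L := by
      have hconjb : D.U 1 0 0 * D.w * D.H ζ * (D.U 1 0 0 * D.w)⁻¹ ∈ L := mul_mem (mul_mem hbL haL) (inv_mem hbL)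
      rw [mul_inv_rev, D.w_inv, show D.U 1 0 0 * D.w * D.H ζ * (D.w * (D.U 1 0 0)⁻¹) =
        D.U 1 0 0 * (D.w * D.H ζ * D.w) * (D.U 1 0 0)⁻¹ by group, D.w_H] at hconjb
      have := mul_mem hconjb (hHL ζ)
      rw [map_inv] at this ⊢
      rwa [inv_inv, ← mul_assoc, ← mul_assoc]
    rw [D.U_inv, D.H_U, D.U_mul] at h
    exact ⟨_, fun e => hw1 (by linear_combination -e), _, _, h⟩
  have hw1s : ∀ t : K, t ≠ 0 → ∃ z : Kˣ, w1 D.σ (z : K) = t := by
    let f : Kˣ →* Kˣ := MonoidHom.mk' (fun z => Units.mk0 (w1 D.σ (z : K)) (by simp [w1]))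
      fun a b => Units.ext (by simp [w1]; field_simp; try ring)
    have hf : Function.Injective f := by
      rw [← MonoidHom.ker_eq_bot_iff, eq_bot_iff]
      intro z hz
      exact Units.ext ((D.w1_eq_one (Units.ne_zero z)).1 (congrArg Units.val (MonoidHom.mem_ker.1 hz)))
    intro t ht
    obtain ⟨z, hz⟩ := (Finite.injective_iff_surjective.1 hf) (Units.mk0 t ht)
    exact ⟨z, congrArg Units.val hz⟩
  have hT : ∀ t : K, ∃ u v, D.U t u v ∈ L := by
    intro t
    by_cases ht : t = 0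
    · exact ⟨0, 0, by rw [ht, D.U_zero]; exact one_mem _⟩
    · obtain ⟨z, hz⟩ := hw1s (t / t₀) (div_ne_zero ht ht0)
      have := hconj z _ _ _ h0
      rw [hz, div_mul_cancel₀ t ht0] at this
      exact ⟨_, _, this⟩
  have hV : ∀ v : K, D.U 0 0 v ∈ L := by
    intro v
    by_cases hv : v = 0
    · rw [hv, D.U_zero]; exact one_mem _
    obtain ⟨u, v', h⟩ := hT 1
    have h3 := pow_mem h 3
    rw [D.U_cube, map_one] at h3
    have := hconj (Units.mk0 (-v) (neg_ne_zero.2 hv)) _ _ _ h3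
    simpa using this
  have hUV : ∀ u v v', D.U 0 u v ∈ L → D.U 0 u v' ∈ L := fun u v v' h => by
    have := mul_mem h (hV (v' - v))
    rwa [D.U_layer, add_zero, add_sub_cancel] at this
  obtain ⟨u₁, hu1, v₁, h1⟩ : ∃ u₁, u₁ ≠ 0 ∧ ∃ v₁, D.U 0 u₁ v₁ ∈ L := by
    obtain ⟨a, b, hx⟩ := hT 1
    obtain ⟨c, d, hy⟩ := hT (ζ : K)
    have hxy := mul_mem hx hy
    have hyx := mul_mem hy hx
    have h := mul_mem hxy (inv_mem hyx)
    rw [D.U_mul, D.U_mul, D.U_inv, D.U_mul, show (1 : K) + ζ + -((ζ : K) + 1) = 0 by ring] at h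
    refine ⟨_, fun e => ?_, _, h⟩
    simp only [map_one, map_add, map_neg] at e
    have h2 : D.σ (ζ : K) = (ζ : K) := by linear_combination -e
    have h3 : (ζ : K) ^ 3 = ζ := by rw [← D.σσ, h2, h2]
    have h4 : (ζ : K) * ((ζ : K) ^ 2 - 1) = 0 := by linear_combination h3
    rcases sq_eq_one_iff.1 (sub_eq_zero.1 ((mul_eq_zero.1 h4).resolve_left (Units.ne_zero ζ))) with h5 | h5
    exacts [hζ2.1 h5, hζ2.2 h5]
  let U2 : AddSubgroup K :=
    { carrier := {u | D.U 0 u 0 ∈ L}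
      zero_mem' := by show D.U 0 0 0 ∈ L; exact hV 0
      add_mem' := fun {a b} ha hb => by
        show D.U 0 (a + b) 0 ∈ L
        have := mul_mem (show D.U 0 a 0 ∈ L from ha) hb
        rwa [D.U_layer, add_zero] at this
      neg_mem' := fun {a} ha => by
        show D.U 0 (-a) 0 ∈ L
        have := inv_mem (show D.U 0 a 0 ∈ L from ha)
        simpa [D.U_inv] using this }
  have hsq : ∀ x : K, x ^ 2 * u₁ ∈ U2 := by
    intro x
    by_cases hx : x = 0
    · rw [hx]; simp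
    let f : Kˣ →* Kˣ := MonoidHom.mk' (fun z => Units.mk0 (w2 D.σ (z : K)) (by simp [w2]))
      fun a b => Units.ext (by simp [w2]; field_simp; try ring)
    have hker : Nat.card f.ker ≤ 2 := by
      refine (Nat.card_le_card_of_injective (fun z : f.ker => decide ((z : Kˣ) = 1)) fun z z' h => ?_).trans (by simp)
      have key : ∀ z : f.ker, (z : Kˣ) = 1 ∨ (z : Kˣ) = -1 := by
        intro z
        have he : w2 D.σ ((z : Kˣ) : K) = 1 := congrArg Units.val (MonoidHom.mem_ker.1 z.2)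
        rw [w2, div_eq_one_iff_eq (Units.ne_zero _)] at he
        have h3 : ((z : Kˣ) : K) ^ 3 = (z : Kˣ) := by rw [← D.σσ, he, he]
        have h4 : ((z : Kˣ) : K) * (((z : Kˣ) : K) ^ 2 - 1) = 0 := by linear_combination h3
        exact (sq_eq_one_iff.1 (sub_eq_zero.1 ((mul_eq_zero.1 h4).resolve_left (Units.ne_zero _)))).imp Units.ext
          fun e => Units.ext e
      have h' : (z : Kˣ) = 1 ↔ (z' : Kˣ) = 1 := decide_eq_decide.1 h
      apply Subtype.ext
      rcases key z with e | e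
      · rw [e, h'.1 e]
      · rcases key z' with e' | e'
        · rw [e', h'.2 e']
        · rw [e, e']
    -- the image of the weight is the group of squares
    have himg : f.range = (powMonoidHom 2 : Kˣ →* Kˣ).range := by
      obtain ⟨k, hk, hq⟩ := D.exists_odd_half
      have hsqc := IsCyclic.card_powMonoidHom_range (G := Kˣ) 2
      rw [Nat.card_eq_fintype_card (α := Kˣ), Fintype.card_units, hq, Nat.add_sub_cancel,
        Nat.gcd_mul_right_left, Nat.mul_div_cancel_left k two_pos] at hsqc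
      have hfc := f.ker.card_mul_index
      rw [Subgroup.index_ker, Nat.card_eq_fintype_card (α := Kˣ), Fintype.card_units, hq,
        Nat.add_sub_cancel] at hfc
      have hker2 : Nat.card f.ker = 2 := by
        have hm1 : (-1 : Kˣ) ∈ f.ker := MonoidHom.mem_ker.2 (Units.ext (by simp [f, w2]))
        have hne : f.ker ≠ ⊥ := fun e => D.neg_one_ne (by rw [e, Subgroup.mem_bot] at hm1; exact hm1)
        have := f.ker.one_lt_card_iff_ne_bot.2 hne
        omega
      rw [hker2] at hfc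
      exact eq_of_card_cyclic (C := ⊤) le_top le_top (by omega)
    obtain ⟨z, hz⟩ : (Units.mk0 x hx) ^ 2 ∈ f.range := himg ▸ ⟨Units.mk0 x hx, rfl⟩
    have hz' : w2 D.σ (z : K) = x ^ 2 := congrArg Units.val hz
    have := hconj z _ _ _ h1
    rw [mul_zero, hz'] at this
    exact hUV _ _ _ this
  have hU2 : ∀ u : K, D.U 0 u 0 ∈ L := by
    intro u
    obtain ⟨a, b, h⟩ := FiniteField.exists_root_sum_quadratic (R := K)
      (f := Polynomial.X ^ 2) (g := Polynomial.X ^ 2 + Polynomial.C (-(u / u₁)))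
      (Polynomial.degree_X_pow 2) (Polynomial.degree_X_pow_add_C (by norm_num) _)
      (by rw [D.card_eq, Nat.pow_mod]; simp)
    simp at h
    have hu : u / u₁ = a ^ 2 + b ^ 2 := by linear_combination -h
    rw [div_eq_iff hu1, add_mul] at hu
    rw [hu]
    exact U2.add_mem (hsq a) (hsq b)
  have hU : ∀ t u v, D.U t u v ∈ L := by
    intro t u v
    obtain ⟨u', v', h⟩ := hT t
    have := mul_mem h (mul_mem (hU2 (u - u')) (hV (v - v')))
    rw [D.U_layer, D.U_mul] at this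
    simpa using this
  have hw : D.w ∈ L := by
    have := mul_mem (inv_mem (hU 1 0 0)) hbL
    rwa [inv_mul_cancel_left] at this
  refine eq_top_iff.2 fun g _ => ?_
  rcases D.cases g with ⟨t, u, v, z, rfl⟩ | ⟨t, u, v, z, a, b, c, rfl⟩
  · exact mul_mem (hU _ _ _) (hHL z)
  · exact mul_mem (mul_mem (mul_mem (hU _ _ _) (hHL z)) hw) (hU _ _ _)

end Dat

end Cfsg.Agent.Ree
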